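/-
The odd Sylow subgroups of `PSL₂(2^n)` and `Sz(q)` are cyclic (owner: helper28).

Main results (namespace `Cfsg.Agent.OddTrans`): `psl_odd_sylow_cyclic`, `sz_odd_sylow_cyclic`.
-/
import Cfsg.Agent.Lib.PSL2.SolTools
import Cfsg.Agent.Lib.Suzuki.Partition
import Cfsg.Agent.Lib.Suzuki.LieModel

set_option autoImplicit false
set_option linter.unusedSectionVars false

namespace Cfsg.Agent.OddTrans

theorem psl_odd_sylow_cyclic {F : Type*} [Field F] [Finite F] [CharP F 2] {p : ℕ} [Fact p.Prime] (hp : p ≠ 2)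
    (P : Sylow p (PSL2.PSL2 F)) : IsCyclic (P : Subgroup (PSL2.PSL2 F)) := by
  haveI : Fact (Nat.Prime 2) := ⟨Nat.prime_two⟩
  obtain ⟨k, hk⟩ := IsPGroup.iff_card.1 P.isPGroup'
  have hodd : ¬ 2 ∣ Nat.card (P : Subgroup (PSL2.PSL2 F)) := by
    rw [hk]
    intro h
    exact hp ((Nat.prime_dvd_prime_iff_eq Nat.prime_two (Fact.out : p.Prime)).1
      (Nat.prime_two.dvd_of_dvd_pow h)).symm
  rcases PSL2.psl_dickson 2 (P : Subgroup (PSL2.PSL2 F)) with ⟨h, -⟩ | ⟨-, hc, -⟩ | ⟨n, -, -, -, h, -, -⟩ |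
    ⟨-, h⟩ | ⟨h, -⟩ | ⟨R, m, hm, hR, h⟩
  · exact absurd h hodd
  · exact hc
  · exact absurd (Dvd.intro n h.symm) hodd
  · exfalso
    apply hodd
    rcases h with ⟨⟨e⟩⟩ | ⟨⟨e⟩⟩ | ⟨⟨e⟩⟩ <;> rw [Nat.card_congr e.toEquiv] <;>
      first
      | (rw [PSL2.card_alt_four]; norm_num; done)
      | (rw [PSL2.card_perm_four]; norm_num; done)
      | (rw [PSL2.card_alt_five]; norm_num)
  · exact absurd h (by norm_num)
  · rcases h with ⟨⟨e⟩⟩ | ⟨h, -⟩
    · exfalso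
      apply hodd
      haveI := PSL2.charP_subfield 2 R
      haveI : Finite R := inferInstance
      rw [Nat.card_congr e.toEquiv]
      obtain ⟨n, hn, hn', ⟨-, he, hd, -⟩ | ⟨h', -⟩⟩ := PSL2.q_cases (F := R) 2
      · have hc := PSL2.card_psl_mul (F := R)
        rw [hd, one_mul] at hc
        rw [hc]
        exact dvd_mul_of_dvd_left (even_iff_two_dvd.1 he) _
      · exact absurd rfl h'
    · exact absurd rfl h

theorem sz_odd_sylow_cyclic {F : Type} [Field F] [Fintype F] {m : ℕ} (hm : 1 ≤ m)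
    (hF : Fintype.card F = 2 ^ (2 * m + 1)) {p : ℕ} [Fact p.Prime] (hp : p ≠ 2)
    (P : Sylow p ↥(Cfsg.Lie.Sz F (2 ^ (m + 1)))) :
    IsCyclic (P : Subgroup ↥(Cfsg.Lie.Sz F (2 ^ (m + 1)))) := by
  set e := Suzuki.lieEquiv (F := F) hm hF
  let P' : Sylow p (Cfsg.Sz F m) := P.comapOfInjective e.toMonoidHom e.injective (by
    rw [MonoidHom.range_eq_top_of_surjective _ e.surjective]; exact le_top)
  haveI hc : IsCyclic P' := Suzuki.sylow_odd_cyclic hm hF hp P'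
  exact isCyclic_of_surjective ((e.toMonoidHom.comp (P' : Subgroup (Cfsg.Sz F m)).subtype).codRestrict
    (P : Subgroup ↥(Cfsg.Lie.Sz F (2 ^ (m + 1)))) fun a => a.2) fun b => ⟨⟨e.symm b.1, by
      show e (e.symm b.1) ∈ (P : Subgroup _)
      rw [e.apply_symm_apply]; exact b.2⟩, Subtype.ext (e.apply_symm_apply b.1)⟩

end Cfsg.Agent.OddTrans
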