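/-
Sets of odd transpositions (owner: helper28): the elementary lemmas.

Main results (namespace `Cfsg.Agent.OddTrans`):
* `OT` : conjugation invariant involutions, two of them commuting or with product of odd order
* `commute_of_commute_mul` : commuting with a product of two commuting members means commuting with both
* `exists_middle` : the member swapping two non-commuting members
* `OT.quot`, `OT.sub` : passage to quotients by 2-groups and to subgroups
-/
import Cfsg.Agent.Lib.Involution.Basic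
import Cfsg.Agent.Lib.Cores.Basic

set_option autoImplicit false
set_option linter.unusedSectionVars false

namespace Cfsg.Agent.OddTrans

open Cfsg

variable {G : Type*} [Group G]

/-- A conjugation invariant set of involutions, any two commuting or with product of odd order. -/
structure OT (D : Set G) : Prop where
  inv : ∀ d ∈ D, orderOf d = 2
  conj : ∀ g : G, ∀ d ∈ D, g * d * g⁻¹ ∈ D
  pair : ∀ a ∈ D, ∀ b ∈ D, Commute a b ∨ Odd (orderOf (a * b))

theorem ot_of_isOddTranspositionSet {D : Set G} (h : IsOddTranspositionSet D) : OT D where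
  inv := h.1.orderOf_eq
  conj g d hd := h.1.conj_mem d hd g
  pair a ha b hb := by
    rcases h.1.pair a ha b hb with e | e | e
    · exact Or.inl e
    · exact Or.inr e
    · exact absurd e.1 (h.2 a ha b hb)

/-- Two members commute with the same members. -/
def SameC (D : Set G) (a b : G) : Prop := ∀ y ∈ D, Commute y a ↔ Commute y b

theorem SameC.symm {D : Set G} {a b : G} (h : SameC D a b) : SameC D b a := fun y hy => (h y hy).symm

theorem SameC.refl (D : Set G) (a : G) : SameC D a a := fun _ _ => Iff.rfl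

theorem SameC.trans {D : Set G} {a b c : G} (h : SameC D a b) (h' : SameC D b c) : SameC D a c :=
  fun y hy => (h y hy).trans (h' y hy)

/-- An odd order element of a 2-group is trivial. -/
theorem eq_one_of_odd_mem {N : Subgroup G} (hN : IsPGroup 2 N) {x : G} (hx : x ∈ N)
    (ho : Odd (orderOf x)) : x = 1 := by
  obtain ⟨k, hk⟩ := hN ⟨x, hx⟩
  have h1 : x ^ 2 ^ k = 1 := congrArg Subtype.val hk
  exact orderOf_eq_one_iff.1
    (Nat.eq_one_of_dvd_coprimes ((Nat.coprime_two_left.2 ho).pow_left k) (orderOf_dvd_of_pow_eq_one h1)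
      dvd_rfl)

section conj

theorem conj_commute_iff {v a b : G} : Commute (v * a * v⁻¹) (v * b * v⁻¹) ↔ Commute a b := by
  constructor
  · intro h
    have h' := h.map (MulAut.conj v⁻¹).toMonoidHom
    simpa [mul_assoc] using h'
  · intro h
    simpa using h.map (MulAut.conj v).toMonoidHom

theorem conj_eq_of_commute {g x : G} (h : Commute g x) : g * x * g⁻¹ = x := by
  rw [h.eq, mul_inv_cancel_right]

theorem inv_of_mul_self {v : G} (h : v * v = 1) : v⁻¹ = v := inv_eq_of_mul_eq_one_right h

theorem commute_of_conj_eq {g x : G} (h : g * x * g⁻¹ = x) : Commute g x := mul_inv_eq_iff_eq_mul.1 h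

theorem mul_self_of_commute {a b : G} (ha : a * a = 1) (hb : b * b = 1) (h : Commute a b) :
    a * b * (a * b) = 1 := by
  calc a * b * (a * b) = a * (b * a) * b := by group
    _ = a * (a * b) * b := by rw [h.eq]
    _ = 1 := by rw [← mul_assoc a a b, ha, one_mul, hb]

end conj

namespace OT

variable {D : Set G} (hD : OT D)
include hD

theorem mul_self {d : G} (hd : d ∈ D) : d * d = 1 := Involution.mul_self (hD.inv d hd)

theorem inv_eq {d : G} (hd : d ∈ D) : d⁻¹ = d := Involution.inv_eq (hD.inv d hd)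

theorem conj' {g d : G} (hg : g * g = 1) (hd : d ∈ D) : g * d * g ∈ D := by
  have h := hD.conj g d hd
  rwa [inv_of_mul_self hg] at h

theorem odd_of {a b : G} (ha : a ∈ D) (hb : b ∈ D) (h : ¬ Commute a b) : Odd (orderOf (a * b)) :=
  (hD.pair a ha b hb).resolve_left h

theorem mul_eq_one {a b : G} (hb : b ∈ D) (h : a * b = 1) : a = b := by
  rw [mul_eq_one_iff_eq_inv, hD.inv_eq hb] at h
  exact h

/-- Two members with product of odd order and commuting are equal. -/
theorem eq_of_odd {a b : G} (ha : a ∈ D) (hb : b ∈ D) (ho : Odd (orderOf (a * b)))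
    (hc : Commute a b) : a = b := by
  refine hD.mul_eq_one hb ?_
  have h2 : orderOf (a * b) ∣ 2 := orderOf_dvd_of_pow_eq_one (by
    rw [sq]; exact mul_self_of_commute (hD.mul_self ha) (hD.mul_self hb) hc)
  exact orderOf_eq_one_iff.1 (Nat.eq_one_of_dvd_coprimes (Nat.coprime_two_left.2 ho) h2 dvd_rfl)

/-- Conjugating elements inside the dihedral group of a non-commuting pair. -/
theorem exists_conj {a b : G} (ha : a ∈ D) (hb : b ∈ D) (h : ¬ Commute a b) :
    ∃ g : G, g * a * g⁻¹ = b ∧ ∀ c : G, Commute c a → Commute c b → Commute c g := by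
  obtain ⟨g, hg, hga⟩ := Involution.exists_conj_of_odd (hD.inv a ha) (hD.inv b hb) (hD.odd_of ha hb h)
  refine ⟨g, hga, fun c hca hcb => ?_⟩
  have hle : Subgroup.closure ({a, b} : Set G) ≤ Subgroup.centralizer ({c} : Set G) := by
    rw [Subgroup.closure_le]
    rintro x (rfl | rfl)
    · exact Subgroup.mem_centralizer_singleton_iff.2 hca.symm.eq
    · exact Subgroup.mem_centralizer_singleton_iff.2 hcb.symm.eq
  exact (show Commute g c from Subgroup.mem_centralizer_singleton_iff.1 (hle hg)).symm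

theorem isConj {a b : G} (ha : a ∈ D) (hb : b ∈ D) (h : ¬ Commute a b) : IsConj a b :=
  Involution.isConj_of_odd (hD.inv a ha) (hD.inv b hb) (hD.odd_of ha hb h)

/-- A member commuting with the product of two commuting members commutes with each of them. -/
theorem commute_of_commute_mul {p q y : G} (hp : p ∈ D) (hq : q ∈ D) (hy : y ∈ D) (hpq : Commute p q)
    (hne : p ≠ q) (h : Commute y (p * q)) : Commute y p := by
  by_contra hc
  have hpy : ¬ Commute p y := fun e => hc e.symm
  obtain ⟨g, hg, hcg⟩ := hD.exists_conj hp hy hpy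
  have hvp : Commute (p * q) p := ((Commute.refl p).mul_left hpq.symm)
  have hgv : Commute (p * q) g := hcg _ hvp h.symm
  have hq' : y * (p * q) ∈ D := by
    have e : g * q * g⁻¹ = y * (p * q) := by
      calc g * q * g⁻¹ = g * (p * (p * q)) * g⁻¹ := by rw [← mul_assoc p p, hD.mul_self hp, one_mul]
        _ = (g * p * g⁻¹) * (g * (p * q) * g⁻¹) := by group
        _ = _ := by rw [hg, conj_eq_of_commute hgv.symm]
    exact e ▸ hD.conj g q hq
  have hv2 : orderOf (p * q) = 2 := Involution.orderOf_of_sq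
    (mul_self_of_commute (hD.mul_self hp) (hD.mul_self hq) hpq) fun e => hne (hD.mul_eq_one hq e)
  have hcv : Commute (p * y) (p * q) := (hvp.symm).mul_left h
  have ho := hD.odd_of hp hy hpy
  have hord : orderOf (p * (y * (p * q))) = orderOf (p * y) * 2 := by
    rw [← mul_assoc, hcv.orderOf_mul_eq_mul_orderOf_of_coprime (hv2 ▸ Nat.coprime_two_right.2 ho), hv2]
  rcases hD.pair p hp _ hq' with hcq | hoq
  · have h2 : orderOf (p * (y * (p * q))) ∣ 2 := orderOf_dvd_of_pow_eq_one (by
      rw [sq]; exact mul_self_of_commute (hD.mul_self hp) (hD.mul_self hq') hcq)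
    rw [hord] at h2
    have h1 : orderOf (p * y) = 1 :=
      Nat.dvd_one.1 (Nat.dvd_of_mul_dvd_mul_right two_pos (by rwa [one_mul]))
    exact hpy (hD.mul_eq_one hy (orderOf_eq_one_iff.1 h1) ▸ Commute.refl y)
  · rw [hord] at hoq
    exact absurd hoq (Nat.not_odd_iff_even.2 (by simp))

theorem commute_of_commute_mul_right {p q y : G} (hp : p ∈ D) (hq : q ∈ D) (hy : y ∈ D)
    (hpq : Commute p q) (hne : p ≠ q) (h : Commute y (p * q)) : Commute y q :=
  hD.commute_of_commute_mul hq hp hy hpq.symm hne.symm (hpq.eq ▸ h)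

/-- The middle of a non-commuting pair `z, v z v`. -/
theorem exists_middle {z v : G} (hz : z ∈ D) (hv : v * v = 1) (hne : ¬ Commute z (v * z * v)) :
    ∃ h ∈ D, h * z * h = v * z * v ∧ ¬ Commute h z ∧ Commute h v ∧
      ∀ c : G, Commute c z → Commute c (v * z * v) → Commute c h := by
  have hz' : v * z * v ∈ D := hD.conj' hv hz
  obtain ⟨m, hm⟩ := hD.odd_of hz hz' hne
  set r := z * (v * z * v) with hr
  have hzz := hD.mul_self hz
  have hzj : ∀ j : ℤ, r ^ j * z = z * r ^ (-j) := Involution.zpow_mul_left (hD.inv z hz) (hD.inv _ hz')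
  have hrn : ∀ i j : ℤ, i ≡ j [ZMOD (2 * m + 1 : ℕ)] → r ^ i = r ^ j := fun i j e => by
    rw [zpow_eq_zpow_iff_modEq, hm]; exact e
  set j : ℤ := -((m : ℤ) + 1) ^ 2 with hj
  set h := r ^ j * z * (r ^ j)⁻¹ with hh
  have hhz : h = z * r ^ (-j + -j) := by
    rw [hh, hzj, ← zpow_neg, mul_assoc, ← zpow_add]
  have hhh : h * h = 1 := by
    rw [hh, show r ^ j * z * (r ^ j)⁻¹ * (r ^ j * z * (r ^ j)⁻¹) = r ^ j * (z * z) * (r ^ j)⁻¹ by group,
      hzz, mul_one, mul_inv_cancel]
  have hzr : z * r = v * z * v := by rw [hr, ← mul_assoc, hzz, one_mul]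
  have hswap : h * z * h = v * z * v := by
    rw [← hzr, hhz]
    calc z * r ^ (-j + -j) * z * (z * r ^ (-j + -j)) = z * r ^ (-j + -j) * (z * z) * r ^ (-j + -j) := by group
      _ = z * r ^ ((-j + -j) + (-j + -j)) := by rw [hzz, mul_one, mul_assoc, ← zpow_add]
      _ = z * r := by
        congr 1
        conv_rhs => rw [← zpow_one r]
        refine hrn _ _ (Int.modEq_iff_dvd.2 ⟨-(2 * (m : ℤ) + 3), ?_⟩)
        rw [hj]; push_cast; ring
  refine ⟨h, hD.conj _ z hz, hswap, fun hc => hne ?_, ?_, fun c hc hc' => ?_⟩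
  · rw [← hswap, hc.eq, mul_assoc, hhh, mul_one]
  · have hvr : v * r * v⁻¹ = r⁻¹ := by
      rw [hr, mul_inv_rev, hD.inv_eq hz, hD.inv_eq hz', inv_of_mul_self hv]
      calc v * (z * (v * z * v)) * v = (v * z * v) * z * (v * v) := by group
        _ = _ := by rw [hv, mul_one]
    refine (commute_of_conj_eq ?_).symm
    calc v * h * v⁻¹ = (v * r ^ j * v⁻¹) * (v * z * v⁻¹) * (v * r ^ j * v⁻¹)⁻¹ := by rw [hh]; group
      _ = (r ^ j)⁻¹ * (z * r) * r ^ j := by
        rw [Involution.inverts_zpow hvr, inv_inv, inv_of_mul_self hv, hzr]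
      _ = z * r ^ (j + 1 + j) := by
        rw [← zpow_neg, ← mul_assoc, hzj, neg_neg, zpow_add, zpow_add, zpow_one]; group
      _ = h := by
        rw [hhz]
        congr 1
        refine hrn _ _ (Int.modEq_iff_dvd.2 ⟨(2 * (m : ℤ) + 3), ?_⟩)
        rw [hj]; push_cast; ring
  · exact ((hc.mul_right hc').zpow_right j).mul_right hc |>.mul_right ((hc.mul_right hc').zpow_right j).inv_right

/-- Two members swapping the same pair are equal. -/
theorem middle_unique {z h h' : G} (hz : z ∈ D) (hh : h ∈ D) (hh' : h' ∈ D) (hhz : ¬ Commute h z)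
    (hc : Commute h h') (he : h * z * h = h' * z * h') : h = h' := by
  by_contra hne
  refine hhz (hD.commute_of_commute_mul hh hh' hz hc hne ?_).symm
  show z * (h * h') = h * h' * z
  calc z * (h * h') = z * (h' * h) := by rw [hc.eq]
    _ = (h' * h') * z * (h' * h) := by rw [hD.mul_self hh', one_mul]
    _ = h' * (h' * z * h') * h := by group
    _ = h' * (h * z * h) * h := by rw [he]
    _ = h' * h * z * (h * h) := by group
    _ = h * h' * z := by rw [hD.mul_self hh, mul_one, hc.eq]

/-- One inclusion suffices for conjugate members. -/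
theorem sameC_of_subset [Finite G] {a b : G} (hab : IsConj a b)
    (h : ∀ y ∈ D, Commute y a → Commute y b) : SameC D a b := by
  obtain ⟨g, rfl⟩ := isConj_iff.1 hab
  set S : G → Set G := fun x => {y | y ∈ D ∧ Commute y x} with hS
  have hsub : S a ⊆ S (g * a * g⁻¹) := fun y hy => ⟨hy.1, h y hy.1 hy.2⟩
  have himg : S (g * a * g⁻¹) = (fun y => g * y * g⁻¹) '' S a := by
    ext y
    constructor
    · rintro ⟨hy, hc⟩
      refine ⟨g⁻¹ * y * g, ⟨by simpa using hD.conj g⁻¹ y hy, ?_⟩, by group⟩
      rw [← conj_commute_iff (v := g), show g * (g⁻¹ * y * g) * g⁻¹ = y by group]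
      exact hc
    · rintro ⟨x, ⟨hx, hc⟩, rfl⟩
      exact ⟨hD.conj g x hx, conj_commute_iff.2 hc⟩
  have heq : S a = S (g * a * g⁻¹) := Set.eq_of_subset_of_ncard_le hsub (by
    rw [himg, Set.ncard_image_of_injective]
    exact fun x y e => mul_left_cancel (mul_right_cancel e)) (Set.toFinite _)
  exact fun y hy => ⟨h y hy, fun hc => ((Set.ext_iff.1 heq y).2 ⟨hy, hc⟩).2⟩

theorem sameC_conj {a b : G} (g : G) (h : SameC D a b) : SameC D (g * a * g⁻¹) (g * b * g⁻¹) := by
  intro y hy
  have e : y = g * (g⁻¹ * y * g) * g⁻¹ := by group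
  rw [e, conj_commute_iff, conj_commute_iff]
  exact h _ (by simpa using hD.conj g⁻¹ y hy)

/-! ### Subgroups and quotients -/

theorem sub (H : Subgroup G) : OT (Subtype.val ⁻¹' D : Set H) where
  inv d hd := by rw [← Subgroup.orderOf_coe]; exact hD.inv _ hd
  conj g d hd := by
    show ((g * d * g⁻¹ : H) : G) ∈ D
    simpa using hD.conj (g : G) (d : G) hd
  pair a ha b hb := by
    rcases hD.pair _ ha _ hb with h | h
    · exact Or.inl (Subtype.ext h.eq)
    · exact Or.inr (by rw [← Subgroup.orderOf_coe]; exact h)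

theorem commute_map_iff {Q : Type*} [Group Q] {f : G →* Q} (hf : IsPGroup 2 f.ker) {a b : G}
    (ha : a ∈ D) (hb : b ∈ D) : Commute (f a) (f b) ↔ Commute a b := by
  refine ⟨fun h => ?_, fun h => h.map f⟩
  by_contra hc
  have ho := hD.odd_of ha hb hc
  have h2 : orderOf (f (a * b)) ∣ 2 := orderOf_dvd_of_pow_eq_one (by
    rw [sq, map_mul]
    exact mul_self_of_commute (by rw [← map_mul, hD.mul_self ha, map_one])
      (by rw [← map_mul, hD.mul_self hb, map_one]) h)
  have h1 := Nat.eq_one_of_dvd_coprimes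
    (Nat.coprime_two_left.2 (ho.of_dvd_nat (orderOf_map_dvd f (a * b)))) h2 dvd_rfl
  have := eq_one_of_odd_mem hf (MonoidHom.mem_ker.2 (orderOf_eq_one_iff.1 h1)) ho
  exact hc (hD.mul_eq_one hb this ▸ Commute.refl b)

theorem map {Q : Type*} [Group Q] {f : G →* Q} (hf : Function.Surjective f) :
    OT ((f '' D) \ {1}) where
  inv := by
    rintro _ ⟨⟨d, hd, rfl⟩, h1⟩
    exact Involution.orderOf_of_sq (by rw [← map_mul, hD.mul_self hd, map_one]) h1
  conj := by
    rintro g _ ⟨⟨d, hd, rfl⟩, h1⟩
    obtain ⟨g, rfl⟩ := hf g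
    refine ⟨⟨g * d * g⁻¹, hD.conj g d hd, by simp⟩, fun e => h1 ?_⟩
    have e' : f g * f d * (f g)⁻¹ = 1 := e
    calc f d = (f g)⁻¹ * (f g * f d * (f g)⁻¹) * f g := by group
      _ = 1 := by rw [e']; group
  pair := by
    rintro _ ⟨⟨a, ha, rfl⟩, -⟩ _ ⟨⟨b, hb, rfl⟩, -⟩
    rcases hD.pair a ha b hb with h | h
    · exact Or.inl (h.map f)
    · exact Or.inr (by rw [← map_mul]; exact h.of_dvd_nat (orderOf_map_dvd f _))

theorem sameC_map {Q : Type*} [Group Q] {f : G →* Q} (hf : IsPGroup 2 f.ker) {a b : G}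
    (ha : a ∈ D) (hb : b ∈ D) (h : SameC D a b) : SameC ((f '' D) \ {1}) (f a) (f b) := by
  rintro _ ⟨⟨y, hy, rfl⟩, -⟩
  rw [hD.commute_map_iff hf hy ha, hD.commute_map_iff hf hy hb]
  exact h y hy

end OT

end Cfsg.Agent.OddTrans
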