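/-
The facts about the involutions of `L₂(2^n)` used for odd transpositions (owner: helper28).

Main results (namespace `Cfsg.Agent.OddTrans`):
* `L2Facts G q` : one class of involutions, elementary abelian centralisers, products of order three
* `l2Facts_of_psl` : every group isomorphic to `PSL₂(F)`, `F` of characteristic 2, has them
-/
import Cfsg.Agent.Lib.Involution.Basic
import Cfsg.Agent.Lib.PSL2.Basic
import Cfsg.Agent.Lib.Bender.Final

set_option autoImplicit false
set_option linter.unusedSectionVars false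

namespace Cfsg.Agent.OddTrans

open Cfsg

/-- The properties of the involutions of `L₂(q)`, `q` even, that are needed. -/
structure L2Facts (G : Type*) [Group G] (q : ℕ) : Prop where
  conj : ∀ s t : G, orderOf s = 2 → orderOf t = 2 → IsConj s t
  sq : ∀ z g : G, orderOf z = 2 → Commute g z → g * g = 1
  comm : ∀ z s t : G, orderOf z = 2 → Commute z s → Commute z t → Commute s t
  card_invol : ∀ z : G, orderOf z = 2 → Nat.card {t : G // orderOf t = 2 ∧ Commute t z} = q - 1
  three : ∀ z b : G, orderOf z = 2 → orderOf b = 2 → ¬ Commute z b →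
    ∃ t : G, orderOf t = 2 ∧ Commute t b ∧ z * t * (z * t) * (z * t) = 1 ∧ z * t ≠ 1

section sl

variable {F : Type*} [Field F]

/-- The upper unitriangular matrix. -/
def sU (b : F) : Matrix.SpecialLinearGroup (Fin 2) F :=
  ⟨!![1, b; 0, 1], by simp [Matrix.det_fin_two]⟩

@[simp] lemma sU_coe (b : F) : (sU b).1 = !![1, b; 0, 1] := rfl

variable [CharP F 2]

lemma sU_one_ne : sU (1 : F) ≠ 1 := fun h => by
  have := congrArg (fun g : Matrix.SpecialLinearGroup (Fin 2) F => g.1 0 1) h
  simp at this

lemma sU_mul_self (b : F) : sU b * sU b = 1 := by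
  apply Subtype.ext
  ext i j
  fin_cases i <;> fin_cases j <;> simp [Matrix.mul_apply, Fin.sum_univ_two, CharTwo.add_self_eq_zero]

lemma sU_commute (a b : F) : Commute (sU a) (sU b) := by
  apply Subtype.ext
  ext i j
  fin_cases i <;> fin_cases j <;> simp [Matrix.mul_apply, Fin.sum_univ_two, add_comm]

lemma eq_sU_of_commute {g : Matrix.SpecialLinearGroup (Fin 2) F} (h : Commute g (sU 1)) :
    g = sU (g.1 0 1) := by
  have h' := congrArg (fun x : Matrix.SpecialLinearGroup (Fin 2) F => x.1) h.eq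
  have e00 := congrFun (congrFun h' 0) 0
  have e01 := congrFun (congrFun h' 0) 1
  simp [Matrix.mul_apply, Fin.sum_univ_two] at e00 e01
  have hdet := PSL2.det_eq g
  rw [e00, mul_zero, sub_zero] at hdet
  have e11 : g.1 1 1 = g.1 0 0 := by linear_combination -e01
  rw [e11] at hdet
  have ha : g.1 0 0 = 1 := by
    rcases mul_self_eq_one_iff.1 hdet with h | h
    · exact h
    · rwa [CharTwo.neg_eq] at h
  apply Subtype.ext
  ext i j
  fin_cases i <;> fin_cases j <;> simp [ha, e00, e11]

lemma tr_eq_zero_of_mul_self {g : Matrix.SpecialLinearGroup (Fin 2) F} (h : g * g = 1) :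
    g.1 0 0 + g.1 1 1 = 0 := by
  have h1 := PSL2.coe_sq g
  have h2 : g.1 * g.1 = 1 := by
    rw [← Matrix.SpecialLinearGroup.coe_mul, h, Matrix.SpecialLinearGroup.coe_one]
  rw [h2] at h1
  have hdet := PSL2.det_eq g
  by_contra ht
  have hz : ∀ i j, g.1 i j = 0 := by
    intro i j
    have e := congrFun (congrFun h1 i) j
    have e' : PSL2.tr g * g.1 i j = 0 := by
      simp [Matrix.one_apply] at e
      split_ifs at e with hij
      · linear_combination -e + CharTwo.two_eq_zero (R := F)
      · linear_combination -e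
    exact (mul_eq_zero.1 e').resolve_left ht
  simp [hz] at hdet

variable [Finite F]

lemma exists_conj_sU {g : Matrix.SpecialLinearGroup (Fin 2) F} (hg : orderOf g = 2) :
    ∃ s : Matrix.SpecialLinearGroup (Fin 2) F, g = s * sU 1 * s⁻¹ := by
  have htr := tr_eq_zero_of_mul_self (Involution.mul_self hg)
  have hsq : Function.Surjective fun x : F => x ^ 2 :=
    Finite.injective_iff_surjective.1 fun x y e => CharTwo.sq_injective e
  obtain ⟨p, hp⟩ := hsq (g.1 0 1)
  obtain ⟨r, hr⟩ := hsq (g.1 1 0)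
  simp only at hp hr
  have hd : g.1 1 1 = g.1 0 0 := by
    linear_combination htr - g.1 0 0 * CharTwo.two_eq_zero (R := F)
  have hdet := PSL2.det_eq g
  rw [hd, ← hp, ← hr] at hdet
  have ha : g.1 0 0 = 1 + p * r := by
    apply CharTwo.sq_injective
    show g.1 0 0 ^ 2 = (1 + p * r) ^ 2
    linear_combination hdet - p * r * CharTwo.two_eq_zero (R := F)
  obtain ⟨q, t, hqt⟩ : ∃ q t : F, p * t - q * r = 1 := by
    by_cases h : p = 0
    · subst h
      have hr0 : r ≠ 0 := fun e => Involution.ne_one hg (Subtype.ext (by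
        subst e
        ext i j
        fin_cases i <;> fin_cases j <;> simp [hd, ha, ← hp, ← hr]))
      exact ⟨r⁻¹, 0, by rw [inv_mul_cancel₀ hr0, mul_zero, zero_sub, CharTwo.neg_eq]⟩
    · exact ⟨0, p⁻¹, by rw [mul_inv_cancel₀ h, zero_mul, sub_zero]⟩
  have hs : (!![p, q; r, t] : Matrix (Fin 2) (Fin 2) F).det = 1 := by
    rw [Matrix.det_fin_two]; simpa using hqt
  refine ⟨(⟨!![p, q; r, t], hs⟩ : Matrix.SpecialLinearGroup (Fin 2) F), eq_mul_inv_of_mul_eq ?_⟩
  apply Subtype.ext
  ext i j
  show (g.1 * (!![p, q; r, t] : Matrix (Fin 2) (Fin 2) F)) i j =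
    ((!![p, q; r, t] : Matrix (Fin 2) (Fin 2) F) * (!![1, 1; 0, 1] : Matrix (Fin 2) (Fin 2) F)) i j
  fin_cases i <;> fin_cases j <;> simp [Matrix.mul_apply, Fin.sum_univ_two, hd, ha, ← hp, ← hr]
  · linear_combination p ^ 2 * r * CharTwo.two_eq_zero (R := F)
  · linear_combination p * hqt + p * q * r * CharTwo.two_eq_zero (R := F)
  · linear_combination p * r ^ 2 * CharTwo.two_eq_zero (R := F)
  · linear_combination r * hqt + q * r ^ 2 * CharTwo.two_eq_zero (R := F)

lemma three_sU {z : Matrix.SpecialLinearGroup (Fin 2) F} (hz : z * z = 1) (hnc : ¬ Commute z (sU 1)) :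
    ∃ x : F, x ≠ 0 ∧ z * sU x * (z * sU x) * (z * sU x) = 1 := by
  have htr := tr_eq_zero_of_mul_self hz
  have hc : z.1 1 0 ≠ 0 := by
    intro hc
    apply hnc
    have hd : z.1 1 1 = z.1 0 0 := by
      linear_combination htr - z.1 0 0 * CharTwo.two_eq_zero (R := F)
    have hdet := PSL2.det_eq z
    rw [hd, hc, mul_zero, sub_zero] at hdet
    have ha : z.1 0 0 = 1 := by
      rcases mul_self_eq_one_iff.1 hdet with h | h
      · exact h
      · rwa [CharTwo.neg_eq] at h
    have : z = sU (z.1 0 1) := by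
      apply Subtype.ext
      ext i j
      fin_cases i <;> fin_cases j <;> simp [ha, hd, hc]
    rw [this]
    exact sU_commute _ _
  refine ⟨(z.1 1 0)⁻¹, inv_ne_zero hc, ?_⟩
  set g := z * sU (z.1 1 0)⁻¹ with hg
  have ht : PSL2.tr g = 1 := by
    simp [PSL2.tr, hg, Matrix.mul_apply, Fin.sum_univ_two, mul_inv_cancel₀ hc]
    linear_combination htr
  have h2 : g.1 * g.1 = g.1 - 1 := by rw [PSL2.coe_sq, ht, one_smul]
  apply Subtype.ext
  rw [Matrix.SpecialLinearGroup.coe_mul, Matrix.SpecialLinearGroup.coe_mul, h2, sub_mul, h2, one_mul,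
    Matrix.SpecialLinearGroup.coe_one, sub_sub_cancel_left]
  ext i j
  simp [CharTwo.neg_eq]

end sl

/-- Every group isomorphic to `PSL₂` over a field of characteristic 2 has these properties. -/
theorem l2Facts_of_psl {G : Type*} [Group G] {F : Type} [Field F] [Fintype F] [CharP F 2]
    (e' : G ≃* Matrix.ProjectiveSpecialLinearGroup (Fin 2) F) : L2Facts G (Fintype.card F) := by
  obtain ⟨e''⟩ := Bender.psl_equiv_sl (F := F)
  set e : G ≃* Matrix.SpecialLinearGroup (Fin 2) F := e'.trans e''
  have hord : ∀ {g : G}, orderOf g = 2 → orderOf (e g) = 2 := fun {g} hg => by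
    rw [MulEquiv.orderOf_eq]; exact hg
  have hφ : ∀ {z : G}, orderOf z = 2 → ∃ φ : G ≃* Matrix.SpecialLinearGroup (Fin 2) F, φ z = sU 1 := by
    intro z hz
    obtain ⟨s, hs⟩ := exists_conj_sU (hord hz)
    refine ⟨e.trans (MulAut.conj s⁻¹), ?_⟩
    rw [MulEquiv.trans_apply, hs, MulAut.conj_apply]
    group
  refine ⟨?_, ?_, ?_, ?_, ?_⟩
  · intro s t hs ht
    obtain ⟨a, ha⟩ := exists_conj_sU (hord hs)
    obtain ⟨b, hb⟩ := exists_conj_sU (hord ht)
    refine isConj_iff.2 ⟨e.symm (b * a⁻¹), e.injective ?_⟩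
    rw [map_mul, map_mul, map_inv, e.apply_symm_apply, ha, hb]
    group
  · intro z g hz hc
    obtain ⟨φ, hφz⟩ := hφ hz
    apply φ.injective
    have h1 := hc.map φ
    rw [hφz] at h1
    rw [map_mul, map_one, eq_sU_of_commute h1, sU_mul_self]
  · intro z s t hz hzs hzt
    obtain ⟨φ, hφz⟩ := hφ hz
    have h1 := eq_sU_of_commute (hφz ▸ (hzs.map φ).symm)
    have h2 := eq_sU_of_commute (hφz ▸ (hzt.map φ).symm)
    refine Commute.of_map φ.injective ?_
    rw [h1, h2]
    exact sU_commute _ _
  · intro z hz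
    obtain ⟨φ, hφz⟩ := hφ hz
    classical
    rw [show Fintype.card F - 1 = Nat.card {b : F // b ≠ 0} by
      rw [Nat.card_eq_fintype_card, Fintype.card_subtype_compl, Fintype.card_subtype_eq]]
    refine Nat.card_congr (Equiv.symm (Equiv.ofBijective
      (fun b : {b : F // b ≠ 0} => (⟨φ.symm (sU b.1), ?_, ?_⟩ : {t : G // orderOf t = 2 ∧ Commute t z}))
      ⟨fun a b h => ?_, fun ⟨t, ht, hc⟩ => ?_⟩))
    · rw [MulEquiv.orderOf_eq]
      refine Involution.orderOf_of_sq (sU_mul_self _) fun h => b.2 ?_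
      have := congrArg (fun g : Matrix.SpecialLinearGroup (Fin 2) F => g.1 0 1) h
      simpa using this
    · refine Commute.of_map φ.injective ?_
      rw [φ.apply_symm_apply, hφz]
      exact sU_commute _ _
    · have h1 := φ.symm.injective (congrArg Subtype.val h)
      have := congrArg (fun g : Matrix.SpecialLinearGroup (Fin 2) F => g.1 0 1) h1
      exact Subtype.ext (by simpa using this)
    · have h1 := eq_sU_of_commute (hφz ▸ hc.map φ)
      refine ⟨⟨(φ t).1 0 1, fun h0 => Involution.ne_one ht (φ.injective ?_)⟩, Subtype.ext ?_⟩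
      · rw [h1, h0, map_one]
        apply Subtype.ext
        ext i j
        fin_cases i <;> fin_cases j <;> simp
      · show φ.symm _ = t
        rw [← h1, φ.symm_apply_apply]
  · intro z b hz hb hnc
    obtain ⟨φ, hφb⟩ := hφ hb
    obtain ⟨x, hx, h3⟩ := three_sU (z := φ z) (by rw [← map_mul, Involution.mul_self hz, map_one])
      (fun h => hnc (Commute.of_map φ.injective (hφb ▸ h)))
    have hc : Commute (φ.symm (sU x)) b := Commute.of_map φ.injective (by
      rw [φ.apply_symm_apply, hφb]; exact sU_commute _ _)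
    refine ⟨φ.symm (sU x), ?_, hc, φ.injective ?_, fun h1 => hnc ?_⟩
    · rw [MulEquiv.orderOf_eq]
      refine Involution.orderOf_of_sq (sU_mul_self _) fun h => hx ?_
      have := congrArg (fun g : Matrix.SpecialLinearGroup (Fin 2) F => g.1 0 1) h
      simpa using this
    · simp only [map_mul, φ.apply_symm_apply, map_one]
      exact h3
    · rw [mul_eq_one_iff_eq_inv] at h1
      rw [h1]
      exact hc.inv_left

end Cfsg.Agent.OddTrans
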