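/-
The facts about the involutions of `Sz(q)` used for odd transpositions (owner: helper28).

Main results (namespace `Cfsg.Agent.OddTrans`):
* `SzFacts G q` : order, one class of involutions, their centralisers, generation
* `szFacts_of_isoSuzuki` : every group isomorphic to a Suzuki group has them
-/
import Cfsg.Agent.Lib.Involution.Basic
import Cfsg.Agent.Lib.Suzuki.MinimalSimple
import Cfsg.Agent.Lib.Suzuki.Borel
import Cfsg.Agent.Lib.Suzuki.LieModel

set_option autoImplicit false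
set_option linter.unusedSectionVars false
set_option linter.style.haveILetI false

namespace Cfsg.Agent.OddTrans

open Cfsg Suzuki

/-- The properties of the involutions of `Sz(q)` that are needed. -/
structure SzFacts (G : Type*) [Group G] (q : ℕ) : Prop where
  four_le : 4 ≤ q
  card_eq : Nat.card G = q ^ 2 * (q ^ 2 + 1) * (q - 1)
  three : ∀ g : G, g * g * g = 1 → g = 1
  conj : ∀ s t : G, orderOf s = 2 → orderOf t = 2 → IsConj s t
  comm : ∀ z s t : G, orderOf z = 2 → orderOf s = 2 → orderOf t = 2 → Commute z s → Commute z t →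
    Commute s t
  card_cent : ∀ z : G, orderOf z = 2 → Nat.card (Subgroup.centralizer ({z} : Set G)) = q ^ 2
  nonab : ∀ z : G, orderOf z = 2 → ∃ a b : G, Commute z a ∧ Commute z b ∧ ¬ Commute a b
  card_invol : ∀ z : G, orderOf z = 2 → Nat.card {t : G // orderOf t = 2 ∧ Commute t z} = q - 1
  generate : ∀ z b : G, orderOf z = 2 → orderOf b = 2 → ¬ Commute z b →
    Subgroup.closure ({t : G | orderOf t = 2 ∧ Commute t z} ∪ {b}) = ⊤
  root : ∀ z : G, orderOf z = 2 → ∃ g : G, g * g = z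
  central : ∀ z t g : G, orderOf z = 2 → orderOf t = 2 → Commute t z → Commute g z → Commute g t

section sz

variable {F : Type*} [Field F] [Fintype F] {m : ℕ}
variable (hm : 1 ≤ m) (hF : Fintype.card F = 2 ^ (2 * m + 1))

lemma tSz_mul_self (a b : F) : tSz hF a b * tSz hF a b = tSz hF 0 (th m a * a) := by
  haveI := charTwo hF
  rw [tSz_mul]
  congr 1
  · exact CharTwo.add_self_eq_zero a
  · rw [CharTwo.add_self_eq_zero, zero_add]

include hm in
lemma sz_involution {g : Sz F m} (hg : orderOf g = 2) :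
    ∃ s : Sz F m, g = s * tSz hF 0 1 * s⁻¹ := by
  haveI := charTwo hF
  have hgg := Involution.mul_self hg
  have hg1 := Involution.ne_one hg
  obtain ⟨p, hp, hgp⟩ : ∃ p ∈ suzukiOvoid F m, g • p = p := by
    by_contra h
    push Not at h
    have h2 : 2 ∣ (2 ^ (2 * m + 1)) ^ 2 + 1 := hg ▸ orderOf_dvd_of_fpf hm hF h
    exact absurd ((Nat.dvd_add_right (dvd_pow (dvd_pow_self 2 (by omega)) two_ne_zero)).1 h2)
      (by norm_num)
  rcases fixer_cases hm hF hg1 hp hgp with ⟨s, a, b, hab, -, rfl⟩ | ⟨s, k, hk, rfl⟩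
  · have h1 : tSz hF a b * tSz hF a b = 1 := by
      calc tSz hF a b * tSz hF a b
          = s⁻¹ * (s * tSz hF a b * s⁻¹ * (s * tSz hF a b * s⁻¹)) * s := by group
        _ = 1 := by rw [hgg, mul_one, inv_mul_cancel]
    rw [tSz_mul_self, tSz_eq_one_iff] at h1
    have ha : a = 0 := (thSucc_bijective hF).1 (by simpa using h1.2)
    subst ha
    have hb : b ≠ 0 := fun h => hab ⟨rfl, h⟩
    obtain ⟨k, hk⟩ := (thSucc_bijective hF).2 b
    simp only at hk
    have hk0 : k ≠ 0 := fun h => hb (by rw [← hk, h]; simp)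
    refine ⟨s * dSz hF (Units.mk0 k hk0), ?_⟩
    have e := zSub_conj_dSz hF (Units.mk0 k hk0) 1
    rw [Units.val_mk0, mul_one, hk] at e
    rw [← e]; group
  · exfalso
    apply hk
    have h1 : dSz hF k * dSz hF k = 1 := by
      calc dSz hF k * dSz hF k = s⁻¹ * (s * dSz hF k * s⁻¹ * (s * dSz hF k * s⁻¹)) * s := by group
        _ = 1 := by rw [hgg, mul_one, inv_mul_cancel]
    rw [dSz_mul, ← dSz_one (hF := hF)] at h1
    have h2 := congrArg (fun u : Fˣ => (u : F)) (dSz_inj hF h1)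
    simp only [Units.val_mul, Units.val_one] at h2
    rcases mul_self_eq_one_iff.1 h2 with h | h
    · exact Units.ext h
    · exact Units.ext (by rw [h, CharTwo.neg_eq, Units.val_one])

lemma tSz_one_order : orderOf (tSz hF (0 : F) 1) = 2 :=
  Involution.orderOf_of_sq (by rw [tSz_mul_self, tSz_eq_one_iff]; simp)
    fun h => one_ne_zero ((tSz_eq_one_iff hF).1 h).2

lemma commute_zSub {b : F} {u : Sz F m} (hu : u ∈ uSub hF) : Commute (tSz hF 0 b) u := by
  obtain ⟨c, d, rfl⟩ := hu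
  show tSz hF 0 b * tSz hF c d = tSz hF c d * tSz hF 0 b
  rw [tSz_mul, tSz_mul]
  congr 1
  · rw [zero_add, add_zero]
  · simp [add_comm]

include hm in
lemma centralizer_one : Subgroup.centralizer ({tSz hF (0 : F) 1} : Set (Sz F m)) = uSub hF := by
  refine le_antisymm (centralizer_tSz_le hm hF fun h => one_ne_zero h.2) fun u hu => ?_
  exact Subgroup.mem_centralizer_singleton_iff.2 (commute_zSub hF hu).symm.eq

include hm in
lemma mem_uSub_of_commute {u : Sz F m} (h : Commute u (tSz hF 0 1)) : u ∈ uSub hF := by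
  rw [← centralizer_one hm hF]
  exact Subgroup.mem_centralizer_singleton_iff.2 h.eq

include hm in
lemma invol_one_iff {t : Sz F m} :
    (orderOf t = 2 ∧ Commute t (tSz hF 0 1)) ↔ t ∈ zSub hF ∧ t ≠ 1 := by
  constructor
  · rintro ⟨ht, hc⟩
    obtain ⟨a, b, rfl⟩ := mem_uSub_of_commute hm hF hc
    have h1 := Involution.mul_self ht
    rw [tSz_mul_self, tSz_eq_one_iff] at h1
    have ha : a = 0 := (thSucc_bijective hF).1 (by simpa using h1.2)
    subst ha
    exact ⟨⟨b, rfl⟩, Involution.ne_one ht⟩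
  · rintro ⟨⟨b, rfl⟩, h1⟩
    exact ⟨Involution.orderOf_of_sq (by rw [tSz_mul_self, tSz_eq_one_iff]; simp) h1,
      commute_zSub hF (tSz_mem_uSub hF 0 1)⟩

include hm in
lemma generate_one {b : Sz F m} (hb : orderOf b = 2) (hnc : ¬ Commute (tSz hF 0 1) b) :
    Subgroup.closure ({t : Sz F m | orderOf t = 2 ∧ Commute t (tSz hF 0 1)} ∪ {b}) = ⊤ := by
  refine eq_top_of_zSub_le_root hm hF (fun t ht => ?_)
    (Subgroup.subset_closure (Or.inr rfl)) fun h => hnc ?_
  · by_cases h1 : t = 1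
    · subst h1; exact one_mem _
    · exact Subgroup.subset_closure (Or.inl ((invol_one_iff hm hF).2 ⟨ht, h1⟩))
  · let b' : borelSub F m := ⟨b, h⟩
    have h2 : borelHom hm hF b' * borelHom hm hF b' = 1 := by
      rw [← map_mul]
      exact (congrArg _ (Subtype.ext (Involution.mul_self hb) : b' * b' = 1)).trans (map_one _)
    have h3 : borelHom hm hF b' = 1 := by
      haveI := charTwo hF
      have h4 := congrArg (fun u : Fˣ => (u : F)) h2
      simp only [Units.val_mul, Units.val_one] at h4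
      rcases mul_self_eq_one_iff.1 h4 with h5 | h5
      · exact Units.ext h5
      · exact Units.ext (by rw [h5, CharTwo.neg_eq, Units.val_one])
    exact commute_zSub hF ((borelHom_eq_one_iff hm hF b').1 h3)

lemma coprime_three_card (m : ℕ) :
    ¬ 3 ∣ (2 ^ (2 * m + 1)) ^ 2 * ((2 ^ (2 * m + 1)) ^ 2 + 1) * (2 ^ (2 * m + 1) - 1) := by
  have h1 : 2 ^ (2 * m + 1) % 3 = 2 := by
    rw [pow_succ, pow_mul, Nat.mul_mod, Nat.pow_mod]
    norm_num
  revert h1
  generalize 2 ^ (2 * m + 1) = q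
  intro h1
  have h2 : q ^ 2 % 3 = 1 := by rw [Nat.pow_mod, h1]
  intro h
  rcases Nat.prime_three.dvd_mul.1 h with h | h
  · rcases Nat.prime_three.dvd_mul.1 h with h | h
    · rw [Nat.dvd_iff_mod_eq_zero, h2] at h; exact one_ne_zero h
    · rw [Nat.dvd_iff_mod_eq_zero, Nat.add_mod, h2] at h; norm_num at h
  · omega

end sz

/-- Every group isomorphic to a Suzuki group has these properties. -/
theorem szFacts_of_isoSuzuki {G : Type*} [Group G] (h : Cfsg.Lie.IsoSuzuki G) :
    ∃ q : ℕ, SzFacts G q := by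
  obtain ⟨F, _, _, m, hm, hF, ⟨e'⟩⟩ := h
  set e : G ≃* Sz F m := e'.trans (lieEquiv hm hF).symm
  haveI := charTwo hF
  haveI : Finite G := Finite.of_equiv _ e.symm.toEquiv
  have hcard : Nat.card G = (2 ^ (2 * m + 1)) ^ 2 * ((2 ^ (2 * m + 1)) ^ 2 + 1) * (2 ^ (2 * m + 1) - 1) := by
    rw [Nat.card_congr e.toEquiv, card_sz hm hF]
  have hord : ∀ {g : G}, orderOf g = 2 → orderOf (e g) = 2 := fun {g} hg => by
    rw [MulEquiv.orderOf_eq]; exact hg
  -- an isomorphism moving a given involution to the standard one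
  have hφ : ∀ {z : G}, orderOf z = 2 → ∃ φ : G ≃* Sz F m, φ z = tSz hF 0 1 := by
    intro z hz
    obtain ⟨s, hs⟩ := sz_involution hm hF (hord hz)
    refine ⟨e.trans (MulAut.conj s⁻¹), ?_⟩
    rw [MulEquiv.trans_apply, hs, MulAut.conj_apply]
    group
  refine ⟨2 ^ (2 * m + 1), ⟨?_, hcard, ?_, ?_, ?_, ?_, ?_, ?_, ?_, ?_, ?_⟩⟩
  · calc 4 = 2 ^ 2 := rfl
      _ ≤ 2 ^ (2 * m + 1) := Nat.pow_le_pow_right (by norm_num) (by omega)
  · intro g hg
    by_contra h1
    have h3 : orderOf g = 3 := orderOf_eq_prime (by rw [pow_succ, sq]; exact hg) h1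
    exact coprime_three_card m (hcard ▸ h3 ▸ orderOf_dvd_natCard g)
  · intro s t hs ht
    obtain ⟨a, ha⟩ := sz_involution hm hF (hord hs)
    obtain ⟨b, hb⟩ := sz_involution hm hF (hord ht)
    refine isConj_iff.2 ⟨e.symm (b * a⁻¹), e.injective ?_⟩
    rw [map_mul, map_mul, map_inv, e.apply_symm_apply, ha, hb]
    group
  · intro z s t hz hs ht hzs hzt
    obtain ⟨φ, hφz⟩ := hφ hz
    have key : ∀ u : G, orderOf u = 2 → Commute z u → φ u ∈ zSub hF := fun u hu hc =>
      ((invol_one_iff hm hF).1 ⟨by rw [MulEquiv.orderOf_eq]; exact hu, hφz ▸ (hc.map φ).symm⟩).1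
    obtain ⟨b, hb⟩ := key s hs hzs
    exact Commute.of_map φ.injective (hb ▸ commute_zSub hF (zSub_le hF (key t ht hzt)))
  · intro z hz
    obtain ⟨φ, hφz⟩ := hφ hz
    rw [← card_uSub hF, ← centralizer_one hm hF, ← hφz]
    refine Nat.card_congr (φ.toEquiv.subtypeEquiv fun g => ?_)
    rw [Subgroup.mem_centralizer_singleton_iff, Subgroup.mem_centralizer_singleton_iff]
    show _ ↔ φ g * φ z = φ z * φ g
    rw [← map_mul, ← map_mul, φ.injective.eq_iff]
  · intro z hz
    obtain ⟨φ, hφz⟩ := hφ hz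
    obtain ⟨k, hk⟩ := exists_th_ne hm hF
    refine ⟨φ.symm (tSz hF 1 0), φ.symm (tSz hF k 0), ?_, ?_, fun hc => hk ?_⟩
    · exact Commute.of_map φ.injective (by
        rw [hφz, φ.apply_symm_apply]; exact commute_zSub hF (tSz_mem_uSub hF 1 0))
    · exact Commute.of_map φ.injective (by
        rw [hφz, φ.apply_symm_apply]; exact commute_zSub hF (tSz_mem_uSub hF k 0))
    · have h2 := (hc.map φ).eq
      rw [φ.apply_symm_apply, φ.apply_symm_apply, tSz_mul, tSz_mul] at h2
      have := (tSz_inj hF h2).2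
      simp at this
      exact this.symm
  · intro z hz
    obtain ⟨φ, hφz⟩ := hφ hz
    have e1 : Nat.card {t : G // orderOf t = 2 ∧ Commute t z} =
        Nat.card {t : Sz F m // t ∈ zSub hF ∧ t ≠ 1} := by
      refine Nat.card_congr (φ.toEquiv.subtypeEquiv fun t => ?_)
      rw [← invol_one_iff hm hF, ← hφz]
      show _ ↔ orderOf (φ t) = 2 ∧ Commute (φ t) (φ z)
      rw [MulEquiv.orderOf_eq]
      exact and_congr_right fun _ => ⟨fun h => h.map φ, fun h => Commute.of_map φ.injective h⟩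
    rw [e1, ← card_zSub hF]
    show Nat.card ((zSub hF : Set (Sz F m)) \ {1} : Set (Sz F m)) = Nat.card (zSub hF : Set (Sz F m)) - 1
    rw [Nat.card_coe_set_eq, Nat.card_coe_set_eq, Set.ncard_sdiff_singleton_of_mem (one_mem _)]
  · intro z b hz hb hnc
    obtain ⟨φ, hφz⟩ := hφ hz
    apply Subgroup.map_injective (f := φ.toMonoidHom) φ.injective
    rw [Subgroup.map_top_of_surjective _ φ.surjective, MonoidHom.map_closure, Set.image_union,
      Set.image_singleton, ← generate_one hm hF (b := φ b) (by rw [MulEquiv.orderOf_eq]; exact hb)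
        (fun h => hnc (Commute.of_map φ.injective (hφz ▸ h)))]
    congr 2
    ext t
    constructor
    · rintro ⟨u, ⟨hu, hc⟩, rfl⟩
      exact ⟨(MulEquiv.orderOf_eq φ u).trans hu, hφz ▸ hc.map φ⟩
    · rintro ⟨ht, hc⟩
      refine ⟨φ.symm t, ⟨(MulEquiv.orderOf_eq φ.symm t).trans ht, ?_⟩, φ.apply_symm_apply t⟩
      exact Commute.of_map φ.injective (by rw [φ.apply_symm_apply, hφz]; exact hc)
  · intro z hz
    obtain ⟨φ, hφz⟩ := hφ hz
    exact ⟨φ.symm (tSz hF 1 0), φ.injective (by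
      rw [map_mul, φ.apply_symm_apply, hφz, tSz_mul_self]; simp)⟩
  · intro z t g hz ht htz hgz
    obtain ⟨φ, hφz⟩ := hφ hz
    have h1 := ((invol_one_iff hm hF).1
      ⟨(MulEquiv.orderOf_eq φ t).trans ht, hφz ▸ htz.map φ⟩).1
    obtain ⟨b, hb⟩ := h1
    have h2 := mem_uSub_of_commute hm hF (hφz ▸ hgz.map φ)
    exact Commute.of_map φ.injective (hb ▸ (commute_zSub hF h2).symm)

end Cfsg.Agent.OddTrans
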