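/-
The groups `⟨E_d, x⟩` of a standard class of odd transpositions (owner: helper28).

Main results (namespace `Cfsg.Agent.OddTrans`):
* `Std.mem_Ecl_of_rootGen` : the members of `⟨E_d, x⟩` commuting with `d` are those of `E_d`
* `Std.pCore_rootGen_le_center` : its 2-core is central
* `Std.rootGen_cases` : it is `L₂(|E_d| + 1)`, or `(d, x)` is a Suzuki pair and the central quotient is `Sz`
* `Std.szPair_congr`, `SzPair.symm`, `Std.exists_three` : consequences
-/
import Cfsg.Agent.Lib.OddTrans.Std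
import Cfsg.Agent.Lib.OddTrans.SzModel
import Cfsg.Agent.Lib.OddTrans.L2Model

set_option autoImplicit false
set_option linter.unusedSectionVars false
set_option linter.style.haveILetI false

namespace Cfsg.Agent.OddTrans

open Cfsg

universe u

variable {G : Type u} [Group G] {D : Set G}

/-- `d` is a square in `⟨E_d, x⟩` up to something centralising it. -/
def SzPair (D : Set G) (d x : G) : Prop :=
  d ∈ D ∧ x ∈ D ∧ ¬ Commute d x ∧ ∃ g ∈ rootGen D d x, Commute (g * g * d) d ∧ Commute (g * g * d) x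

theorem SzPair.symm (hD : OT D) {d x : G} (h : SzPair D d x) : SzPair D x d := by
  obtain ⟨hd, hx, hdx, g, hg, hgd, hgx⟩ := h
  obtain ⟨r, hr, hrd⟩ := hD.exists_conj_mem hd hx hdx
  have hrX : r ∈ rootGen D d x := (Subgroup.closure_le _).2 (by
    rintro _ (rfl | rfl)
    · exact self_rootGen hd
    · exact mem_rootGen) hr
  have hcl : Subgroup.closure ({d, x} : Set G) ≤ Subgroup.centralizer ({g * g * d} : Set G) := by
    rw [Subgroup.closure_le]
    rintro _ (rfl | rfl)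
    · exact Subgroup.mem_centralizer_singleton_iff.2 hgd.symm.eq
    · exact Subgroup.mem_centralizer_singleton_iff.2 hgx.symm.eq
  have hru : Commute r (g * g * d) := Subgroup.mem_centralizer_singleton_iff.1 (hcl hr)
  have e : r * g * r⁻¹ * (r * g * r⁻¹) * x = g * g * d := by
    rw [← hrd, show r * g * r⁻¹ * (r * g * r⁻¹) * (r * d * r⁻¹) = r * (g * g * d) * r⁻¹ by group,
      conj_eq_of_commute hru]
  refine ⟨hx, hd, fun c => hdx c.symm, r * g * r⁻¹, ?_, ?_⟩
  · rw [hD.rootGen_symm hd hx hdx]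
    exact mul_mem (mul_mem hrX hg) (inv_mem hrX)
  · rw [e]; exact ⟨hgx, hgd⟩

theorem closure_rootGen_subtype (D : Set G) (d x : G) :
    Subgroup.closure ((Subtype.val ⁻¹' Ecl D d : Set ↥(rootGen D d x)) ∪ {⟨x, mem_rootGen⟩}) = ⊤ := by
  refine Eq.trans ?_ (Subgroup.closure_closure_coe_preimage (k := Ecl D d ∪ {x}))
  congr 1
  ext a
  exact or_congr Iff.rfl ⟨fun e => congrArg Subtype.val e, fun e => Subtype.ext e⟩

namespace Std

variable [Finite G] (h : Std D)
include h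

theorem mem_Ecl_of_rootGen {d x t : G} (hd : d ∈ D) (hx : x ∈ D) (hdx : ¬ Commute d x) (ht : t ∈ D)
    (htX : t ∈ rootGen D d x) (htd : Commute t d) : t ∈ Ecl D d := by
  by_contra hne
  obtain ⟨y, hy, hyd, hyt⟩ := h.exists_separating hd ht hne
  have hyE : y ∉ Ecl D d := fun hyE => hyt (commute_Ecl ht hyE htd).symm
  obtain ⟨e, he, k, hk, hky, hke, hkya, -, -, hwE, hwx, -⟩ := h.exists_B hd hx hy hdx hyd hyE
  have hwt : Commute (k * (y * e)) t := commute_rootGen hwE hwx htX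
  have hte : Commute t e := commute_Ecl ht he htd
  have e1 : k * y = k * (y * e) * e := by rw [← mul_assoc, mul_assoc (k * y), h.ot.mul_self he.1, mul_one]
  have htky : Commute t (k * y) := e1 ▸ (hwt.symm.mul_right hte)
  exact hyt (h.ot.commute_of_commute_mul_right hk hy ht hkya hky htky).symm

/-- A normal 2-subgroup of `⟨E_d, x⟩` is central. -/
theorem pCore_rootGen_le_center {d x : G} (hd : d ∈ D) (hx : x ∈ D) (hdx : ¬ Commute d x) :
    pCore 2 ↥(rootGen D d x) ≤ Subgroup.center ↥(rootGen D d x) := by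
  haveI : Fact (Nat.Prime 2) := ⟨Nat.prime_two⟩
  set X := rootGen D d x with hX
  haveI hn : (pCore 2 ↥X).Normal := Cores.pCore_normal 2 ↥X
  set f := QuotientGroup.mk' (pCore 2 ↥X) with hf
  have hker : IsPGroup 2 f.ker := by rw [hf, QuotientGroup.ker_mk']; exact Cores.isPGroup_pCore 2 ↥X
  have hf1 : ∀ a : ↥X, f a = 1 ↔ a ∈ pCore 2 ↥X := fun a => QuotientGroup.eq_one_iff a
  have hDX := h.ot.sub X
  let xX : ↥X := ⟨x, mem_rootGen⟩
  let dX : ↥X := ⟨d, self_rootGen hd⟩
  intro n hn'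
  have hfn := (hf1 n).2 hn'
  -- it centralises the class
  have hE : ∀ e : ↥X, (e : G) ∈ Ecl D d → Commute n e := by
    intro e he
    by_contra hc
    have heD' : (n * e * n⁻¹ : ↥X).1 ∈ D := by simpa using h.ot.conj n.1 e.1 he.1
    have hfe : f (n * e * n⁻¹) = f e := by rw [map_mul, map_mul, map_inv, hfn, one_mul, inv_one, mul_one]
    have hcd : Commute (n * e * n⁻¹ : ↥X) dX := by
      refine (hDX.commute_map_iff hker heD' hd).1 ?_
      rw [hfe]
      exact (Commute.map (show Commute e dX from Subtype.ext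
        (commute_of_mem_Ecl he (self_mem_Ecl hd)).eq) f)
    have hneE : (n * e * n⁻¹ : ↥X).1 ∈ Ecl D d :=
      h.mem_Ecl_of_rootGen hd hx hdx heD' (n * e * n⁻¹).2 (hcd.map X.subtype)
    have hne : (n * e * n⁻¹ : ↥X).1 ≠ e.1 := fun e' => hc (commute_of_conj_eq (Subtype.ext e'))
    have hl := h.mul_mem hneE he hne
    have hfl : f (n * e * n⁻¹ * e) = 1 := by
      rw [map_mul, hfe, ← map_mul, show e * e = 1 from Subtype.ext (h.ot.mul_self he.1), map_one]
    have hlx : Commute (n * e * n⁻¹ * e : ↥X) xX :=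
      (hDX.commute_map_iff hker (show (n * e * n⁻¹ * e : ↥X).1 ∈ D from hl.1) hx).1
        (hfl.symm ▸ Commute.one_left _)
    exact hdx ((hl.2 x hx).2 (hlx.map X.subtype).symm).symm
  obtain ⟨g, hg, hgd⟩ := h.ot.exists_conj_mem hd hx hdx
  have hgX : g ∈ X := (Subgroup.closure_le _).2 (by
    rintro _ (rfl | rfl)
    · exact self_rootGen hd
    · exact mem_rootGen) hg
  let gX : ↥X := ⟨g, hgX⟩
  have hnx : Commute n xX := by
    have e : gX * dX * gX⁻¹ = xX := Subtype.ext hgd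
    have hn2 : gX⁻¹ * n * gX ∈ pCore 2 ↥X := by
      have := hn.conj_mem n hn' gX⁻¹
      rwa [inv_inv] at this
    have hc2 : Commute (gX⁻¹ * n * gX) dX := by
      have hfn2 := (hf1 _).2 hn2
      by_contra hc
      set m := gX⁻¹ * n * gX with hm
      have hDm : (m * dX * m⁻¹ : ↥X).1 ∈ D := by simpa using h.ot.conj m.1 d hd
      have hfe : f (m * dX * m⁻¹) = f dX := by rw [map_mul, map_mul, map_inv, hfn2, one_mul, inv_one, mul_one]
      have hcd : Commute (m * dX * m⁻¹) dX :=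
        (hDX.commute_map_iff hker hDm hd).1 (hfe ▸ Commute.refl _)
      have hmE := h.mem_Ecl_of_rootGen hd hx hdx hDm (m * dX * m⁻¹).2 (hcd.map X.subtype)
      have hne : (m * dX * m⁻¹ : ↥X).1 ≠ d := fun e' => hc (commute_of_conj_eq (Subtype.ext e'))
      have hl := h.mul_mem hmE (self_mem_Ecl hd) hne
      have hfl : f (m * dX * m⁻¹ * dX) = 1 := by
        rw [map_mul, hfe, ← map_mul, show dX * dX = 1 from Subtype.ext (h.ot.mul_self hd), map_one]
      have hlx : Commute (m * dX * m⁻¹ * dX) xX :=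
        (hDX.commute_map_iff hker (show (m * dX * m⁻¹ * dX : ↥X).1 ∈ D from hl.1) hx).1
          (hfl.symm ▸ Commute.one_left _)
      exact hdx ((hl.2 x hx).2 (hlx.map X.subtype).symm).symm
    have h2 := hc2.map (MulAut.conj gX).toMonoidHom
    rw [← e]
    simpa [mul_assoc] using h2
  rw [Subgroup.mem_center_iff]
  intro a
  refine Subtype.ext ?_
  exact (commute_rootGen (w := n.1) (fun e he => (hE ⟨e, subset_rootGen he⟩ he).map X.subtype)
    (hnx.map X.subtype) a.2).eq.symm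

theorem rootGen_perfect {d x : G} (hd : d ∈ D) (hx : x ∈ D) (hdx : ¬ Commute d x) :
    commutator ↥(rootGen D d x) = ⊤ := by
  set X := rootGen D d x with hX
  obtain ⟨e₀, he₀, hne₀⟩ := h.two hd
  have hl := h.mul_mem (self_mem_Ecl hd) he₀ hne₀.symm
  have hcl : ∀ a : ↥X, (a : G) ∈ Ecl D d →
      Abelianization.of a = Abelianization.of (⟨x, mem_rootGen⟩ : ↥X) := by
    intro a ha
    have hax : ¬ Commute (a : G) x := fun c => hdx ((ha.2 x hx).2 c.symm).symm
    obtain ⟨g, hg, hga⟩ := h.ot.exists_conj_mem ha.1 hx hax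
    have hgX : g ∈ X := (Subgroup.closure_le _).2 (by
      rintro _ (rfl | rfl)
      · exact a.2
      · exact mem_rootGen) hg
    rw [show (⟨x, mem_rootGen⟩ : ↥X) = ⟨g, hgX⟩ * a * (⟨g, hgX⟩ : ↥X)⁻¹ from Subtype.ext hga.symm,
      map_mul, map_mul, map_inv, mul_comm (Abelianization.of (⟨g, hgX⟩ : ↥X)), mul_inv_cancel_right]
  have hx1 : Abelianization.of (⟨x, mem_rootGen⟩ : ↥X) = 1 := by
    have h1 := hcl ⟨d * e₀, subset_rootGen hl⟩ hl
    rw [show (⟨d * e₀, subset_rootGen hl⟩ : ↥X) =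
        ⟨d, self_rootGen hd⟩ * ⟨e₀, subset_rootGen he₀⟩ from Subtype.ext rfl,
      map_mul, hcl ⟨d, self_rootGen hd⟩ (self_mem_Ecl hd), hcl ⟨e₀, subset_rootGen he₀⟩ he₀,
      mul_eq_left] at h1
    exact h1
  rw [← Abelianization.ker_of, eq_top_iff, ← closure_rootGen_subtype D d x, Subgroup.closure_le]
  rintro a (ha | rfl)
  · exact (hcl a ha).trans hx1
  · exact hx1

/-- The dichotomy. -/
theorem rootGen_cases (hA : Aschbacher.CoreFreeCriterion.{u}) {d x : G} (hd : d ∈ D) (hx : x ∈ D)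
    (hdx : ¬ Commute d x) [(pCore 2 ↥(rootGen D d x)).Normal] :
    (∃ (F : Type) (_ : Field F) (_ : Fintype F), CharP F 2 ∧ Fintype.card F = (Ecl D d).ncard + 1 ∧
        Nonempty (↥(rootGen D d x) ≃* Matrix.ProjectiveSpecialLinearGroup (Fin 2) F)) ∨
      (SzPair D d x ∧ SzFacts (↥(rootGen D d x) ⧸ pCore 2 ↥(rootGen D d x)) ((Ecl D d).ncard + 1)) := by
  classical
  haveI : Fact (Nat.Prime 2) := ⟨Nat.prime_two⟩
  set X := rootGen D d x with hX
  set O := pCore 2 ↥X with hOdef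
  set f := QuotientGroup.mk' O with hf
  have hfs : Function.Surjective f := QuotientGroup.mk'_surjective O
  have hker : IsPGroup 2 f.ker := by rw [hf, QuotientGroup.ker_mk']; exact Cores.isPGroup_pCore 2 ↥X
  have hf1 : ∀ a : ↥X, f a = 1 ↔ a ∈ O := fun a => QuotientGroup.eq_one_iff a
  have hOZ := h.pCore_rootGen_le_center hd hx hdx
  have hDX := h.ot.sub X
  set DX : Set ↥X := Subtype.val ⁻¹' D with hDXdef
  let dX : ↥X := ⟨d, self_rootGen hd⟩
  let xX : ↥X := ⟨x, mem_rootGen⟩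
  set EX : Set ↥X := Subtype.val ⁻¹' Ecl D d with hEX
  have hgenX : Subgroup.closure (EX ∪ {xX}) = ⊤ := closure_rootGen_subtype D d x
  have hncomm : ∀ e : ↥X, e ∈ EX → ¬ Commute (f e) (f xX) := by
    intro e he hc
    have h1 := (hDX.commute_map_iff hker (a := e) (b := xX) (he.1) hx).1 hc
    exact hdx ((he.2 x hx).2 (h1.map X.subtype).symm).symm
  have hne1 : ∀ e : ↥X, e ∈ EX → f e ≠ 1 := fun e he h1 => hncomm e he (h1 ▸ Commute.one_left _)
  have hx1 : f xX ≠ 1 := fun h1 => hncomm dX (self_mem_Ecl hd) (h1 ▸ Commute.one_right _)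
  have hinj : Set.InjOn f EX := by
    intro a ha b hb e
    by_contra hne
    have hl : (a * b : ↥X) ∈ EX := h.mul_mem ha hb fun e' => hne (Subtype.ext e')
    refine hne1 _ hl ?_
    rw [map_mul, e, ← map_mul, show b * b = 1 from Subtype.ext (h.ot.mul_self hb.1), map_one]
  have hH : Hyp ((f '' DX) \ {1}) (f '' EX) (f dX) (f xX) := by
    refine ⟨hDX.map hfs, Cores.pCore_quotient_self 2 ↥X, ⟨⟨dX, hd, rfl⟩, hne1 dX (self_mem_Ecl hd)⟩,
      ⟨⟨xX, hx, rfl⟩, hx1⟩, hncomm dX (self_mem_Ecl hd), ?_, ?_, ?_⟩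
    · rintro _ ⟨e, he, rfl⟩
      refine ⟨⟨⟨e, he.1, rfl⟩, hne1 e he⟩,
        hDX.sameC_map hker (a := dX) (b := e) hd (he.1) fun y hy => ?_⟩
      exact ⟨fun hc => Subtype.ext ((he.2 y.1 hy).1 (hc.map X.subtype)).eq,
        fun hc => Subtype.ext ((he.2 y.1 hy).2 (hc.map X.subtype)).eq⟩
    · rw [← Set.image_singleton, ← Set.image_union, ← MonoidHom.map_closure, hgenX,
        Subgroup.map_top_of_surjective f hfs]
    · obtain ⟨e, he, hne⟩ := h.two hd
      refine ⟨f ⟨e, subset_rootGen he⟩, ⟨_, he, rfl⟩, fun e' => hne ?_⟩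
      exact congrArg Subtype.val (hinj (show (⟨e, subset_rootGen he⟩ : ↥X) ∈ EX from he)
        (self_mem_Ecl hd) e')
  have hd2 : orderOf (f dX) = 2 := hH.ot.inv _ hH.memd
  -- involutions commuting with `f d` come from `E_d`
  have hinv : (∀ s t : ↥X ⧸ O, orderOf s = 2 → orderOf t = 2 → IsConj s t) →
      Nat.card {t : ↥X ⧸ O // orderOf t = 2 ∧ Commute t (f dX)} = (Ecl D d).ncard := by
    intro hconj
    have e1 : {t : ↥X ⧸ O | orderOf t = 2 ∧ Commute t (f dX)} = f '' EX := by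
      ext t
      constructor
      · rintro ⟨ht, hc⟩
        obtain ⟨g, rfl⟩ := isConj_iff.1 (hconj _ t hd2 ht)
        obtain ⟨g, rfl⟩ := hfs g
        refine ⟨g * dX * g⁻¹, ?_, by simp⟩
        have hD' : (g * dX * g⁻¹ : ↥X) ∈ DX := by simpa [hDXdef] using h.ot.conj g.1 d hd
        rw [← map_inv, ← map_mul, ← map_mul] at hc
        have hc' := (hDX.commute_map_iff hker hD' hd).1 hc
        exact h.mem_Ecl_of_rootGen hd hx hdx hD' (g * dX * g⁻¹).2 (hc'.map X.subtype)
      · rintro ⟨e, he, rfl⟩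
        refine ⟨hH.ot.inv _ ⟨⟨e, he.1, rfl⟩, hne1 e he⟩, Commute.map ?_ f⟩
        exact Subtype.ext (commute_of_mem_Ecl he (self_mem_Ecl hd)).eq
    show Nat.card ({t : ↥X ⧸ O | orderOf t = 2 ∧ Commute t (f dX)} : Set (↥X ⧸ O)) = _
    rw [Nat.card_coe_set_eq, e1, hinj.ncard_image,
      Set.ncard_preimage_of_injective_subset_range Subtype.val_injective
        (fun e he => ⟨⟨e, subset_rootGen he⟩, rfl⟩)]
  rcases hH.classify hA with ⟨F, _, _, hch, h4, ⟨ψ⟩⟩ | hSz
  · left
    haveI := hch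
    have hL := l2Facts_of_psl (F := F) ψ
    have hq : Fintype.card F = (Ecl D d).ncard + 1 := by
      have := (hinv hL.conj).symm.trans (hL.card_invol _ hd2)
      omega
    refine ⟨F, inferInstance, inferInstance, hch, hq, ?_⟩
    -- the 2-core is trivial by transfer
    obtain ⟨P, hP⟩ := (Cores.isPGroup_pCore 2 ↥X).exists_le_sylow (G := ↥X)
    obtain ⟨S, hS⟩ := (P.isPGroup'.map f).exists_le_sylow
    have hPc : IsMulCommutative (P : Subgroup ↥X) := by
      obtain ⟨dP, hdP⟩ : ∃ z : ↥X ⧸ O, orderOf z = 2 ∧ ∀ a ∈ P, Commute (f a) z := by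
        haveI : Nontrivial (S : Subgroup (↥X ⧸ O)) := by
          refine (Subgroup.nontrivial_iff_ne_bot _).2 (Sylow.ne_bot_of_dvd_card S ?_)
          exact hd2 ▸ orderOf_dvd_natCard (f dX)
        obtain ⟨⟨⟨z, hzS⟩, hzc⟩, hz2⟩ := exists_prime_orderOf_dvd_card' (G := Subgroup.center (S : Subgroup (↥X ⧸ O))) 2 (by
          haveI := S.isPGroup'.center_nontrivial
          obtain ⟨n, hn, hn'⟩ := (S.isPGroup'.to_subgroup (Subgroup.center _)).nontrivial_iff_card.1 inferInstance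
          exact hn' ▸ dvd_pow_self 2 hn.ne')
        refine ⟨z, by rwa [← Subgroup.orderOf_coe, ← Subgroup.orderOf_coe] at hz2, fun a ha => ?_⟩
        exact congrArg Subtype.val
          (Subgroup.mem_center_iff.1 hzc ⟨f a, hS (Subgroup.mem_map_of_mem f ha)⟩)
      refine ⟨⟨fun a b => Subtype.ext ?_⟩⟩
      obtain ⟨t, ht⟩ : ∃ t : ↥X ⧸ O, IsConj dP t ∧ t = f dX := ⟨f dX, hL.conj _ _ hdP.1 hd2, rfl⟩
      obtain ⟨g, hg⟩ := isConj_iff.1 ht.1
      obtain ⟨g, rfl⟩ := hfs g
      -- after conjugation everything lies in `E_d` times the 2-core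
      have key : ∀ a : ↥X, a ∈ P → ∃ e : ↥X, (e ∈ EX ∨ e = 1) ∧ ∃ z ∈ O, g * a * g⁻¹ = e * z := by
        intro a ha
        have hc : Commute (f (g * a * g⁻¹)) (f dX) := by
          rw [← ht.2, ← hg, map_mul, map_mul, map_inv]
          exact conj_commute_iff.2 (hdP.2 a ha)
        have hsq := hL.sq _ _ hd2 hc
        by_cases h1 : f (g * a * g⁻¹) = 1
        · exact ⟨1, Or.inr rfl, _, (hf1 _).1 h1, (one_mul _).symm⟩
        · obtain ⟨k, hk⟩ := isConj_iff.1 (hL.conj _ _ hd2 (Involution.orderOf_of_sq hsq h1))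
          obtain ⟨k, rfl⟩ := hfs k
          rw [← map_inv, ← map_mul, ← map_mul] at hk
          have hD' : (k * dX * k⁻¹ : ↥X) ∈ DX := by simpa [hDXdef] using h.ot.conj k.1 d hd
          have hc' := (hDX.commute_map_iff hker hD' hd).1 (hk ▸ hc)
          have hE' := h.mem_Ecl_of_rootGen hd hx hdx hD' (k * dX * k⁻¹).2 (hc'.map X.subtype)
          refine ⟨k * dX * k⁻¹, Or.inl hE', (k * dX * k⁻¹)⁻¹ * (g * a * g⁻¹), (hf1 _).1 ?_,
            (mul_inv_cancel_left _ _).symm⟩
          rw [map_mul, map_inv, hk, inv_mul_cancel]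
      obtain ⟨e, he, z, hz, h1⟩ := key a a.2
      obtain ⟨e', he', z', hz', h2⟩ := key b b.2
      have hee : Commute e e' := by
        rcases he with he | rfl
        · rcases he' with he' | rfl
          · exact Subtype.ext (commute_of_mem_Ecl he he').eq
          · exact Commute.one_right _
        · exact Commute.one_left _
      have hzc : ∀ {z : ↥X}, z ∈ O → ∀ y, Commute z y := fun hz y =>
        (Subgroup.mem_center_iff.1 (hOZ hz) y).symm
      have hc : Commute (g * a.1 * g⁻¹) (g * b.1 * g⁻¹) := by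
        rw [h1, h2]
        exact ((hee.mul_right (hzc hz' e).symm).mul_left (hzc hz _))
      exact (conj_commute_iff.1 hc).eq
    have hbot : O = ⊥ := by
      refine eq_bot_iff.2 fun z hz => ?_
      have h1 := Transfer.inf_commutator_inf_center_eq_bot (P : Subgroup ↥X) hPc P.card_coprime_index
      have h3 : z ∈ (P : Subgroup ↥X) ⊓ commutator ↥X ⊓ Subgroup.center ↥X :=
        ⟨⟨hP hz, (h.rootGen_perfect hd hx hdx).symm ▸ Subgroup.mem_top z⟩, hOZ hz⟩
      rwa [h1] at h3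
    exact ⟨((QuotientGroup.quotientMulEquivOfEq hbot).trans QuotientGroup.quotientBot).symm.trans ψ⟩
  · right
    obtain ⟨q, hq⟩ := szFacts_of_isoSuzuki hSz
    have hqn : q = (Ecl D d).ncard + 1 := by
      have := (hinv hq.conj).symm.trans (hq.card_invol _ hd2)
      have := hq.four_le
      omega
    refine ⟨⟨hd, hx, hdx, ?_⟩, hqn ▸ hq⟩
    obtain ⟨g, hg⟩ := hq.root _ hd2
    obtain ⟨g, rfl⟩ := hfs g
    have hmem : g * g * dX ∈ O := (hf1 _).1 (by
      rw [map_mul, map_mul, hg, ← map_mul, show dX * dX = 1 from Subtype.ext (h.ot.mul_self hd), map_one])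
    have hc := Subgroup.mem_center_iff.1 (hOZ hmem)
    exact ⟨g.1, g.2, (congrArg Subtype.val (hc dX)).symm, (congrArg Subtype.val (hc xX)).symm⟩

theorem l2Facts_rootGen {d x : G} {F : Type} [Field F] [Fintype F] [CharP F 2]
    (ψ : ↥(rootGen D d x) ≃* Matrix.ProjectiveSpecialLinearGroup (Fin 2) F) :
    L2Facts ↥(rootGen D d x) (Fintype.card F) := l2Facts_of_psl ψ

theorem not_szPair_of_l2 {d x : G} {q : ℕ} (hL : L2Facts ↥(rootGen D d x) q) : ¬ SzPair D d x := by
  rintro ⟨hd, hx, hdx, g, hg, hgd, hgx⟩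
  set X := rootGen D d x
  let dX : ↥X := ⟨d, self_rootGen hd⟩
  let gX : ↥X := ⟨g, hg⟩
  have hd2 : orderOf dX = 2 := by rw [← Subgroup.orderOf_coe]; exact h.ot.inv d hd
  have hcd : Commute (gX * gX * dX) dX := Subtype.ext hgd.eq
  by_cases h1 : gX * gX * dX = 1
  · have hgg : gX * gX = dX := by
      rw [mul_eq_one_iff_eq_inv, Involution.inv_eq hd2] at h1
      exact h1
    have hc : Commute gX dX := hgg ▸ ((Commute.refl gX).mul_right (Commute.refl gX))
    exact Involution.ne_one hd2 (hgg ▸ hL.sq _ _ hd2 hc)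
  · obtain ⟨k, hk⟩ := isConj_iff.1 (hL.conj _ _ hd2
      (Involution.orderOf_of_sq (hL.sq _ _ hd2 hcd) h1))
    have hD' : (gX * gX * dX : ↥X).1 ∈ D := hk ▸ (by simpa using h.ot.conj k.1 d hd)
    have hE := h.mem_Ecl_of_rootGen hd hx hdx hD' (gX * gX * dX).2 hgd
    exact hdx ((hE.2 x hx).2 hgx.symm).symm

theorem szPair_congr (hA : Aschbacher.CoreFreeCriterion.{u}) {d e x : G} (hs : SameC D d e)
    (he : e ∈ D) (hsz : SzPair D d x) : SzPair D e x := by
  haveI : (pCore 2 ↥(rootGen D e x)).Normal := Cores.pCore_normal 2 _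
  have hex : ¬ Commute e x := fun c => hsz.2.2.1 ((hs x hsz.2.1).2 c.symm).symm
  rcases h.rootGen_cases hA he hsz.2.1 hex with ⟨F, _, _, hch, -, ⟨ψ⟩⟩ | h'
  · haveI := hch
    have hX := rootGen_congr (x := x) hs
    exact absurd hsz (h.not_szPair_of_l2 (h.l2Facts_rootGen
      ((MulEquiv.subgroupCongr hX.symm).trans ψ)))
  · exact h'.1

/-- Either a Suzuki pair or a class member giving a product of order three. -/
theorem exists_three (hA : Aschbacher.CoreFreeCriterion.{u}) {d x : G} (hd : d ∈ D) (hx : x ∈ D)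
    (hdx : ¬ Commute d x) (hsz : ¬ SzPair D d x) :
    ∃ x' ∈ Ecl D x, d * x' * (d * x') * (d * x') = 1 ∧ d * x' ≠ 1 := by
  haveI : (pCore 2 ↥(rootGen D d x)).Normal := Cores.pCore_normal 2 _
  obtain ⟨F, _, _, hch, -, ⟨ψ⟩⟩ := (h.rootGen_cases hA hd hx hdx).resolve_right fun c => hsz c.1
  haveI := hch
  have hL := h.l2Facts_rootGen ψ
  set X := rootGen D d x
  let dX : ↥X := ⟨d, self_rootGen hd⟩
  let xX : ↥X := ⟨x, mem_rootGen⟩
  have hd2 : orderOf dX = 2 := by rw [← Subgroup.orderOf_coe]; exact h.ot.inv d hd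
  have hx2 : orderOf xX = 2 := by rw [← Subgroup.orderOf_coe]; exact h.ot.inv x hx
  obtain ⟨t, ht, htx, h3, h1⟩ := hL.three dX xX hd2 hx2 fun c => hdx (c.map X.subtype)
  obtain ⟨k, hk⟩ := isConj_iff.1 (hL.conj _ _ hd2 ht)
  have hD' : (t : G) ∈ D := hk ▸ (by simpa using h.ot.conj k.1 d hd)
  refine ⟨t, ?_, congrArg Subtype.val h3, fun e => h1 (Subtype.ext e)⟩
  refine h.mem_Ecl_of_rootGen hx hd (fun c => hdx c.symm) hD' ?_ (htx.map X.subtype)
  rw [h.ot.rootGen_symm hd hx hdx]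
  exact t.2

end Std

end Cfsg.Agent.OddTrans
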