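/-
A standard class whose commuting graph is disconnected (owner: helper28).

Main results (namespace `Cfsg.Agent.OddTrans`):
* `Std.flat_of_disconnected` : commuting members then commute alike
* `Std.flatSz` : with a Suzuki pair the group is `Sz(|E_d| + 1)` and its involutions are the members
* `FlatSz.no_three`, `FlatSz.generate`, `FlatSz.card_classes` : consequences
-/
import Cfsg.Agent.Lib.OddTrans.RootGen
import Cfsg.Agent.Lib.RootConnected.CoreTwoAll
import Cfsg.Agent.Lib.Bender.CoreInCore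
import Cfsg.Agent.S5048

set_option autoImplicit false
set_option linter.unusedSectionVars false
set_option linter.style.haveILetI false

namespace Cfsg.Agent.OddTrans

open Cfsg

universe u

variable {G : Type u} [Group G]

/-- Commuting members commute alike. -/
def Flat (D : Set G) : Prop := ∀ a ∈ D, ∀ b ∈ D, Commute a b → SameC D a b

theorem Flat.mem_Ecl {D : Set G} (hF : Flat D) {a b : G} (ha : a ∈ D) (hb : b ∈ D) (h : Commute a b) :
    b ∈ Ecl D a :=
  ⟨hb, hF a ha b hb h⟩

/-- A standard class with flat commuting relation in a Suzuki group. -/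
structure FlatSz (D : Set G) : Prop where
  std : Std D
  flat : Flat D
  mem : ∀ t : G, orderOf t = 2 → t ∈ D
  facts : ∀ d ∈ D, SzFacts G ((Ecl D d).ncard + 1)

namespace Std

variable [Finite G] {D : Set G} (h : Std D)
include h

theorem isRootInvolutionSet : IsRootInvolutionSet D := h.ot.toRootInvolutionSet h.gen

/-- The graph of non-commuting pairs is connected. -/
theorem oddAdj_connected : IsConnectedSet (OddAdj D) D := by
  intro a ha b hb
  set C : Set G := {y | y ∈ D ∧ Relation.ReflTransGen (OddAdj D) a y} with hC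
  have hadj : ∀ g : G, ∀ {y z : G}, OddAdj D y z → OddAdj D (g * y * g⁻¹) (g * z * g⁻¹) := by
    intro g y z e
    refine ⟨h.ot.conj g y e.1, h.ot.conj g z e.2.1,
      fun e' => e.2.2.1 (mul_left_cancel (mul_right_cancel e')), ?_⟩
    rw [show g * y * g⁻¹ * (g * z * g⁻¹) = g * (y * z) * g⁻¹ by group, Involution.orderOf_conj]
    exact e.2.2.2
  have hrc : ∀ g : G, ∀ {y z : G}, Relation.ReflTransGen (OddAdj D) y z →
      Relation.ReflTransGen (OddAdj D) (g * y * g⁻¹) (g * z * g⁻¹) := by
    intro g y z e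
    induction e with
    | refl => exact .refl
    | tail _ e' ih => exact ih.tail (hadj g e')
  have hswap : ∀ y ∈ D, ∀ z : G, orderOf (z * y) = orderOf (y * z) := fun y hy z => by
    rw [← Involution.orderOf_conj y (y * z), inv_of_mul_self (h.ot.mul_self hy), ← mul_assoc y y z,
      h.ot.mul_self hy, one_mul]
  have hsymm : ∀ {y z : G}, Relation.ReflTransGen (OddAdj D) y z → Relation.ReflTransGen (OddAdj D) z y := by
    intro y z e
    induction e with
    | refl => exact .refl
    | tail _ e' ih =>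
      refine .head ⟨e'.2.1, e'.1, e'.2.2.1.symm, ?_⟩ ih
      have h1 := e'.2.2.2
      rw [hswap _ e'.1]
      exact h1
  -- the component is invariant under the members, hence under everything
  have hinv : ∀ g : G, Relation.ReflTransGen (OddAdj D) a (g * a * g⁻¹) := by
    intro g
    have hg : g ∈ Subgroup.closure D := h.gen ▸ Subgroup.mem_top g
    induction hg using Subgroup.closure_induction with
    | mem y hy =>
      by_cases hc : Commute a y
      · rw [conj_eq_of_commute hc.symm]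
      · have hne : a ≠ y := fun e => hc (e ▸ Commute.refl a)
        have h1 : OddAdj D a y := ⟨ha, hy, hne, h.ot.odd_of ha hy hc⟩
        have h2 := hadj y h1
        rw [conj_eq_of_commute (Commute.refl y)] at h2
        exact Relation.ReflTransGen.trans (.single h1) (hsymm (.single h2))
    | one => rw [one_mul, inv_one, mul_one]
    | mul g k _ _ ihg ihk =>
      rw [show g * k * a * (g * k)⁻¹ = g * (k * a * k⁻¹) * g⁻¹ by group]
      exact ihg.trans (hrc g ihk)
    | inv g _ ih =>
      have := hsymm (hrc g⁻¹ ih)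
      rwa [show g⁻¹ * (g * a * g⁻¹) * g⁻¹⁻¹ = a by group] at this
  obtain ⟨g, rfl⟩ := isConj_iff.1 (h.isConj a ha b hb)
  exact hinv g

theorem commutator_eq_top : commutator G = ⊤ := by
  obtain ⟨a, ha, b, hb, -, -, hc⟩ := h.line
  have hcl : ∀ y ∈ D, Abelianization.of y = Abelianization.of a := fun y hy => by
    obtain ⟨g, rfl⟩ := isConj_iff.1 (h.isConj a ha y hy)
    rw [map_mul, map_mul, map_inv, mul_comm (Abelianization.of g), mul_inv_cancel_right]
  have ha1 : Abelianization.of a = 1 := by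
    have h1 := hcl _ hc
    rwa [map_mul, hcl b hb, mul_eq_left] at h1
  rw [eq_top_iff, ← h.gen, Subgroup.closure_le]
  intro y hy
  show y ∈ commutator G
  rw [← Abelianization.ker_of, MonoidHom.mem_ker, hcl y hy, ha1]

theorem simple_quotient : IsSimpleGroup (G ⧸ Subgroup.center G) := by
  obtain ⟨a, ha, b, hb, hne, hab, hc⟩ := h.line
  obtain ⟨-, hs⟩ := S5048.result h.isRootInvolutionSet h.oddAdj_connected
    ⟨a * b, hc, a, ha, b, hb, hab.eq, fun e => hne (h.ot.mul_eq_one hb e), rfl⟩
  have e : twoZCore G = Subgroup.center G := by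
    haveI : (pCore 2 G).Normal := Cores.pCore_normal 2 G
    let ψ : G ⧸ pCore 2 G ≃* G := (QuotientGroup.quotientMulEquivOfEq h.core).trans QuotientGroup.quotientBot
    ext g
    show (QuotientGroup.mk' (pCore 2 G) g) ∈ Subgroup.center (G ⧸ pCore 2 G) ↔ _
    rw [Subgroup.mem_center_iff, Subgroup.mem_center_iff]
    constructor
    · intro hg k
      exact ψ.symm.injective (by rw [map_mul, map_mul]; exact hg (ψ.symm k))
    · intro hg k
      obtain ⟨k, rfl⟩ := QuotientGroup.mk'_surjective _ k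
      rw [← map_mul, ← map_mul, hg k]
  haveI := hs
  haveI : Nontrivial (G ⧸ Subgroup.center G) := (QuotientGroup.quotientMulEquivOfEq e).injective.nontrivial
  exact IsSimpleGroup.isSimpleGroup_of_surjective (QuotientGroup.quotientMulEquivOfEq e).toMonoidHom
    (QuotientGroup.quotientMulEquivOfEq e).surjective

theorem odd_center : Odd (Nat.card (Subgroup.center G)) := by
  rw [← Nat.not_even_iff_odd, even_iff_two_dvd]
  intro h2
  haveI : Fact (Nat.Prime 2) := ⟨Nat.prime_two⟩
  obtain ⟨⟨u, hu⟩, hou⟩ := exists_prime_orderOf_dvd_card' 2 h2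
  have huu : u * u = 1 := congrArg Subtype.val (Involution.mul_self hou)
  have := h.eq_one_of_central huu fun b _ => (Subgroup.mem_center_iff.1 hu b).symm
  exact Involution.ne_one hou (Subtype.ext this)

/-- In a disconnected commuting graph the simple quotient has a strongly embedded subgroup, and the
members of one component lie in a conjugate of it. -/
theorem disconnected_setup (hA : Aschbacher.CoreFreeCriterion.{u}) {a₀ b₀ : G} (ha₀ : a₀ ∈ D)
    (hb₀ : b₀ ∈ D) (hnr : ¬ Relation.ReflTransGen (CommAdj D) a₀ b₀) :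
    (∃ H : Subgroup (G ⧸ Subgroup.center G), IsStronglyEmbedded H ∧
      ∀ a b : G, Relation.ReflTransGen (CommAdj D) a b → a ∈ D → ∃ g : G,
        QuotientGroup.mk' (Subgroup.center G) (g * a * g⁻¹) ∈ H ∧
        QuotientGroup.mk' (Subgroup.center G) (g * b * g⁻¹) ∈ H) := by
  classical
  haveI := h.simple_quotient
  set Z := Subgroup.center G with hZ
  set f := QuotientGroup.mk' Z with hf
  have hfs : Function.Surjective f := QuotientGroup.mk'_surjective Z
  have hf1 : ∀ a ∈ D, f a ≠ 1 := by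
    intro a ha e
    obtain ⟨y, hy, hay⟩ := h.exists_partner ha
    exact hay (Subgroup.mem_center_iff.1 ((QuotientGroup.eq_one_iff a).1 e) y).symm
  set D' := (f '' D) \ {1} with hD'
  have hOT := h.ot.map hfs
  have hmem : ∀ a ∈ D, f a ∈ D' := fun a ha => ⟨⟨a, ha, rfl⟩, hf1 a ha⟩
  have hgen' : Subgroup.closure D' = ⊤ := by
    rw [eq_top_iff, ← Subgroup.map_top_of_surjective f hfs, ← h.gen, MonoidHom.map_closure]
    exact Subgroup.closure_mono fun y ⟨a, ha, e⟩ => e ▸ hmem a ha
  have hR := hOT.toRootInvolutionSet hgen'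
  have hup : ∀ {a b : G}, Relation.ReflTransGen (CommAdj D) a b → a ∈ D →
      Relation.ReflTransGen (CommAdj D') (f a) (f b) := by
    intro a b e ha
    induction e with
    | refl => exact .refl
    | tail _ e' ih =>
      exact ih.trans (RootConnected.reach_of_commute (hmem _ e'.1) (hmem _ e'.2.1)
        ((show Commute _ _ from e'.2.2.2).map f).eq)
  have hdown : ∀ {a : G}, a ∈ D → ∀ {c}, Relation.ReflTransGen (CommAdj D') (f a) c →
      ∀ b ∈ D, f b = c → Relation.ReflTransGen (CommAdj D) a b := by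
    intro a ha c hc
    induction hc with
    | refl =>
      intro b hb e
      exact RootConnected.reach_of_commute ha hb ((commute_map_center_iff h.ot ha hb).1 (e ▸ Commute.refl _)).eq
    | tail _ e ih =>
      intro b hb e'
      obtain ⟨⟨b', hb', rfl⟩, -⟩ := e.1
      exact (ih b' hb' rfl).trans (RootConnected.reach_of_commute hb' hb
        ((commute_map_center_iff h.ot hb' hb).1 (e' ▸ e.2.2.2)).eq)
  have hnr' : ¬ Relation.ReflTransGen (CommAdj D') (f a₀) (f b₀) := fun e => hnr (hdown ha₀ e b₀ hb₀ rfl)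
  set B := RootConnected.blockStab hR (f a₀) with hB
  have hBne : B ≠ ⊤ := by
    intro e
    obtain ⟨g, hg⟩ := isConj_iff.1 (h.isConj a₀ ha₀ b₀ hb₀)
    have : f g ∈ B := e ▸ Subgroup.mem_top _
    change Relation.ReflTransGen (CommAdj D') (f a₀) (f g * f a₀ * (f g)⁻¹) at this
    rw [← map_inv, ← map_mul, ← map_mul, hg] at this
    exact hnr' this
  have hBcore : B.normalCore = ⊥ :=
    (Subgroup.normalCore_normal B).eq_bot_or_eq_top.resolve_right
      fun e => hBne (top_le_iff.1 (e ▸ B.normalCore_le))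
  have P := RootConnected.oddClass hR (hmem a₀ ha₀) (hmem b₀ hb₀) hnr'
  haveI : FaithfulSMul (G ⧸ Z) ((G ⧸ Z) ⧸ B) := Bender.faithful_of_normalCore hBcore
  have hne : Aschbacher.pointOf B (f a₀) (f a₀) ≠ Aschbacher.pointOf B (f a₀) (f b₀) := by
    intro e
    obtain ⟨g, hg⟩ := isConj_iff.1 (RootConnected.isConj_of_disconnected hR (hmem a₀ ha₀) (hmem b₀ hb₀)
      hnr' (hmem b₀ hb₀))
    have hiff := RootConnected.conj_mem_blockStab_iff hR (hmem a₀ ha₀)
    have e1 : Aschbacher.pointOf B (f a₀) (f a₀) = ((1 : G ⧸ Z) : (G ⧸ Z) ⧸ B) := by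
      simpa using Aschbacher.pointOf_eq hiff 1
    rw [e1, ← hg, Aschbacher.pointOf_eq hiff, QuotientGroup.eq, inv_one, one_mul] at e
    exact hnr' (hg ▸ (e : Relation.ReflTransGen (CommAdj D') (f a₀) (g * f a₀ * g⁻¹)))
  obtain ⟨o, hSE⟩ := P.isStronglyEmbedded hA hgen' hne
  refine ⟨_, hSE, fun a b hab ha => ?_⟩
  obtain ⟨d', hd', hdo⟩ := P.exists_at o
  obtain ⟨⟨d, hd, rfl⟩, -⟩ := hd'
  obtain ⟨g, hg⟩ := isConj_iff.1 (h.isConj a ha d hd)
  have hb : b ∈ D := RootConnected.reach_mem ha hab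
  refine ⟨g, ?_, ?_⟩
  · rw [hg, MulAction.mem_stabilizer_iff, ← hdo]
    exact P.smul_pt (hmem d hd)
  · have h1 : Relation.ReflTransGen (CommAdj D) d (g * b * g⁻¹) :=
      hg ▸ RootConnected.reach_conj h.isRootInvolutionSet g hab
    have h2 := hup h1 hd
    have hpt : ∀ {c : G ⧸ Z}, Relation.ReflTransGen (CommAdj D') (f d) c →
        Aschbacher.pointOf B (f a₀) c = Aschbacher.pointOf B (f a₀) (f d) := by
      intro c hc
      induction hc with
      | refl => rfl
      | tail _ e ih => rw [← ih]; exact (P.pt_eq_of_commute e.1 e.2.1 e.2.2.2).symm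
    rw [MulAction.mem_stabilizer_iff, ← hdo, ← hpt h2]
    exact P.smul_pt (hmem _ (h.ot.conj g b hb))

/-- In a disconnected commuting graph the members of one component commute. -/
theorem commute_of_reach (hA : Aschbacher.CoreFreeCriterion.{u}) {a₀ b₀ : G} (ha₀ : a₀ ∈ D)
    (hb₀ : b₀ ∈ D) (hnr : ¬ Relation.ReflTransGen (CommAdj D) a₀ b₀) {a b : G} (ha : a ∈ D)
    (hab : Relation.ReflTransGen (CommAdj D) a b) : Commute a b := by
  haveI := h.simple_quotient
  haveI : Fact (Nat.Prime 2) := ⟨Nat.prime_two⟩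
  obtain ⟨H, hH, hmemH⟩ := h.disconnected_setup hA ha₀ hb₀ hnr
  obtain ⟨g, hga, hgb⟩ := hmemH a b hab ha
  set f := QuotientGroup.mk' (Subgroup.center G)
  have hb : b ∈ D := RootConnected.reach_mem ha hab
  have hne1 : ∀ y ∈ D, f y ≠ 1 := fun y hy e => by
    obtain ⟨z, hz, hyz⟩ := h.exists_partner hy
    exact hyz (Subgroup.mem_center_iff.1 ((QuotientGroup.eq_one_iff y).1 e) z).symm
  have hord : ∀ y ∈ D, orderOf (f y) = 2 := fun y hy =>
    Involution.orderOf_of_sq (by rw [← map_mul, h.ot.mul_self hy, map_one]) (hne1 y hy)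
  have hcore : Cfsg.oddCore (G ⧸ Subgroup.center G) = ⊥ := by
    have h1 := Bender.core_eq_of_two_involutions hH (SuzukiRankOne.two_involutions_of_simple hH)
    rw [Bender.normalCore_of_simple hH] at h1
    exact h1.symm
  have h2 := Bender.coreTwo hH ⟨_, hga⟩ ⟨_, hgb⟩ (hord _ (h.ot.conj g a ha)) (hord _ (h.ot.conj g b hb))
  have h3 := Bender.oddCore_le Bender.rankOneHalf hH (Subgroup.mem_map_of_mem H.subtype h2)
  rw [hcore, Subgroup.mem_bot] at h3
  have h4 : Commute (f (g * a * g⁻¹)) (f (g * b * g⁻¹)) :=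
    commutatorElement_eq_one_iff_commute.1 (by rw [commutatorElement_def]; exact h3)
  exact conj_commute_iff.1 ((commute_map_center_iff h.ot (h.ot.conj g a ha) (h.ot.conj g b hb)).1 h4)

theorem flat_of_disconnected (hA : Aschbacher.CoreFreeCriterion.{u})
    (hdis : ¬ IsConnectedSet (CommAdj D) D) : Flat D := by
  simp only [IsConnectedSet, not_forall] at hdis
  obtain ⟨a₀, ha₀, b₀, hb₀, hnr⟩ := hdis
  intro a ha b hb hab y hy
  exact ⟨fun hya => h.commute_of_reach hA ha₀ hb₀ hnr hy
      ((RootConnected.reach_of_commute hy ha hya.eq).trans (RootConnected.reach_of_commute ha hb hab.eq)),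
    fun hyb => h.commute_of_reach hA ha₀ hb₀ hnr hy
      ((RootConnected.reach_of_commute hy hb hyb.eq).trans (RootConnected.reach_of_commute hb ha hab.eq.symm))⟩

theorem disconnected_of_flat (hF : Flat D) {a b : G} (ha : a ∈ D) (hab : ¬ Commute a b) :
    ¬ Relation.ReflTransGen (CommAdj D) a b := by
  intro e
  refine hab (?_ : Commute a b)
  induction e with
  | refl => exact Commute.refl a
  | tail _ e' ih => exact (hF _ e'.1 _ e'.2.1 e'.2.2.2 a ha).1 (by_contra fun c => c (ih fun c' => c c'))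

/-- A disconnected standard class with a Suzuki pair is that of `Sz`. -/
theorem flatSz (hA : Aschbacher.CoreFreeCriterion.{u}) (hF : Flat D) {d x : G} (hsz : SzPair D d x) :
    FlatSz D := by
  classical
  haveI := h.simple_quotient
  haveI : Fact (Nat.Prime 2) := ⟨Nat.prime_two⟩
  have hd := hsz.1
  have hx := hsz.2.1
  have hdx := hsz.2.2.1
  obtain ⟨H, hH, -⟩ := h.disconnected_setup hA hd hx (h.disconnected_of_flat hF hd hdx)
  set Z := Subgroup.center G with hZ
  set f := QuotientGroup.mk' Z with hf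
  have hfs : Function.Surjective f := QuotientGroup.mk'_surjective Z
  have h2 := SuzukiRankOne.two_involutions_of_simple hH
  obtain ⟨t, Q, hset⟩ := Bender.rankOneHalf (G ⧸ Z) H hH (Bender.normalCore_of_simple hH) h2
  haveI := Bender.faithful_of_normalCore (Bender.normalCore_of_simple hH)
  obtain ⟨L, hLn, hodd, hc⟩ :=
    SuzukiRankOne.classify SuzukiRankOne.kernelShape SuzukiRankOne.Suzuki.suzukiShape hset h2
  have hL : L = ⊤ := hLn.eq_bot_or_eq_top.resolve_left fun e => by
    rw [e, Subgroup.index_bot] at hodd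
    obtain ⟨u, v, hu1, -, -, huu, -⟩ := h2
    exact Nat.not_even_iff_odd.2 hodd (even_iff_two_dvd.2
      ((Involution.orderOf_of_sq huu hu1) ▸ orderOf_dvd_natCard u))
  let eL : L ≃* G ⧸ Z := (MulEquiv.subgroupCongr hL).trans Subgroup.topEquiv
  have hf1 : ∀ a ∈ D, f a ≠ 1 := by
    intro a ha e
    obtain ⟨y, hy, hay⟩ := h.exists_partner ha
    exact hay (Subgroup.mem_center_iff.1 ((QuotientGroup.eq_one_iff a).1 e) y).symm
  have hord : ∀ a ∈ D, orderOf (f a) = 2 := fun a ha =>
    Involution.orderOf_of_sq (by rw [← map_mul, h.ot.mul_self ha, map_one]) (hf1 a ha)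
  -- with cyclic odd Sylow subgroups in the quotient the centre is trivial
  have hlift : (∀ (p : ℕ) [Fact p.Prime], p ≠ 2 → ∀ S : Sylow p (G ⧸ Z),
      IsCyclic (S : Subgroup (G ⧸ Z))) → Z = ⊥ := by
    intro hcyc
    by_contra hne'
    obtain ⟨p, hp, hpd⟩ := Nat.exists_prime_and_dvd (fun h1 => hne' (Subgroup.card_eq_one.1 h1))
    haveI := Fact.mk hp
    have hp2 : p ≠ 2 := fun e' => by
      have := h.odd_center
      rw [← Nat.not_even_iff_odd, even_iff_two_dvd] at this
      exact this (e' ▸ hpd)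
    obtain ⟨⟨z, hz⟩, hzo⟩ := exists_prime_orderOf_dvd_card' p hpd
    obtain ⟨P₀, hP⟩ := (IsPGroup.of_card (n := 1) (p := p) (G := Subgroup.zpowers z) (by
      rw [pow_one, Nat.card_zpowers, ← hzo]
      exact (Subgroup.orderOf_coe (⟨z, hz⟩ : Z)))).exists_le_sylow
    obtain ⟨S, hS⟩ := (P₀.isPGroup'.map f).exists_le_sylow
    have hPc : IsMulCommutative (P₀ : Subgroup G) := by
      refine ⟨⟨fun a b => Subtype.ext ?_⟩⟩
      obtain ⟨⟨c', hc'S⟩, hgc⟩ := (hcyc p hp2 S).exists_generator
      obtain ⟨i, hi⟩ := Subgroup.mem_zpowers_iff.1 (hgc ⟨_, hS (Subgroup.mem_map_of_mem f a.2)⟩)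
      obtain ⟨j, hj⟩ := Subgroup.mem_zpowers_iff.1 (hgc ⟨_, hS (Subgroup.mem_map_of_mem f b.2)⟩)
      replace hi : c' ^ i = f a.1 := congrArg Subtype.val hi
      replace hj : c' ^ j = f b.1 := congrArg Subtype.val hj
      obtain ⟨c, rfl⟩ := hfs c'
      rw [← map_zpow] at hi hj
      have hai : (c ^ i)⁻¹ * a.1 ∈ Z := (QuotientGroup.eq_one_iff _).1 (by
        show f ((c ^ i)⁻¹ * a.1) = 1
        rw [map_mul, map_inv, hi, inv_mul_cancel])
      have hbj : (c ^ j)⁻¹ * b.1 ∈ Z := (QuotientGroup.eq_one_iff _).1 (by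
        show f ((c ^ j)⁻¹ * b.1) = 1
        rw [map_mul, map_inv, hj, inv_mul_cancel])
      have c1 : Commute (c ^ i * ((c ^ i)⁻¹ * a.1)) (c ^ j * ((c ^ j)⁻¹ * b.1)) := by
        refine Commute.mul_left (Commute.mul_right (Commute.zpow_zpow_self c i j) ?_) ?_
        · exact Subgroup.mem_center_iff.1 hbj _
        · exact (Subgroup.mem_center_iff.1 hai _).symm
      rw [mul_inv_cancel_left, mul_inv_cancel_left] at c1
      exact c1.eq
    have h1 := Transfer.inf_commutator_inf_center_eq_bot (P₀ : Subgroup G) hPc P₀.card_coprime_index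
    have h3 : z ∈ (P₀ : Subgroup G) ⊓ commutator G ⊓ Subgroup.center G :=
      ⟨⟨hP (Subgroup.mem_zpowers z), h.commutator_eq_top.symm ▸ Subgroup.mem_top z⟩, hz⟩
    rw [h1, Subgroup.mem_bot] at h3
    have : orderOf (⟨z, hz⟩ : Z) = 1 := orderOf_eq_one_iff.2 (Subtype.ext h3)
    exact hp.ne_one (hzo.symm.trans this)
  rcases hc with ⟨F, _, _, ⟨n, hn, hF'⟩, ⟨e1⟩⟩ | ⟨F, _, _, m, hm, hF', ⟨e1⟩⟩ | ⟨F, _, _, n, hn, hF', ⟨e1⟩⟩
  · -- no element of order four in `L₂(2^n)`
    exfalso
    haveI : CharP F 2 := charP_of_card_eq_prime_pow hF'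
    set e2 := eL.symm.trans e1
    have hL2 := l2Facts_of_psl (F := F) e2
    obtain ⟨-, -, -, g, hg, hgd, hgx⟩ := hsz
    obtain ⟨u, hu⟩ : ∃ u, u = g * g * d := ⟨_, rfl⟩
    rw [← hu] at hgd hgx
    have hfu : f u = 1 := by
      have hsq := hL2.sq _ _ (hord d hd) (hgd.map f)
      by_contra h1
      obtain ⟨k, hk⟩ := isConj_iff.1 (hL2.conj _ _ (hord d hd) (Involution.orderOf_of_sq hsq h1))
      obtain ⟨k, rfl⟩ := hfs k
      rw [← map_inv, ← map_mul, ← map_mul] at hk
      have hD' := h.ot.conj k d hd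
      have c1 : Commute (k * d * k⁻¹) d :=
        (commute_map_center_iff h.ot hD' hd).1 (by rw [hk]; exact hgd.map f)
      have c2 : Commute (k * d * k⁻¹) x :=
        (commute_map_center_iff h.ot hD' hx).1 (by rw [hk]; exact hgx.map f)
      exact hdx ((hF _ hD' d hd c1 x hx).1 c2.symm).symm
    have hgg : f g * f g = f d := by
      have h1 : f (g * g) * f d = 1 := by rw [← map_mul, ← hu, hfu]
      rw [mul_eq_one_iff_eq_inv, Involution.inv_eq (hord d hd), map_mul] at h1
      exact h1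
    have hc : Commute (f g) (f d) := hgg ▸ ((Commute.refl (f g)).mul_right (Commute.refl (f g)))
    exact Involution.ne_one (hord d hd) (hgg ▸ hL2.sq _ _ (hord d hd) hc)
  · set e2 := eL.symm.trans e1
    have hcom : ∀ (p : ℕ) [Fact p.Prime], p ≠ 2 → ∀ S : Sylow p (G ⧸ Z), IsCyclic (S : Subgroup (G ⧸ Z)) := by
      intro p _ hp S
      let S' := S.comapOfInjective e2.symm.toMonoidHom e2.symm.injective (by
        rw [MonoidHom.range_eq_top_of_surjective _ e2.symm.surjective]; exact le_top)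
      have hS' : IsCyclic (S' : Subgroup (Cfsg.Lie.Sz F (2 ^ (m + 1)))) := sz_odd_sylow_cyclic hm hF' hp S'
      exact isCyclic_of_surjective
        ((e2.symm.toMonoidHom.comp (S' : Subgroup (Cfsg.Lie.Sz F (2 ^ (m + 1)))).subtype).codRestrict
        (S : Subgroup (G ⧸ Z)) fun a => a.2) fun b => ⟨⟨e2 b.1, by
          show e2.symm (e2 b.1) ∈ (S : Subgroup _)
          rw [e2.symm_apply_apply]; exact b.2⟩, Subtype.ext (e2.symm_apply_apply b.1)⟩
    have hZ1 := hlift hcom
    have hiso : Cfsg.Lie.IsoSuzuki G := ⟨F, inferInstance, inferInstance, m, hm, hF',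
      ⟨((QuotientGroup.quotientMulEquivOfEq hZ1).trans QuotientGroup.quotientBot).symm.trans e2⟩⟩
    obtain ⟨q, hq⟩ := szFacts_of_isoSuzuki hiso
    have hmem : ∀ t : G, orderOf t = 2 → t ∈ D := fun t ht => by
      obtain ⟨k, rfl⟩ := isConj_iff.1 (hq.conj d t (h.ot.inv d hd) ht)
      exact h.ot.conj k d hd
    refine ⟨h, hF, hmem, fun y hy => ?_⟩
    have e : {t : G | orderOf t = 2 ∧ Commute t y} = Ecl D y :=
      Set.ext fun t => ⟨fun ht => hF.mem_Ecl hy (hmem t ht.1) ht.2.symm,
        fun ht => ⟨h.ot.inv t ht.1, commute_of_mem_Ecl ht (self_mem_Ecl hy)⟩⟩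
    have hc := hq.card_invol y (h.ot.inv y hy)
    change Nat.card ({t : G | orderOf t = 2 ∧ Commute t y} : Set G) = q - 1 at hc
    rw [e, Nat.card_coe_set_eq] at hc
    have := hq.four_le
    rw [show (Ecl D y).ncard + 1 = q by omega]
    exact hq
  · exfalso
    set e2 := eL.symm.trans e1
    haveI : (pCore 2 ↥(rootGen D d x)).Normal := Cores.pCore_normal 2 _
    obtain ⟨-, hfacts⟩ := (h.rootGen_cases hA hd hx hdx).resolve_left (by
      rintro ⟨F', _, _, hch, -, ⟨ψ⟩⟩
      haveI := hch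
      exact h.not_szPair_of_l2 (h.l2Facts_rootGen ψ) hsz)
    set X := rootGen D d x with hX
    set π := QuotientGroup.mk' (pCore 2 ↥X) with hπ
    let dX : ↥X := ⟨d, self_rootGen hd⟩
    have hd1 : π dX ≠ 1 := fun e' => by
      have hc := h.pCore_rootGen_le_center hd hx hdx ((QuotientGroup.eq_one_iff _).1 e')
      exact hdx (congrArg Subtype.val (Subgroup.mem_center_iff.1 hc ⟨x, mem_rootGen⟩)).symm
    have hd2 : orderOf (π dX) = 2 := Involution.orderOf_of_sq
      (by rw [← map_mul, show dX * dX = 1 from Subtype.ext (h.ot.mul_self hd), map_one]) hd1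
    obtain ⟨g, hg⟩ := hfacts.root _ hd2
    obtain ⟨g, rfl⟩ := QuotientGroup.mk'_surjective (pCore 2 ↥X) g
    set u := g * g * dX with hu
    have hu1 : u ∈ pCore 2 ↥X := (QuotientGroup.eq_one_iff _).1 (by
      show π u = 1
      rw [hu, map_mul, map_mul, hg, ← map_mul, show dX * dX = 1 from Subtype.ext (h.ot.mul_self hd), map_one])
    have huc : ∀ y : ↥X, Commute u y := fun y =>
      (Subgroup.mem_center_iff.1 (h.pCore_rootGen_le_center hd hx hdx hu1) y).symm
    obtain ⟨k, hk⟩ := Cores.isPGroup_pCore 2 ↥X ⟨u, hu1⟩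
    replace hk : u ^ 2 ^ k = 1 := congrArg Subtype.val hk
    have hggu : g * g = u * dX := by
      rw [hu, mul_assoc (g * g), show dX * dX = 1 from Subtype.ext (h.ot.mul_self hd), mul_one]
    have hg2 : ∃ n : ℕ, g ^ 2 ^ n = 1 := ⟨k + 2, by
      rw [show k + 2 = (k + 1) + 1 from rfl, pow_succ' 2 (k + 1), pow_mul, sq, hggu, (huc dX).mul_pow,
        pow_succ 2 k, pow_mul, hk, one_pow, one_mul, mul_comm, pow_mul, sq,
        show dX * dX = 1 from Subtype.ext (h.ot.mul_self hd), one_pow]⟩
    obtain ⟨r, hr, hrd⟩ := h.ot.exists_conj_mem hd hx hdx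
    have hrX : r ∈ X := (Subgroup.closure_le _).2 (by
      rintro _ (rfl | rfl)
      · exact self_rootGen hd
      · exact mem_rootGen) hr
    let rX : ↥X := ⟨r, hrX⟩
    have hsub : ∀ y : ↥X, f y.1 ∈ Subgroup.closure (f '' Ecl D d ∪ {f x}) := by
      intro y
      rw [← Set.image_singleton, ← Set.image_union, ← MonoidHom.map_closure]
      exact Subgroup.mem_map_of_mem f y.2
    obtain ⟨n', hn'⟩ := hg2
    have hgn : f (g : G) ^ 2 ^ n' = 1 := by
      rw [← map_pow, show (g : G) ^ 2 ^ n' = ((g ^ 2 ^ n' : ↥X) : G) from rfl, hn']; exact map_one f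
    have hrgn : f ((rX * g * rX⁻¹ : ↥X) : G) ^ 2 ^ n' = 1 := by
      rw [← map_pow, show ((rX * g * rX⁻¹ : ↥X) : G) ^ 2 ^ n' = (((rX * g * rX⁻¹) ^ 2 ^ n' : ↥X) : G) from rfl,
        conj_pow, hn', mul_one, mul_inv_cancel]
      exact map_one f
    have hcomm := psu_three_squares_commute (q := 2 ^ n) hF' (Nat.even_pow.2 ⟨even_two, by omega⟩) e2
      (E := f '' Ecl D d) (x := f x) (by rintro _ ⟨a, ha, rfl⟩; exact hord a ha.1) (hord x hx)
      (by rintro _ ⟨a, ha, rfl⟩ _ ⟨b, hb, rfl⟩; exact (commute_of_mem_Ecl ha hb).map f)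
      (hsub g) (hsub (rX * g * rX⁻¹)) ⟨n', hgn⟩ ⟨n', hrgn⟩
    rw [← map_mul, ← map_mul] at hcomm
    -- the squares are `u d` and `u x`, so `d` and `x` would commute
    let xX : ↥X := ⟨x, mem_rootGen⟩
    have e3 : ((g : G) * g) = (u : G) * d := congrArg Subtype.val hggu
    have e4 : (rX * g * rX⁻¹) * (rX * g * rX⁻¹) = u * xX := by
      rw [show rX * g * rX⁻¹ * (rX * g * rX⁻¹) = rX * (g * g) * rX⁻¹ by group, hggu,
        show rX * (u * dX) * rX⁻¹ = (rX * u * rX⁻¹) * (rX * dX * rX⁻¹) by group,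
        conj_eq_of_commute (huc rX).symm, show rX * dX * rX⁻¹ = xX from Subtype.ext hrd]
    have e5 : ((rX * g * rX⁻¹ : ↥X) : G) * ((rX * g * rX⁻¹ : ↥X) : G) = (u : G) * x :=
      congrArg Subtype.val e4
    rw [e3, e5, map_mul, map_mul] at hcomm
    have hud : Commute (f (u : G)) (f d) := ((huc dX).map X.subtype).map f
    have hux : Commute (f (u : G)) (f x) := ((huc xX).map X.subtype).map f
    have h6 : Commute (f d) (f x) := by
      have h7 : f d * f x = f x * f d := by
        have h8 := hcomm.eq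
        rw [show f (u : G) * f d * (f (u : G) * f x) = f (u : G) * (f d * f (u : G)) * f x by group,
          ← hud.eq, show f (u : G) * f x * (f (u : G) * f d) = f (u : G) * (f x * f (u : G)) * f d by group,
          ← hux.eq, show f (u : G) * (f (u : G) * f d) * f x = f (u : G) * f (u : G) * (f d * f x) by group,
          show f (u : G) * (f (u : G) * f x) * f d = f (u : G) * f (u : G) * (f x * f d) by group] at h8
        exact mul_left_cancel h8
      exact h7
    exact hdx ((commute_map_center_iff h.ot hd hx).1 h6)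

end Std

namespace FlatSz

variable [Finite G] {D : Set G} (h : FlatSz D)
include h

theorem no_three {a b : G} (ha : a ∈ D) (hb : b ∈ D) (h3 : a * b * (a * b) * (a * b) = 1) : a = b :=
  h.std.ot.mul_eq_one hb ((h.facts a ha).three _ h3)

theorem szPair {d x : G} (hd : d ∈ D) (hx : x ∈ D) (hdx : ¬ Commute d x)
    (hA : Aschbacher.CoreFreeCriterion.{u}) : SzPair D d x := by
  by_contra hs
  obtain ⟨x', hx', h3, hne⟩ := h.std.exists_three hA hd hx hdx hs
  exact hne (by rw [h.no_three hd hx'.1 h3]; exact h.std.ot.mul_self hx'.1)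

theorem generate {d b : G} (hd : d ∈ D) (hb : b ∈ D) (hnc : ¬ Commute d b) : rootGen D d b = ⊤ := by
  rw [rootGen, ← (h.facts d hd).generate d b (h.std.ot.inv d hd) (h.std.ot.inv b hb) hnc]
  congr 2
  ext t
  exact ⟨fun ht => ⟨h.std.ot.inv t ht.1, commute_of_mem_Ecl ht (self_mem_Ecl hd)⟩,
    fun ht => h.flat.mem_Ecl hd (h.mem t ht.1) ht.2.symm⟩

theorem card_mem {d : G} (hd : d ∈ D) :
    D.ncard = (((Ecl D d).ncard + 1) ^ 2 + 1) * (Ecl D d).ncard := by
  have hf := h.facts d hd
  have horb : MulAction.orbit (ConjAct G) d = D := by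
    ext t
    rw [ConjAct.mem_orbit_conjAct]
    refine ⟨fun hc => ?_, fun ht => h.std.isConj t ht d hd⟩
    obtain ⟨g, rfl⟩ := isConj_iff.1 hc.symm
    exact h.std.ot.conj g d hd
  have h1 := Nat.card_congr (MulAction.orbitProdStabilizerEquivGroup (ConjAct G) d)
  rw [Nat.card_prod, horb, Nat.card_coe_set_eq, Nat.card_congr (ConjAct.toConjAct.symm.toEquiv), hf.card_eq,
    ConjAct.stabilizer_eq_centralizer] at h1
  have h2 := hf.card_cent d (h.std.ot.inv d hd)
  have e : Nat.card (Subgroup.centralizer ({ConjAct.toConjAct d} : Set (ConjAct G))) =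
      Nat.card (Subgroup.centralizer ({d} : Set G)) := by rfl
  rw [e, h2, Nat.add_sub_cancel] at h1
  refine Nat.eq_of_mul_eq_mul_right (m := ((Ecl D d).ncard + 1) ^ 2) (pow_pos (Nat.succ_pos _) 2) ?_
  rw [h1]; ring

/-- The number of classes. -/
theorem card_classes {d : G} (hd : d ∈ D) : (Ecl D '' D).ncard = ((Ecl D d).ncard + 1) ^ 2 + 1 := by
  classical
  haveI := Fintype.ofFinite G
  have h1 : D.toFinset.card = ∑ C ∈ D.toFinset.image (Ecl D), (D.toFinset.filter fun y => Ecl D y = C).card :=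
    Finset.card_eq_sum_card_image _ _
  have h2 : ∀ C ∈ D.toFinset.image (Ecl D), (D.toFinset.filter fun y => Ecl D y = C).card = (Ecl D d).ncard := by
    intro C hC
    obtain ⟨b, hb, rfl⟩ := Finset.mem_image.1 hC
    rw [Set.mem_toFinset] at hb
    rw [← h.std.card_Ecl hb hd, ← Set.ncard_coe_finset]
    congr 1
    ext y
    simp only [Finset.coe_filter, Set.mem_toFinset, Set.mem_ofPred_eq]
    exact ⟨fun hy => hy.2 ▸ self_mem_Ecl hy.1, fun hy => ⟨hy.1, Ecl_eq hy.2⟩⟩
  rw [Finset.sum_congr rfl h2, Finset.sum_const, smul_eq_mul, ← Set.ncard_eq_toFinset_card',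
    h.card_mem hd] at h1
  have h3 : 0 < (Ecl D d).ncard := (Set.ncard_pos (Set.toFinite _)).2 ⟨d, self_mem_Ecl hd⟩
  rw [Nat.eq_of_mul_eq_mul_right h3 h1, ← Set.ncard_coe_finset]
  congr 1
  simp

end FlatSz

end Cfsg.Agent.OddTrans
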