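/-
Components of non-commuting pairs inside a subgroup (owner: helper28).

Main results (namespace `Cfsg.Agent.OddTrans`):
* `compSet`, `compGrp`, `CQ`, `cimg`, `cD` : the component, its group, the quotient by the 2-core
* `Desc.std` : the image of a component is a standard class
* `Desc.flatSz` : given the statement for smaller groups, a Suzuki pair makes it `FlatSz`
-/
import Cfsg.Agent.Lib.OddTrans.FlatStd

set_option autoImplicit false
set_option linter.unusedSectionVars false
set_option linter.style.haveILetI false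

namespace Cfsg.Agent.OddTrans

open Cfsg

universe u

attribute [local instance] Cores.pCore_normal

/-- Two members of `S` that do not commute. -/
def NCAdj {G : Type u} [Group G] (S : Set G) (a b : G) : Prop := a ∈ S ∧ b ∈ S ∧ ¬ Commute a b

/-- The statement below the order of `G`. -/
def NoSzBelow (G : Type u) [Group G] : Prop :=
  ∀ (Q : Type u) [Group Q] [Finite Q], Nat.card Q < Nat.card G → ∀ D : Set Q, Std D →
    IsConnectedSet (CommAdj D) D → ∀ d x : Q, ¬ SzPair D d x

variable {G : Type u} [Group G]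

/-- The component of `d` among the members in `H`. -/
def compSet (D : Set G) (H : Subgroup G) (d : G) : Set G :=
  {y | Relation.ReflTransGen (NCAdj {y | y ∈ D ∧ y ∈ H}) d y}

/-- The group generated by a component. -/
def compGrp (D : Set G) (H : Subgroup G) (d : G) : Subgroup G := Subgroup.closure (compSet D H d)

/-- The group of a component modulo its 2-core. -/
abbrev CQ (D : Set G) (H : Subgroup G) (d : G) : Type u :=
  ↥(compGrp D H d) ⧸ pCore 2 ↥(compGrp D H d)

open Classical in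
/-- The image in `CQ`, trivial outside the group of the component. -/
noncomputable def cimg (D : Set G) (H : Subgroup G) (d y : G) : CQ D H d :=
  if h : y ∈ compGrp D H d then QuotientGroup.mk' _ ⟨y, h⟩ else 1

/-- The image of the members. -/
def cD (D : Set G) (H : Subgroup G) (d : G) : Set (CQ D H d) :=
  (QuotientGroup.mk' (pCore 2 ↥(compGrp D H d)) '' (Subtype.val ⁻¹' D)) \ {1}

section basic

variable {D : Set G} {H : Subgroup G} {d : G}

theorem cimg_mk {y : G} (h : y ∈ compGrp D H d) : cimg D H d y = QuotientGroup.mk' _ ⟨y, h⟩ :=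
  dif_pos h

theorem cimg_mul {y z : G} (hy : y ∈ compGrp D H d) (hz : z ∈ compGrp D H d) :
    cimg D H d (y * z) = cimg D H d y * cimg D H d z := by
  rw [cimg_mk hy, cimg_mk hz, cimg_mk (mul_mem hy hz), ← map_mul]; rfl

theorem cimg_one : cimg D H d 1 = 1 := by rw [cimg_mk (one_mem _)]; exact map_one _

theorem cimg_inv {y : G} (hy : y ∈ compGrp D H d) : cimg D H d y⁻¹ = (cimg D H d y)⁻¹ := by
  rw [cimg_mk hy, cimg_mk (inv_mem hy), ← map_inv]; rfl

theorem cimg_conj {g y : G} (hg : g ∈ compGrp D H d) (hy : y ∈ compGrp D H d) :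
    cimg D H d (g * y * g⁻¹) = cimg D H d g * cimg D H d y * (cimg D H d g)⁻¹ := by
  rw [cimg_mul (mul_mem hg hy) (inv_mem hg), cimg_mul hg hy, cimg_inv hg]

theorem cimg_surj (t : CQ D H d) : ∃ y ∈ compGrp D H d, cimg D H d y = t := by
  obtain ⟨⟨y, hy⟩, rfl⟩ := QuotientGroup.mk'_surjective _ t
  exact ⟨y, hy, cimg_mk hy⟩

theorem mem_compGrp {y : G} (h : y ∈ compSet D H d) : y ∈ compGrp D H d := Subgroup.subset_closure h

theorem self_mem_compSet : d ∈ compSet D H d := Relation.ReflTransGen.refl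

theorem compSet_sub (hd : d ∈ D) (hdH : d ∈ H) {y : G} (h : y ∈ compSet D H d) : y ∈ D ∧ y ∈ H := by
  induction h with
  | refl => exact ⟨hd, hdH⟩
  | tail _ e _ => exact e.2.1

theorem compGrp_le (hd : d ∈ D) (hdH : d ∈ H) : compGrp D H d ≤ H :=
  (Subgroup.closure_le _).2 fun _ h => (compSet_sub hd hdH h).2

theorem compSet_extend {y z : G} (hd : d ∈ D) (hdH : d ∈ H) (hy : y ∈ compSet D H d) (hz : z ∈ D)
    (hzH : z ∈ H) (h : ¬ Commute y z) : z ∈ compSet D H d :=
  hy.tail ⟨compSet_sub hd hdH hy, ⟨hz, hzH⟩, h⟩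

theorem ncadj_symm {S : Set G} {a b : G} (h : Relation.ReflTransGen (NCAdj S) a b) :
    Relation.ReflTransGen (NCAdj S) b a := by
  induction h with
  | refl => exact .refl
  | tail _ e ih => exact .head ⟨e.2.1, e.1, fun c => e.2.2 c.symm⟩ ih

theorem compSet_eq {y : G} (hy : y ∈ compSet D H d) : compSet D H y = compSet D H d :=
  Set.ext fun _ => ⟨fun h => hy.trans h, fun h => (ncadj_symm hy).trans h⟩

end basic

/-- A member `x` of `H` not commuting with `d`, with the class of `d` inside `H`. -/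
structure Desc (D : Set G) (H : Subgroup G) (d x : G) : Prop where
  std : Std D
  memd : d ∈ D
  dH : d ∈ H
  memx : x ∈ D
  xH : x ∈ H
  ncomm : ¬ Commute d x
  cls : ∀ e ∈ Ecl D d, e ∈ H

namespace Desc

variable [Finite G] {D : Set G} {H : Subgroup G} {d x : G} (h : Desc D H d x)
include h

theorem sub {y : G} (hy : y ∈ compSet D H d) : y ∈ D ∧ y ∈ H := compSet_sub h.memd h.dH hy

theorem x_mem : x ∈ compSet D H d :=
  compSet_extend h.memd h.dH self_mem_compSet h.memx h.xH h.ncomm

theorem extend {y z : G} (hy : y ∈ compSet D H d) (hz : z ∈ D) (hzH : z ∈ H) (hc : ¬ Commute y z) :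
    z ∈ compSet D H d :=
  compSet_extend h.memd h.dH hy hz hzH hc

theorem partner {y : G} (hy : y ∈ compSet D H d) : ∃ z ∈ compSet D H d, ¬ Commute y z := by
  rcases Relation.ReflTransGen.cases_tail hy with rfl | ⟨z, hz, e⟩
  · exact ⟨x, h.x_mem, h.ncomm⟩
  · exact ⟨z, hz, fun c => e.2.2 c.symm⟩

theorem cls_mem {y e : G} (hy : y ∈ compSet D H d) (he : e ∈ Ecl D y) (heH : e ∈ H) :
    e ∈ compSet D H d := by
  obtain ⟨z, hz, hyz⟩ := h.partner hy
  exact h.extend hz he.1 heH (not_commute_Ecl (h.sub hz).1 he fun c => hyz c.symm)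

/-- Commuting can be tested in the quotient. -/
theorem commute_iff {y z : G} (hy : y ∈ compGrp D H d) (hyD : y ∈ D) (hz : z ∈ compGrp D H d)
    (hzD : z ∈ D) : Commute (cimg D H d y) (cimg D H d z) ↔ Commute y z := by
  rw [cimg_mk hy, cimg_mk hz, (h.std.ot.sub (compGrp D H d)).commute_map_iff
    (by rw [QuotientGroup.ker_mk']; exact Cores.isPGroup_pCore 2 _) (a := ⟨y, hy⟩) (b := ⟨z, hz⟩) hyD hzD]
  exact ⟨fun c => c.map (compGrp D H d).subtype, fun c => Subtype.ext c.eq⟩

theorem commute_iff_mem {y z : G} (hy : y ∈ compSet D H d) (hz : z ∈ compSet D H d) :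
    Commute (cimg D H d y) (cimg D H d z) ↔ Commute y z :=
  h.commute_iff (mem_compGrp hy) (h.sub hy).1 (mem_compGrp hz) (h.sub hz).1

theorem cimg_ne_one {y : G} (hy : y ∈ compSet D H d) : cimg D H d y ≠ 1 := by
  obtain ⟨z, hz, hyz⟩ := h.partner hy
  exact fun e => hyz ((h.commute_iff_mem hy hz).1 (e ▸ Commute.one_left _))

theorem cimg_mem {y : G} (hy : y ∈ compSet D H d) : cimg D H d y ∈ cD D H d :=
  ⟨⟨⟨y, mem_compGrp hy⟩, (h.sub hy).1, (cimg_mk (mem_compGrp hy)).symm⟩, h.cimg_ne_one hy⟩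

/-- A member of the group outside the component dies in the quotient. -/
theorem cimg_eq_one {y : G} (hyD : y ∈ D) (hy : y ∈ compGrp D H d) (hn : y ∉ compSet D H d) :
    cimg D H d y = 1 := by
  rw [cimg_mk hy]
  refine (QuotientGroup.eq_one_iff _).2
    (mem_pCore_of_central (Subtype.ext (h.std.ot.mul_self hyD)) fun g => Subtype.ext ?_)
  have hle : compGrp D H d ≤ Subgroup.centralizer ({y} : Set G) := by
    rw [compGrp, Subgroup.closure_le]
    intro z hz
    refine Subgroup.mem_centralizer_singleton_iff.2 ?_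
    by_contra hc
    exact hn (h.extend hz hyD (compGrp_le h.memd h.dH hy) fun c => hc c.eq)
  exact (Subgroup.mem_centralizer_singleton_iff.1 (hle g.2)).symm

theorem exists_pre {t : CQ D H d} (ht : t ∈ cD D H d) : ∃ y ∈ compSet D H d, cimg D H d y = t := by
  obtain ⟨⟨⟨y, hy⟩, hyD, rfl⟩, ht1⟩ := ht
  refine ⟨y, by_contra fun hn => ht1 ?_, cimg_mk hy⟩
  rw [Set.mem_singleton_iff, ← cimg_mk hy]
  exact h.cimg_eq_one hyD hy hn

theorem sameC {y z : G} (hy : y ∈ compSet D H d) (hz : z ∈ compSet D H d) (hs : SameC D y z) :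
    SameC (cD D H d) (cimg D H d y) (cimg D H d z) := by
  intro t ht
  obtain ⟨w, hw, rfl⟩ := h.exists_pre ht
  rw [h.commute_iff_mem hw hy, h.commute_iff_mem hw hz]
  exact hs w (h.sub hw).1

theorem cimg_Ecl {y e : G} (hy : y ∈ compSet D H d) (he : e ∈ Ecl D y) (heH : e ∈ H) :
    cimg D H d e ∈ Ecl (cD D H d) (cimg D H d y) :=
  ⟨h.cimg_mem (h.cls_mem hy he heH), h.sameC hy (h.cls_mem hy he heH) he.2⟩

theorem cimg_injOn {y : G} (hy : y ∈ compSet D H d) (hcls : ∀ e ∈ Ecl D y, e ∈ H) :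
    Set.InjOn (cimg D H d) (Ecl D y) := by
  intro a ha b hb e
  by_contra hne
  have hl := h.std.mul_mem ha hb hne
  have haK := mem_compGrp (h.cls_mem hy ha (hcls a ha))
  have hbK := mem_compGrp (h.cls_mem hy hb (hcls b hb))
  refine h.cimg_ne_one (h.cls_mem hy hl (hcls _ hl)) ?_
  rw [cimg_mul haK hbK, e, ← cimg_mul hbK hbK, h.std.ot.mul_self hb.1, cimg_one]

theorem exists_conj {y : G} (hy : y ∈ compSet D H d) :
    ∃ g ∈ compGrp D H d, g * d * g⁻¹ = y := by
  induction hy with
  | refl => exact ⟨1, one_mem _, by rw [one_mul, inv_one, mul_one]⟩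
  | tail hab e ih =>
    obtain ⟨g, hg, hgd⟩ := ih
    obtain ⟨k, hk, hkd⟩ := h.std.ot.exists_conj_mem e.1.1 e.2.1.1 e.2.2
    refine ⟨k * g, mul_mem ((Subgroup.closure_le _).2 ?_ hk) hg, by rw [← hkd, ← hgd]; group⟩
    rintro _ (rfl | rfl)
    · exact mem_compGrp hab
    · exact mem_compGrp (hab.tail e)

theorem std' : Std (cD D H d) := by
  refine ⟨(h.std.ot.sub _).map (QuotientGroup.mk'_surjective _), ?_, ?_, Cores.pCore_quotient_self 2 _, ?_⟩
  · rw [eq_top_iff]
    intro t ht
    clear ht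
    obtain ⟨y, hy, rfl⟩ := cimg_surj t
    induction hy using Subgroup.closure_induction with
    | mem y hy => exact Subgroup.subset_closure (h.cimg_mem hy)
    | one => rw [cimg_one]; exact one_mem _
    | mul a b ha hb iha ihb => rw [cimg_mul ha hb]; exact mul_mem iha ihb
    | inv a ha iha => rw [cimg_inv ha]; exact inv_mem iha
  · intro a ha b hb
    obtain ⟨y, hy, rfl⟩ := h.exists_pre ha
    obtain ⟨z, hz, rfl⟩ := h.exists_pre hb
    obtain ⟨g, hg, rfl⟩ := h.exists_conj hy
    obtain ⟨k, hk, rfl⟩ := h.exists_conj hz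
    refine isConj_iff.2 ⟨cimg D H d (k * g⁻¹), ?_⟩
    rw [← cimg_conj (mul_mem hk (inv_mem hg)) (mem_compGrp hy)]
    congr 1
    group
  · obtain ⟨e, he, hne⟩ := h.std.two h.memd
    have hd' := self_mem_Ecl h.memd
    have hl := h.std.mul_mem hd' he hne.symm
    have he' := h.cls_mem self_mem_compSet he (h.cls e he)
    refine ⟨_, h.cimg_mem self_mem_compSet, _, h.cimg_mem he', fun e' => hne ?_, ?_, ?_⟩
    · exact (h.cimg_injOn self_mem_compSet h.cls hd' he e').symm
    · exact (h.commute_iff_mem self_mem_compSet he').2 (commute_of_mem_Ecl hd' he)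
    · rw [← cimg_mul (mem_compGrp self_mem_compSet) (mem_compGrp he')]
      exact h.cimg_mem (h.cls_mem self_mem_compSet hl (h.cls _ hl))

theorem szPair {a b : G} (ha : a ∈ compSet D H d) (hb : b ∈ compSet D H d)
    (hcls : ∀ e ∈ Ecl D a, e ∈ H) (hsz : SzPair D a b) :
    SzPair (cD D H d) (cimg D H d a) (cimg D H d b) := by
  obtain ⟨haD, hbD, hab, g, hg, hga, hgb⟩ := hsz
  have hle : rootGen D a b ≤ compGrp D H d := by
    rw [rootGen, Subgroup.closure_le]
    rintro e (he | rfl)
    · exact mem_compGrp (h.cls_mem ha he (hcls e he))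
    · exact mem_compGrp hb
  have hgimg : ∀ k ∈ rootGen D a b, cimg D H d k ∈ rootGen (cD D H d) (cimg D H d a) (cimg D H d b) := by
    intro k hk
    induction hk using Subgroup.closure_induction with
    | mem y hy =>
      rcases hy with hy | rfl
      · exact subset_rootGen (h.cimg_Ecl ha hy (hcls y hy))
      · exact mem_rootGen
    | one => rw [cimg_one]; exact one_mem _
    | mul u v hu hv iu iv => rw [cimg_mul (hle hu) (hle hv)]; exact mul_mem iu iv
    | inv u hu iu => rw [cimg_inv (hle hu)]; exact inv_mem iu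
  refine ⟨h.cimg_mem ha, h.cimg_mem hb, fun c => hab ((h.commute_iff_mem ha hb).1 c),
    cimg D H d g, hgimg g hg, ?_⟩
  have hgK := hle hg
  have hu := mul_mem (mul_mem hgK hgK) (mem_compGrp ha)
  have e : ∀ {y : G}, y ∈ compGrp D H d → Commute (g * g * a) y →
      Commute (cimg D H d (g * g * a)) (cimg D H d y) := by
    intro y hy c
    rw [cimg_mk hu, cimg_mk hy]
    exact (show Commute (⟨_, hu⟩ : ↥(compGrp D H d)) ⟨y, hy⟩ from Subtype.ext c.eq).map _
  rw [← cimg_mul hgK hgK, ← cimg_mul (mul_mem hgK hgK) (mem_compGrp ha)]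
  exact ⟨e (mem_compGrp ha) hga, e (mem_compGrp hb) hgb⟩

theorem card_lt (hH : H ≠ ⊤) : Nat.card (CQ D H d) < Nat.card G := by
  refine lt_of_le_of_lt (Subgroup.card_quotient_dvd_card _ |> Nat.le_of_dvd Nat.card_pos) ?_
  refine lt_of_le_of_lt (Nat.le_of_dvd Nat.card_pos (Subgroup.card_dvd_of_le (compGrp_le h.memd h.dH))) ?_
  exact lt_of_le_of_ne (Subgroup.card_le_card_group H) fun e => hH (Subgroup.eq_top_of_card_eq H e)

/-- **Descent.** -/
theorem flatSz (hA : Aschbacher.CoreFreeCriterion.{u}) (IH : NoSzBelow G) (hH : H ≠ ⊤) {a b : G}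
    (ha : a ∈ compSet D H d) (hb : b ∈ compSet D H d) (hcls : ∀ e ∈ Ecl D a, e ∈ H)
    (hsz : SzPair D a b) : FlatSz (cD D H d) := by
  have hQ := h.szPair ha hb hcls hsz
  have hdis : ¬ IsConnectedSet (CommAdj (cD D H d)) (cD D H d) := fun hc =>
    IH _ (h.card_lt hH) _ h.std' hc _ _ hQ
  exact h.std'.flatSz hA (h.std'.flat_of_disconnected hA hdis) hQ

theorem flat_trans (hF : FlatSz (cD D H d)) {y z w : G} (hy : y ∈ compSet D H d) (hz : z ∈ compSet D H d)
    (hw : w ∈ compSet D H d) (hyz : Commute y z) (hwy : Commute w y) : Commute w z :=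
  (h.commute_iff_mem hw hz).1 (((hF.flat _ (h.cimg_mem hy) _ (h.cimg_mem hz)
    ((h.commute_iff_mem hy hz).2 hyz)) _ (h.cimg_mem hw)).1 ((h.commute_iff_mem hw hy).2 hwy))

theorem not_three (hF : FlatSz (cD D H d)) {y z : G} (hy : y ∈ compSet D H d) (hz : z ∈ compSet D H d)
    (hyz : ¬ Commute y z) : y * z * (y * z) * (y * z) ≠ 1 := by
  intro e
  have hy' := mem_compGrp hy
  have hz' := mem_compGrp hz
  have hm := mul_mem hy' hz'
  have e1 : cimg D H d y * cimg D H d z * (cimg D H d y * cimg D H d z) *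
      (cimg D H d y * cimg D H d z) = 1 := by
    rw [← cimg_mul hy' hz', ← cimg_mul hm hm, ← cimg_mul (mul_mem hm hm) hm, e, cimg_one]
  exact hyz ((h.commute_iff_mem hy hz).1 (hF.no_three (h.cimg_mem hy) (h.cimg_mem hz) e1 ▸ Commute.refl _))

/-- All pairs of a flat component are Suzuki pairs. -/
theorem szPair_of_flat (hA : Aschbacher.CoreFreeCriterion.{u}) (hF : FlatSz (cD D H d)) {y z : G}
    (hy : y ∈ compSet D H d) (hz : z ∈ compSet D H d) (hyz : ¬ Commute y z)
    (hcls : ∀ e ∈ Ecl D z, e ∈ H) : SzPair D y z := by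
  by_contra hs
  obtain ⟨z', hz', h3, -⟩ := h.std.exists_three hA (h.sub hy).1 (h.sub hz).1 hyz hs
  exact h.not_three hF hy (h.cls_mem hz hz' (hcls z' hz'))
    (not_commute_Ecl (h.sub hy).1 hz' hyz) h3

end Desc

end Cfsg.Agent.OddTrans
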