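/-
Frames: a Suzuki pair with a member commuting with both (owner: helper28).

Main results (namespace `Cfsg.Agent.OddTrans`):
* `Std.szPair_of_adj` : a neighbour of `d` outside `E_d` and not commuting with `x` gives a Suzuki pair
* `Std.exists_frame` : a Suzuki pair and a connected commuting graph give a frame
* `Frame.uniq`, `Frame.ghost`, `Frame.full` : the structure of a good frame
-/
import Cfsg.Agent.Lib.OddTrans.Descent

set_option autoImplicit false
set_option linter.unusedSectionVars false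
set_option linter.style.haveILetI false

namespace Cfsg.Agent.OddTrans

open Cfsg

universe u

attribute [local instance] Cores.pCore_normal

/-- The centraliser of an element. -/
abbrev cen {G : Type u} [Group G] (d : G) : Subgroup G := Subgroup.centralizer ({d} : Set G)

theorem mem_cen {G : Type u} [Group G] {y d : G} : y ∈ cen d ↔ Commute y d :=
  Subgroup.mem_centralizer_singleton_iff

variable {G : Type u} [Group G]

namespace Std

variable [Finite G] {D : Set G} (h : Std D)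
include h

theorem cen_ne_top {u : G} (hu : u * u = 1) (hu1 : u ≠ 1) : cen u ≠ ⊤ := fun e =>
  hu1 (h.eq_one_of_central hu fun b _ => (mem_cen.1 (e ▸ Subgroup.mem_top b)).symm)

theorem cen_mem_ne_top {d : G} (hd : d ∈ D) : cen d ≠ ⊤ :=
  h.cen_ne_top (h.ot.mul_self hd) (Involution.ne_one (h.ot.inv d hd))

theorem szPair_of_adj (hA : Aschbacher.CoreFreeCriterion.{u}) (IH : NoSzBelow G) {d x a : G}
    (hsz : SzPair D d x) (ha : a ∈ D) (had : Commute a d) (hna : a ∉ Ecl D d) (hax : ¬ Commute a x) :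
    SzPair D a x := by
  have hd := hsz.1
  have hx := hsz.2.1
  have hdx := hsz.2.2.1
  obtain ⟨e, he, k, hk, -, -, -, hw1, hww, hwE, hwx, hwa⟩ := h.exists_B hd hx ha hdx had hna
  set w := k * (a * e) with hw
  have hde : Desc D (cen w) d x :=
    ⟨h, hd, mem_cen.2 (hwE d (self_mem_Ecl hd)).symm, hx, mem_cen.2 hwx.symm, hdx,
      fun b hb => mem_cen.2 (hwE b hb).symm⟩
  have hF := hde.flatSz hA IH (h.cen_ne_top hww hw1) self_mem_compSet hde.x_mem hde.cls hsz
  have haC : a ∈ compSet D (cen w) d := hde.extend hde.x_mem ha (mem_cen.2 hwa.symm) fun c => hax c.symm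
  by_contra hs
  obtain ⟨x', hx', h3, -⟩ := h.exists_three hA ha hx hax hs
  have hxw : Commute w x' := commute_rootGen hwE hwx (h.ot.Ecl_le_rootGen hd hx hdx hx')
  exact hde.not_three hF haC (hde.cls_mem hde.x_mem hx' (mem_cen.2 hxw.symm))
    (not_commute_Ecl ha hx' hax) h3

end Std

/-- A Suzuki pair and a member commuting with both. -/
structure Frame (D : Set G) (d x c : G) : Prop where
  std : Std D
  sz : SzPair D d x
  memc : c ∈ D
  cd : Commute c d
  cx : Commute c x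

/-- The component of `c` among the members commuting with `d`. -/
abbrev compA (D : Set G) (d c : G) : Set G := compSet D (cen d) c

namespace Frame

variable [Finite G] {D : Set G} {d x c : G} (fr : Frame D d x c)
include fr

theorem memd : d ∈ D := fr.sz.1
theorem memx : x ∈ D := fr.sz.2.1
theorem ncomm : ¬ Commute d x := fr.sz.2.2.1

theorem c_notMem : c ∉ Ecl D d := fun hc => fr.ncomm ((hc.2 x fr.memx).2 fr.cx.symm).symm

theorem commute_X {g : G} (hg : g ∈ rootGen D d x) : Commute c g :=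
  member_commute_rootGen fr.memc fr.cd fr.cx hg

theorem symm : Frame D x d c := ⟨fr.std, fr.sz.symm fr.std.ot, fr.memc, fr.cx, fr.cd⟩

theorem descO : Desc D (cen c) d x :=
  ⟨fr.std, fr.memd, mem_cen.2 fr.cd.symm, fr.memx, mem_cen.2 fr.cx.symm, fr.ncomm,
    fun _ he => mem_cen.2 (commute_Ecl fr.memc he fr.cd).symm⟩

theorem exists_descA : ∃ y, Desc D (cen d) c y := by
  obtain ⟨y, hy, hyd, hyc⟩ := fr.std.exists_separating fr.memd fr.memc fr.c_notMem
  exact ⟨y, fr.std, fr.memc, mem_cen.2 fr.cd, hy, mem_cen.2 hyd, fun e => hyc e.symm,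
    fun _ he => mem_cen.2 (commute_Ecl fr.memd he fr.cd.symm).symm⟩

theorem memA {y : G} (hy : y ∈ compA D d c) : y ∈ D ∧ Commute y d :=
  ⟨(compSet_sub fr.memc (mem_cen.2 fr.cd) hy).1, mem_cen.1 (compSet_sub fr.memc (mem_cen.2 fr.cd) hy).2⟩

theorem clsA {y : G} (hy : y ∈ compA D d c) : ∀ e ∈ Ecl D y, e ∈ cen d := fun _ he =>
  mem_cen.2 (commute_Ecl fr.memd he (fr.memA hy).2.symm).symm

theorem flatO (hA : Aschbacher.CoreFreeCriterion.{u}) (IH : NoSzBelow G) :
    FlatSz (cD D (cen c) d) :=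
  fr.descO.flatSz hA IH (fr.std.cen_mem_ne_top fr.memc) self_mem_compSet fr.descO.x_mem fr.descO.cls fr.sz

theorem notMem_Ecl_d {y : G} (hy : y ∈ compA D d c) : y ∉ Ecl D d := by
  obtain ⟨w, hw⟩ := fr.exists_descA
  obtain ⟨z, hz, hyz⟩ := hw.partner hy
  intro he
  exact hyz (commute_Ecl (fr.memA hz).1 he (fr.memA hz).2).symm

end Frame

/-- A frame whose component at `d` has a member not commuting with `x`. -/
def Good (D : Set G) (d x c : G) : Prop := ∃ y ∈ compA D d c, ¬ Commute y x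

/-- The members of the component commuting with `x`. -/
def ghosts (D : Set G) (d x c : G) : Set G := {g | g ∈ compA D d c ∧ Commute g x}

namespace Frame

variable [Finite G] {D : Set G} {d x c : G} (fr : Frame D d x c)
include fr

theorem good_flat (hA : Aschbacher.CoreFreeCriterion.{u}) (IH : NoSzBelow G) (hg : Good D d x c) :
    FlatSz (cD D (cen d) c) := by
  obtain ⟨y₀, hy₀, hy₀x⟩ := hg
  -- an edge leaving `C(x)`
  obtain ⟨c', y, hc', hy, hc'x, hyx, hcy⟩ : ∃ c' y, c' ∈ compA D d c ∧ y ∈ compA D d c ∧ Commute c' x ∧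
      ¬ Commute y x ∧ ¬ Commute c' y := by
    suffices ∀ {z}, z ∈ compA D d c → ¬ Commute z x → ∃ c' y, c' ∈ compA D d c ∧ y ∈ compA D d c ∧
        Commute c' x ∧ ¬ Commute y x ∧ ¬ Commute c' y from this hy₀ hy₀x
    intro z hz
    induction hz with
    | refl => exact fun hn => absurd fr.cx hn
    | tail hab e ih =>
      intro hn
      rename_i a b
      by_cases hc : Commute a x
      · exact ⟨a, b, hab, hab.tail e, hc, hn, e.2.2⟩
      · exact ih hc
  obtain ⟨hyD, hyd⟩ := fr.memA hy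
  obtain ⟨hc'D, hc'd⟩ := fr.memA hc'
  have hsz1 : SzPair D y x := fr.std.szPair_of_adj hA IH fr.sz hyD hyd (fr.notMem_Ecl_d hy) hyx
  have hsz2 : SzPair D c' y := fr.std.szPair_of_adj hA IH (hsz1.symm fr.std.ot) hc'D hc'x
    (fun he => fr.ncomm (commute_Ecl fr.memd (Ecl_eq he.2 ▸ self_mem_Ecl fr.memx) hc'd.symm)) hcy
  obtain ⟨w, hw⟩ := fr.exists_descA
  exact hw.flatSz hA IH (fr.std.cen_mem_ne_top fr.memd) hc' hy (fr.clsA hc') hsz2

theorem self_ghost : c ∈ ghosts D d x c := ⟨self_mem_compSet, fr.cx⟩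

theorem ghost_X {g : G} (hg : g ∈ ghosts D d x c) {t : G} (ht : t ∈ rootGen D d x) : Commute g t :=
  member_commute_rootGen (fr.memA hg.1).1 (fr.memA hg.1).2 hg.2 ht

/-- Two commuting ghosts commute alike. -/
theorem uniq (hA : Aschbacher.CoreFreeCriterion.{u}) (IH : NoSzBelow G) (hF : FlatSz (cD D (cen d) c))
    {g g' : G} (hg : g ∈ ghosts D d x c) (hg' : g' ∈ ghosts D d x c) (hc : Commute g g') :
    SameC D g g' := by
  obtain ⟨w, hw⟩ := fr.exists_descA
  obtain ⟨hgD, hgd⟩ := fr.memA hg.1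
  obtain ⟨hg'D, hg'd⟩ := fr.memA hg'.1
  refine fr.std.sameC_of_subset hgD hg'D fun r hr hrg => ?_
  by_contra hrg'
  by_cases hrd : Commute r d
  · have hrA : r ∈ compA D d c := hw.extend hg'.1 hr (mem_cen.2 hrd) fun e => hrg' e.symm
    exact hrg' (hw.flat_trans hF hg.1 hg'.1 hrA hc hrg)
  · have fr' : Frame D d x g := ⟨fr.std, fr.sz, hgD, hgd, hg.2⟩
    have hde := fr'.descO
    have hrO : r ∈ compSet D (cen g) d :=
      hde.extend self_mem_compSet hr (mem_cen.2 hrg) fun e => hrd e.symm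
    have hgO : g' ∈ compSet D (cen g) d := hde.extend hrO hg'D (mem_cen.2 hc.symm) hrg'
    exact fr.ncomm (hde.flat_trans (fr'.flatO hA IH) hgO hde.x_mem self_mem_compSet hg'.2 hg'd.symm)

/-- The classes of the ghosts. -/
theorem ghost_mem_cls {g e : G} (hg : g ∈ ghosts D d x c) (he : e ∈ Ecl D g) : e ∈ ghosts D d x c := by
  obtain ⟨w, hw⟩ := fr.exists_descA
  exact ⟨hw.cls_mem hg.1 he (fr.clsA hg.1 e he), (commute_Ecl fr.memx he hg.2.symm).symm⟩

theorem compA_conj {p y : G} (hpd : Commute p d) (hy : y ∈ compA D d c) {y' : G}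
    (hy' : y' ∈ compA D d c) (hfix : ¬ Commute (p * y' * p⁻¹) y' ∨ p * y' * p⁻¹ ∈ compA D d c) :
    p * y * p⁻¹ ∈ compA D d c := by
  obtain ⟨w, hw⟩ := fr.exists_descA
  have hstart : p * y' * p⁻¹ ∈ compA D d c := by
    rcases hfix with hn | h1
    · refine hw.extend hy' (fr.std.ot.conj p y' (fr.memA hy').1) (mem_cen.2 ?_) fun e => hn e.symm
      have h2 := (conj_commute_iff (v := p)).2 (fr.memA hy').2
      rwa [conj_eq_of_commute hpd] at h2
    · exact h1
  have hyy' : Relation.ReflTransGen (NCAdj {z | z ∈ D ∧ z ∈ cen d}) y' y := (ncadj_symm hy').trans hy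
  clear hy hfix
  induction hyy' with
  | refl => exact hstart
  | tail _ e ih =>
    refine hw.extend ih (fr.std.ot.conj p _ e.2.1.1) (mem_cen.2 ?_) fun c' => e.2.2 (conj_commute_iff.1 c')
    have h2 := (conj_commute_iff (v := p)).2 (mem_cen.1 e.2.1.2)
    rwa [conj_eq_of_commute hpd] at h2

end Frame

theorem even_ncard_Ecl_add_one [Finite G] {D : Set G} (h : Std D) {d : G} (hd : d ∈ D) :
    Odd (Ecl D d).ncard ∧ ∃ k, (Ecl D d).ncard + 1 = 2 ^ k := by
  haveI : Fact (Nat.Prime 2) := ⟨Nat.prime_two⟩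
  set E := Subgroup.closure (Ecl D d) with hE
  have hp : IsPGroup 2 E := by
    rintro ⟨g, hg⟩
    refine ⟨1, Subtype.ext ?_⟩
    show g ^ (2 ^ 1) = 1
    have h2 : g ∈ Ecl D d ∪ {1} := (h.coe_closure_Ecl hd).subset hg
    rcases h2 with h2 | rfl
    · rw [pow_one, sq]; exact h.ot.mul_self h2.1
    · exact one_pow _
  obtain ⟨k, hk⟩ := IsPGroup.iff_card.1 hp
  have hcard : Nat.card E = (Ecl D d).ncard + 1 := by
    rw [← SetLike.coe_sort_coe, Nat.card_coe_set_eq, h.coe_closure_Ecl hd,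
      Set.union_singleton, Set.ncard_insert_of_notMem fun h1 => Involution.ne_one (h.ot.inv 1 h1.1) rfl]
  rw [hcard] at hk
  have hk0 : k ≠ 0 := fun e => by
    subst e
    have := (Set.ncard_pos (Set.toFinite _)).2 ⟨d, self_mem_Ecl (D := D) hd⟩
    omega
  refine ⟨?_, k, hk⟩
  rw [← Nat.not_even_iff_odd]
  intro he
  have h2 : 2 ∣ (Ecl D d).ncard + 1 := hk ▸ dvd_pow_self 2 hk0
  obtain ⟨r, hr⟩ := he
  omega

/-- A 2-group normalising a class fixes one of its members. -/
theorem exists_fixed_in_class [Finite G] {D : Set G} (h : Std D) {P : Subgroup G} (hP : IsPGroup 2 P)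
    {a : G} (ha : a ∈ D) (hfix : ∀ p ∈ P, p * a * p⁻¹ ∈ Ecl D a) :
    ∃ b ∈ Ecl D a, ∀ p ∈ P, Commute p b := by
  haveI : Fact (Nat.Prime 2) := ⟨Nat.prime_two⟩
  have hstep : ∀ p ∈ P, ∀ e ∈ Ecl D a, p * e * p⁻¹ ∈ Ecl D a := fun p hp e he => by
    have h1 := h.ot.conj_mem_Ecl p he
    rwa [Ecl_eq (hfix p hp).2] at h1
  let T := {e : G // e ∈ Ecl D a}
  letI : MulAction P T :=
    { smul := fun p e => ⟨(p : G) * e.1 * (p : G)⁻¹, hstep p p.2 e.1 e.2⟩
      one_smul := fun e => Subtype.ext (by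
        show (1 : G) * e.1 * (1 : G)⁻¹ = e.1
        group)
      mul_smul := fun p q e => Subtype.ext (by
        show ((p * q : P) : G) * e.1 * ((p * q : P) : G)⁻¹ =
          (p : G) * ((q : G) * e.1 * (q : G)⁻¹) * (p : G)⁻¹
        rw [Subgroup.coe_mul]; group) }
  obtain ⟨⟨b, hb⟩, hbfix⟩ := hP.nonempty_fixed_point_of_prime_not_dvd_card T (by
    rw [Nat.two_dvd_ne_zero, ← Nat.odd_iff]
    exact Nat.card_coe_set_eq (Ecl D a) ▸ (even_ncard_Ecl_add_one h ha).1)
  exact ⟨b, hb, fun p hp => commute_of_conj_eq (congrArg Subtype.val (hbfix ⟨p, hp⟩))⟩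

/-- An involution of a finite set with one fixed point: the set is odd. -/
theorem odd_card_of_one_fixed {α : Type*} [Finite α] (f : α → α) (hf : ∀ a, f (f a) = a) {a₀ : α}
    (hfix : ∀ a, f a = a ↔ a = a₀) : Odd (Nat.card α) := by
  classical
  haveI := Fintype.ofFinite α
  have h2 : f^[2 ^ 1] = id := funext fun a => hf a
  haveI : Fact (Nat.Prime 2) := ⟨Nat.prime_two⟩
  have h1 : Fintype.card α ≡ Fintype.card (Function.fixedPoints f) [MOD 2] :=
    Equiv.Perm.card_fixedPoints_modEq (f := f) (p := 2) (n := 1) h2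
  have hc : Fintype.card (Function.fixedPoints f) = 1 := by
    rw [Fintype.card_eq_one_iff]
    exact ⟨⟨a₀, (hfix a₀).2 rfl⟩, fun b => Subtype.ext ((hfix b.1).1 b.2)⟩
  rw [hc] at h1
  rw [Nat.card_eq_fintype_card, Nat.odd_iff]
  exact h1

namespace Frame

variable [Finite G] {D : Set G} {d x c : G} (fr : Frame D d x c)
include fr

/-- A 2-group preserving the ghosts fixes one of them. -/
theorem exists_fixed_ghost (hA : Aschbacher.CoreFreeCriterion.{u}) (IH : NoSzBelow G)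
    (hF : FlatSz (cD D (cen d) c)) {P : Subgroup G} (hP : IsPGroup 2 P)
    (hinv : ∀ p ∈ P, ∀ g ∈ ghosts D d x c, p * g * p⁻¹ ∈ ghosts D d x c) :
    ∃ g ∈ ghosts D d x c, ∀ p ∈ P, Commute p g := by
  classical
  haveI : Fact (Nat.Prime 2) := ⟨Nat.prime_two⟩
  let T := {C : Set G // ∃ g ∈ ghosts D d x c, C = Ecl D g}
  have hconj : ∀ (p : G), (∀ g ∈ ghosts D d x c, p * g * p⁻¹ ∈ ghosts D d x c) →
      ∀ C : T, ∃ g ∈ ghosts D d x c, (fun e => p * e * p⁻¹) '' C.1 = Ecl D g := by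
    rintro p hp ⟨C, g, hg, rfl⟩
    exact ⟨_, hp g hg, (fr.std.ot.Ecl_conj p g).symm⟩
  -- conjugation by `c` fixes one class only
  have hc' : ∀ g ∈ ghosts D d x c, c * g * c⁻¹ ∈ ghosts D d x c := by
    intro g hg
    refine ⟨fr.compA_conj fr.cd hg.1 self_mem_compSet (Or.inr ?_), ?_⟩
    · rw [mul_inv_cancel_right]; exact self_mem_compSet
    · have h2 := (conj_commute_iff (v := c)).2 hg.2
      rwa [conj_eq_of_commute fr.cx] at h2
  have hodd : Odd (Nat.card T) := by
    refine odd_card_of_one_fixed (fun C => ⟨(fun e => c * e * c⁻¹) '' C.1, hconj c hc' C⟩) (fun C => ?_)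
      (a₀ := ⟨Ecl D c, c, fr.self_ghost, rfl⟩) fun C => ?_
    · refine Subtype.ext ?_
      show (fun e => c * e * c⁻¹) '' ((fun e => c * e * c⁻¹) '' C.1) = C.1
      rw [Set.image_image]
      refine (Set.image_congr fun e _ => ?_).trans (Set.image_id' C.1)
      rw [fr.std.ot.inv_eq fr.memc, show c * (c * e * c) * c = c * c * e * (c * c) by group,
        fr.std.ot.mul_self fr.memc, one_mul, mul_one]
    · obtain ⟨C, g, hg, rfl⟩ := C
      constructor
      · intro e
        have e1 : (fun e => c * e * c⁻¹) '' Ecl D g = Ecl D g := congrArg Subtype.val e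
        rw [← fr.std.ot.Ecl_conj] at e1
        have h1 : c * g * c⁻¹ ∈ Ecl D g := e1 ▸ self_mem_Ecl (fr.std.ot.conj c g (fr.memA hg.1).1)
        have h2 : Commute g (c * g * c⁻¹) := commute_of_mem_Ecl (self_mem_Ecl (fr.memA hg.1).1) h1
        rw [fr.std.ot.inv_eq fr.memc] at h2
        have h3 := fr.std.ot.commute_of_conj (fr.memA hg.1).1 fr.memc h2
        exact Subtype.ext (Ecl_eq (fr.uniq hA IH hF hg fr.self_ghost h3)).symm
      · intro e
        rw [Subtype.mk.injEq] at e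
        refine Subtype.ext ?_
        show (fun e => c * e * c⁻¹) '' Ecl D g = Ecl D g
        rw [e, ← fr.std.ot.Ecl_conj, mul_inv_cancel_right]
  letI : MulAction P T :=
    { smul := fun p C => ⟨(fun e => (p : G) * e * (p : G)⁻¹) '' C.1, hconj p (hinv p p.2) C⟩
      one_smul := fun C => Subtype.ext (by
        show (fun e => (1 : G) * e * (1 : G)⁻¹) '' C.1 = C.1
        simp)
      mul_smul := fun p q C => Subtype.ext (by
        show (fun e => ((p * q : P) : G) * e * ((p * q : P) : G)⁻¹) '' C.1 =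
          (fun e => (p : G) * e * (p : G)⁻¹) '' ((fun e => (q : G) * e * (q : G)⁻¹) '' C.1)
        rw [Set.image_image]
        simp only [Subgroup.coe_mul, mul_inv_rev, mul_assoc]) }
  obtain ⟨⟨C, g, hg, rfl⟩, hfix⟩ := hP.nonempty_fixed_point_of_prime_not_dvd_card T
    (by rw [Nat.two_dvd_ne_zero, ← Nat.odd_iff]; exact hodd)
  obtain ⟨b, hb, hbfix⟩ := exists_fixed_in_class fr.std hP (fr.memA hg.1).1 fun p hp => by
    have e1 : (fun e => p * e * p⁻¹) '' Ecl D g = Ecl D g := congrArg Subtype.val (hfix ⟨p, hp⟩)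
    rw [← fr.std.ot.Ecl_conj] at e1
    exact e1 ▸ self_mem_Ecl (fr.std.ot.conj p g (fr.memA hg.1).1)
  exact ⟨b, fr.ghost_mem_cls hg hb, hbfix⟩

/-- Every member of a flat component commutes with a ghost. -/
theorem ghost (hA : Aschbacher.CoreFreeCriterion.{u}) (IH : NoSzBelow G)
    (hF : FlatSz (cD D (cen d) c)) {y : G} (hy : y ∈ compA D d c) :
    ∃ g ∈ ghosts D d x c, Commute g y := by
  by_cases hyx : Commute y x
  · exact ⟨y, ⟨hy, hyx⟩, Commute.refl y⟩
  obtain ⟨hyD, hyd⟩ := fr.memA hy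
  obtain ⟨e, he, k, hk, -, -, -, hw1, hww, hwE, hwx, hwy⟩ :=
    fr.std.exists_B fr.memd fr.memx hyD fr.ncomm hyd (fr.notMem_Ecl_d hy)
  set w := k * (y * e)
  haveI : Fact (Nat.Prime 2) := ⟨Nat.prime_two⟩
  have hP : IsPGroup 2 (Subgroup.zpowers w) := IsPGroup.of_card (n := 1) (by
    rw [Nat.card_zpowers, Involution.orderOf_of_sq hww hw1, pow_one])
  have hcl : Subgroup.zpowers w ≤ cen y ⊓ cen d ⊓ cen x := by
    rw [Subgroup.zpowers_le]
    exact ⟨⟨mem_cen.2 hwy, mem_cen.2 (hwE d (self_mem_Ecl fr.memd))⟩, mem_cen.2 hwx⟩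
  obtain ⟨g, hg, hgw⟩ := fr.exists_fixed_ghost hA IH hF hP fun p hp g hg => by
    obtain ⟨⟨hpy, hpd⟩, hpx⟩ := hcl hp
    refine ⟨fr.compA_conj (mem_cen.1 hpd) hg.1 hy (Or.inr ?_), ?_⟩
    · rw [conj_eq_of_commute (mem_cen.1 hpy)]; exact hy
    · have h2 := (conj_commute_iff (v := p)).2 hg.2
      rwa [conj_eq_of_commute (mem_cen.1 hpx)] at h2
  refine ⟨g, hg, by_contra fun hgy => ?_⟩
  obtain ⟨hgD, hgd⟩ := fr.memA hg.1
  have hde : Desc D (cen w) d x :=
    ⟨fr.std, fr.memd, mem_cen.2 (hwE d (self_mem_Ecl fr.memd)).symm, fr.memx, mem_cen.2 hwx.symm,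
      fr.ncomm, fun b hb => mem_cen.2 (hwE b hb).symm⟩
  have hyC : y ∈ compSet D (cen w) d :=
    hde.extend hde.x_mem hyD (mem_cen.2 hwy.symm) fun c' => hyx c'.symm
  have hgC : g ∈ compSet D (cen w) d :=
    hde.extend hyC hgD (mem_cen.2 (hgw w (Subgroup.mem_zpowers w)).symm) fun c' => hgy c'.symm
  have hFw := hde.flatSz hA IH (fr.std.cen_ne_top hww hw1) self_mem_compSet hde.x_mem hde.cls fr.sz
  exact fr.ncomm (hde.flat_trans hFw hgC hde.x_mem self_mem_compSet hg.2 hgd.symm)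

theorem exists_ghost_partner (hA : Aschbacher.CoreFreeCriterion.{u}) (IH : NoSzBelow G)
    (hF : FlatSz (cD D (cen d) c)) : ∃ g ∈ ghosts D d x c, ¬ Commute c g := by
  obtain ⟨w, hw⟩ := fr.exists_descA
  obtain ⟨y, hy, hcy⟩ := hw.partner (self_mem_compSet (D := D) (H := cen d) (d := c))
  obtain ⟨g, hg, hgy⟩ := fr.ghost hA IH hF hy
  exact ⟨g, hg, fun hcg => hcy (hw.flat_trans hF hg.1 hy self_mem_compSet hgy hcg)⟩

end Frame

theorem Flat.class_eq {Q : Type u} [Group Q] {D : Set Q} (hF : Flat D) {a b : Q} (ha : a ∈ D)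
    (hb : b ∈ D) (h : Commute a b) : Ecl D b = Ecl D a :=
  Ecl_eq (hF a ha b hb h)

namespace Frame

variable [Finite G] {D : Set G} {d x c : G} (fr : Frame D d x c)
include fr

/-- In a flat component the image of a class is a whole class. -/
theorem full (hA : Aschbacher.CoreFreeCriterion.{u}) (IH : NoSzBelow G) (hF : FlatSz (cD D (cen d) c))
    {y : G} (hy : y ∈ compA D d c) :
    Ecl (cD D (cen d) c) (cimg D (cen d) c y) = cimg D (cen d) c '' Ecl D y := by
  classical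
  obtain ⟨w, hw⟩ := fr.exists_descA
  obtain ⟨g₀, hg₀, hcg₀⟩ := fr.exists_ghost_partner hA IH hF
  have hg₀D := (fr.memA hg₀.1).1
  -- the component of the ghosts
  set H' := cen d ⊓ cen x with hH'
  have hw' : Desc D H' c g₀ :=
    ⟨fr.std, fr.memc, ⟨mem_cen.2 fr.cd, mem_cen.2 fr.cx⟩, hg₀D, ⟨mem_cen.2 (fr.memA hg₀.1).2, mem_cen.2 hg₀.2⟩,
      hcg₀, fun e he => ⟨mem_cen.2 (commute_Ecl fr.memd he fr.cd.symm).symm,
        mem_cen.2 (commute_Ecl fr.memx he fr.cx.symm).symm⟩⟩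
  have hsub : ∀ {z}, z ∈ compSet D H' c → z ∈ ghosts D d x c := by
    intro z hz
    refine ⟨Relation.ReflTransGen.mono (fun a b e => ⟨⟨e.1.1, e.1.2.1⟩, ⟨e.2.1.1, e.2.1.2.1⟩, e.2.2⟩) _ _ hz, mem_cen.1 (hw'.sub hz).2.2⟩
  have hmem' : ∀ {g}, g ∈ ghosts D d x c → g ∈ compSet D H' c := by
    intro g hg
    have hgH : g ∈ H' := ⟨mem_cen.2 (fr.memA hg.1).2, mem_cen.2 hg.2⟩
    by_cases hcg : Commute c g
    · refine hw'.extend hw'.x_mem (fr.memA hg.1).1 hgH ?_
      have hs := fr.uniq hA IH hF fr.self_ghost hg hcg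
      exact fun e => hcg₀ ((hs g₀ hg₀D).2 e).symm
    · exact hw'.extend self_mem_compSet (fr.memA hg.1).1 hgH hcg
  have hH'top : H' ≠ ⊤ := fun e => fr.std.cen_mem_ne_top fr.memd (top_le_iff.1 (e ▸ inf_le_left))
  have hsz : SzPair D c g₀ := hw.szPair_of_flat hA hF self_mem_compSet hg₀.1 hcg₀ (fr.clsA hg₀.1)
  have hF' := hw'.flatSz hA IH hH'top self_mem_compSet hw'.x_mem hw'.cls hsz
  -- the number of ghost classes
  set K : Set (Set G) := Ecl D '' ghosts D d x c with hK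
  have hcls : ∀ g ∈ ghosts D d x c,
      Ecl (cD D H' c) (cimg D H' c g) = cimg D H' c '' Ecl D g := by
    intro g hg
    refine Set.Subset.antisymm ?_ ?_
    · rintro t ⟨ht, hs⟩
      obtain ⟨z, hz, rfl⟩ := hw'.exists_pre ht
      have hgz : Commute g z := (hw'.commute_iff_mem (hmem' hg) hz).1
        ((hs _ (hw'.cimg_mem (hmem' hg))).1 (Commute.refl _))
      exact ⟨z, ⟨(hw'.sub hz).1, fr.uniq hA IH hF hg (hsub hz) hgz⟩, rfl⟩
    · rintro _ ⟨e, he, rfl⟩
      exact hw'.cimg_Ecl (hmem' hg) he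
        ⟨mem_cen.2 (fr.memA (fr.ghost_mem_cls hg he).1).2, mem_cen.2 (fr.ghost_mem_cls hg he).2⟩
  have hn' : (Ecl (cD D H' c) (cimg D H' c c)).ncard = (Ecl D c).ncard := by
    rw [hcls c fr.self_ghost, (hw'.cimg_injOn self_mem_compSet hw'.cls).ncard_image]
  have hcard1 : K.ncard = ((Ecl D c).ncard + 1) ^ 2 + 1 := by
    rw [← hn', ← hF'.card_classes (hw'.cimg_mem self_mem_compSet)]
    refine Set.ncard_congr (fun C _ => cimg D H' c '' C) ?_ ?_ ?_
    · rintro _ ⟨g, hg, rfl⟩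
      exact ⟨_, hw'.cimg_mem (hmem' hg), hcls g hg⟩
    · rintro _ _ ⟨g, hg, rfl⟩ ⟨g', hg', rfl⟩ e
      rw [← hcls g hg, ← hcls g' hg'] at e
      have h1 : cimg D H' c g' ∈ Ecl (cD D H' c) (cimg D H' c g) :=
        e ▸ self_mem_Ecl (hw'.cimg_mem (hmem' hg'))
      have h2 := (hw'.commute_iff_mem (hmem' hg) (hmem' hg')).1
        (commute_of_mem_Ecl (self_mem_Ecl (hw'.cimg_mem (hmem' hg))) h1)
      exact (Ecl_eq (fr.uniq hA IH hF hg hg' h2)).symm
    · rintro _ ⟨t, ht, rfl⟩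
      obtain ⟨g, hg, rfl⟩ := hw'.exists_pre ht
      exact ⟨_, ⟨g, hsub hg, rfl⟩, (hcls g (hsub hg)).symm⟩
  have hcard2 : K.ncard = ((Ecl (cD D (cen d) c) (cimg D (cen d) c c)).ncard + 1) ^ 2 + 1 := by
    rw [← hF.card_classes (hw.cimg_mem self_mem_compSet)]
    refine Set.ncard_congr (fun C hC => Ecl (cD D (cen d) c) (cimg D (cen d) c hC.choose)) ?_ ?_ ?_
    · intro C hC
      exact ⟨_, hw.cimg_mem hC.choose_spec.1.1, rfl⟩
    · intro C C' hC hC' e
      have h1 : cimg D (cen d) c hC'.choose ∈ Ecl (cD D (cen d) c) (cimg D (cen d) c hC.choose) :=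
        e ▸ self_mem_Ecl (hw.cimg_mem hC'.choose_spec.1.1)
      have h2 := (hw.commute_iff_mem hC.choose_spec.1.1 hC'.choose_spec.1.1).1
        (commute_of_mem_Ecl (self_mem_Ecl (hw.cimg_mem hC.choose_spec.1.1)) h1)
      rw [← hC.choose_spec.2, ← hC'.choose_spec.2]
      exact (Ecl_eq (fr.uniq hA IH hF hC.choose_spec.1 hC'.choose_spec.1 h2)).symm
    · rintro _ ⟨t, ht, rfl⟩
      obtain ⟨y, hy, rfl⟩ := hw.exists_pre ht
      obtain ⟨g, hg, hgy⟩ := fr.ghost hA IH hF hy
      have hC : Ecl D g ∈ K := ⟨g, hg, rfl⟩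
      refine ⟨_, hC, hF.flat.class_eq (hw.cimg_mem hy) (hw.cimg_mem hC.choose_spec.1.1) ?_⟩
      refine (hw.commute_iff_mem hy hC.choose_spec.1.1).2 ?_
      have hmem2 : hC.choose ∈ Ecl D g := by
        have h3 := self_mem_Ecl (D := D) (fr.memA hC.choose_spec.1.1).1
        have h4 := hC.choose_spec.2
        generalize hC.choose = g' at h3 h4 ⊢
        exact h4 ▸ h3
      exact commute_Ecl (fr.memA hy).1 hmem2 hgy.symm
  have hq : (Ecl (cD D (cen d) c) (cimg D (cen d) c c)).ncard = (Ecl D c).ncard := by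
    have h1 := hcard2.symm.trans hcard1
    have h2 := Nat.pow_left_injective two_ne_zero (Nat.add_right_cancel h1)
    omega
  refine (Set.eq_of_subset_of_ncard_le ?_ ?_ (Set.toFinite _)).symm
  · rintro _ ⟨e, he, rfl⟩
    exact hw.cimg_Ecl hy he (fr.clsA hy e he)
  · rw [(hw.cimg_injOn hy (fr.clsA hy)).ncard_image,
      hF.std.card_Ecl (hw.cimg_mem hy) (hw.cimg_mem self_mem_compSet), hq,
      fr.std.card_Ecl fr.memc (fr.memA hy).1]

end Frame

/-- A Suzuki pair in a connected commuting graph gives a frame. -/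
theorem Std.exists_frame [Finite G] {D : Set G} (h : Std D) (hA : Aschbacher.CoreFreeCriterion.{u})
    (IH : NoSzBelow G) (hc : IsConnectedSet (CommAdj D) D) {d x : G} (hsz : SzPair D d x) :
    ∃ d' x' c', Frame D d' x' c' := by
  suffices ∀ {a b : G}, Relation.ReflTransGen (CommAdj D) a b → SzPair D a b →
      ∃ d' x' c', Frame D d' x' c' from this (hc d hsz.1 x hsz.2.1) hsz
  intro a b hab
  induction hab using Relation.ReflTransGen.head_induction_on with
  | refl => exact fun hs => absurd (Commute.refl _) hs.2.2.1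
  | head e _ ih =>
    intro hs
    rename_i a a₁ _
    by_cases h1 : Commute a₁ b
    · exact ⟨a, b, a₁, h, hs, e.2.1, (show Commute a a₁ from e.2.2.2).symm, h1⟩
    · refine ih ?_
      by_cases h2 : a₁ ∈ Ecl D a
      · exact h.szPair_congr hA h2.2 e.2.1 hs
      · exact h.szPair_of_adj hA IH hs e.2.1 (show Commute a a₁ from e.2.2.2).symm h2 h1

end Cfsg.Agent.OddTrans
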