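/-
With a connected commuting graph every frame is good (owner: helper28).

Main result (namespace `Cfsg.Agent.OddTrans`): `Frame.good`.
-/
import Cfsg.Agent.Lib.OddTrans.Frame

set_option autoImplicit false
set_option linter.unusedSectionVars false
set_option linter.style.haveILetI false

namespace Cfsg.Agent.OddTrans

open Cfsg

universe u

attribute [local instance] Cores.pCore_normal

/-- The members commuting with `d` outside its class. -/
def outer {G : Type u} [Group G] (D : Set G) (d : G) : Set G :=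
  {y | y ∈ D ∧ Commute y d ∧ y ∉ Ecl D d}

variable {G : Type u} [Group G] [Finite G] {D : Set G} {d x c : G}

namespace Frame

variable (fr : Frame D d x c)
include fr

theorem bad_commute (hA : Aschbacher.CoreFreeCriterion.{u}) (IH : NoSzBelow G) (hb : ¬ Good D d x c)
    {y z : G} (hy : y ∈ outer D d) (hz : z ∈ compSet D (cen c) d) : Commute y z := by
  simp only [Good, not_exists, not_and, not_not] at hb
  have hde := fr.descO
  have hFO := fr.flatO hA IH
  obtain ⟨hzD, hzc⟩ := hde.sub hz
  obtain ⟨w, hw⟩ := fr.exists_descA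
  obtain ⟨hyD, hyd, hyE⟩ := hy
  -- inside the component of `d` only its class commutes with `d`
  have hcap : ∀ t, t ∈ compSet D (cen c) d → Commute t d → t ∈ Ecl D d := by
    intro t ht htd
    by_contra hn
    obtain ⟨r, hr, hrd, hrt⟩ := fr.std.exists_separating fr.memd (hde.sub ht).1 hn
    by_cases hrc : Commute r c
    · exact hrt (hde.flat_trans hFO self_mem_compSet ht (hde.extend ht hr (mem_cen.2 hrc) fun e => hrt e.symm)
        htd.symm hrd)
    · have htA : t ∈ compA D d c :=
        hw.extend (hw.extend self_mem_compSet hr (mem_cen.2 hrd) fun e => hrc e.symm) (hde.sub ht).1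
          (mem_cen.2 htd) hrt
      exact fr.ncomm (hde.flat_trans hFO ht hde.x_mem self_mem_compSet (hb t htA) htd.symm)
  by_cases hzd : Commute z d
  · exact commute_Ecl hyD (hcap z hz hzd) hyd
  by_cases hyA : y ∈ compA D d c
  · -- the frame `(d, z, c)` cannot be good
    by_contra hyz
    have hsz : SzPair D d z := hde.szPair_of_flat hA hFO self_mem_compSet hz (fun e => hzd e.symm)
      fun e he => mem_cen.2 (commute_Ecl fr.memc he (mem_cen.1 hzc).symm).symm
    have fr' : Frame D d z c := ⟨fr.std, hsz, fr.memc, fr.cd, (mem_cen.1 hzc).symm⟩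
    have hF := fr'.good_flat hA IH ⟨y, hyA, hyz⟩
    obtain ⟨g, hg, hgy⟩ := fr'.ghost hA IH hF hyA
    exact hyz ((fr.uniq hA IH hF ⟨hg.1, hb g hg.1⟩ ⟨hyA, hb y hyA⟩ hgy z hzD).1 hg.2.symm).symm
  · by_contra hyz
    have hyc : Commute y c := by_contra fun e =>
      hyA (hw.extend self_mem_compSet hyD (mem_cen.2 hyd) fun e' => e e'.symm)
    exact hyE (hcap y (hde.extend hz hyD (mem_cen.2 hyc) fun e => hyz e.symm) hyd)

/-- A member of the component commuting with `d` is in its class. -/
theorem bad_members_aux (hA : Aschbacher.CoreFreeCriterion.{u}) (IH : NoSzBelow G) (hb : ¬ Good D d x c)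
    {z : G} (hz : z ∈ compSet D (cen c) d) (hdz : Commute d z) : z ∈ Ecl D d := by
  by_contra hn
  have hzo : z ∈ outer D d := ⟨(fr.descO.sub hz).1, hdz.symm, hn⟩
  obtain ⟨w, hw, hzw⟩ := fr.descO.partner hz
  exact hzw (fr.bad_commute hA IH hb hzo hw)

theorem bad_members (hA : Aschbacher.CoreFreeCriterion.{u}) (IH : NoSzBelow G) (hb : ¬ Good D d x c)
    {t z : G} (ht : t ∈ D) (hz : z ∈ compSet D (cen c) d) (hc : Commute t z) :
    t ∈ outer D d ∨ t ∈ Ecl D z := by
  have hzD := (fr.descO.sub hz).1
  set Sd := {y | y ∈ D ∧ Commute y d}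
  set Sz := {y | y ∈ D ∧ Commute y z}
  have hsub : outer D d ∪ Ecl D z ⊆ Sz := by
    rintro y (hy | hy)
    · exact ⟨hy.1, fr.bad_commute hA IH hb hy hz⟩
    · exact ⟨hy.1, commute_of_mem_Ecl hy (self_mem_Ecl hzD)⟩
  have hdisj : Disjoint (outer D d) (Ecl D z) := by
    rw [Set.disjoint_left]
    intro y hy hyz
    have hdz : Commute d z := (hyz.2 d fr.memd).2 hy.2.1.symm
    have hze := fr.bad_members_aux hA IH hb hz hdz
    exact hy.2.2 ⟨hy.1, hze.2.trans hyz.2⟩
  have hSd : Sd = outer D d ∪ Ecl D d := by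
    ext y
    refine ⟨fun hy => ?_, ?_⟩
    · by_cases h : y ∈ Ecl D d
      · exact Or.inr h
      · exact Or.inl ⟨hy.1, hy.2, h⟩
    · rintro (hy | hy)
      · exact ⟨hy.1, hy.2.1⟩
      · exact ⟨hy.1, commute_of_mem_Ecl hy (self_mem_Ecl fr.memd)⟩
  have hcard : Sz.ncard = Sd.ncard := by
    obtain ⟨g, hg⟩ := isConj_iff.1 (fr.std.isConj d fr.memd z hzD)
    subst hg
    have : Sz = (fun y => g * y * g⁻¹) '' Sd := by
      ext y
      constructor
      · rintro ⟨hy, hyz⟩
        refine ⟨g⁻¹ * y * g, ⟨by simpa using fr.std.ot.conj g⁻¹ y hy, ?_⟩, by group⟩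
        rw [← conj_commute_iff (v := g), show g * (g⁻¹ * y * g) * g⁻¹ = y by group]
        exact hyz
      · rintro ⟨y, ⟨hy, hyd⟩, rfl⟩
        exact ⟨fr.std.ot.conj g y hy, conj_commute_iff.2 hyd⟩
    rw [this, Set.ncard_image_of_injective]
    exact fun a b e => mul_left_cancel (mul_right_cancel e)
  have heq : outer D d ∪ Ecl D z = Sz := by
    refine Set.eq_of_subset_of_ncard_le hsub ?_ (Set.toFinite _)
    rw [hcard, hSd, Set.ncard_union_eq hdisj, Set.ncard_union_eq
      (Set.disjoint_left.2 fun y hy hy' => hy.2.2 hy'), fr.std.card_Ecl fr.memd hzD]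
  exact (heq ▸ (⟨ht, hc⟩ : t ∈ Sz) : t ∈ outer D d ∪ Ecl D z)

/-- **Every frame is good.** -/
theorem good (hA : Aschbacher.CoreFreeCriterion.{u}) (IH : NoSzBelow G)
    (hconn : IsConnectedSet (CommAdj D) D) : Good D d x c := by
  by_contra hb
  set T := outer D d ∪ compSet D (cen c) d with hT
  have hde := fr.descO
  have hclosed : ∀ s ∈ T, ∀ t ∈ D, Commute t s → t ∈ T := by
    rintro s (hs | hs) t ht hts
    · by_cases htd : Commute t d
      · by_cases htE : t ∈ Ecl D d
        · exact Or.inr (hde.cls_mem self_mem_compSet htE (hde.cls t htE))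
        · exact Or.inl ⟨ht, htd, htE⟩
      · have hsx : Commute s x := fr.bad_commute hA IH hb hs hde.x_mem
        have fr2 : Frame D d x s := ⟨fr.std, fr.sz, hs.1, hs.2.1, hsx⟩
        have hb2 : ¬ Good D d x s := by
          rintro ⟨y, hy, hyx⟩
          exact hyx (fr.bad_commute hA IH hb
            ⟨(fr2.memA hy).1, (fr2.memA hy).2, fr2.notMem_Ecl_d hy⟩ hde.x_mem)
        have ht2 : t ∈ compSet D (cen s) d :=
          fr2.descO.extend self_mem_compSet ht (mem_cen.2 hts) fun e => htd e.symm
        have htc : Commute c t := fr2.bad_commute hA IH hb2 ⟨fr.memc, fr.cd, fr.c_notMem⟩ ht2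
        exact Or.inr (hde.extend self_mem_compSet ht (mem_cen.2 htc.symm) fun e => htd e.symm)
    · rcases fr.bad_members hA IH hb ht hs hts with h | h
      · exact Or.inl h
      · exact Or.inr (hde.cls_mem hs h (mem_cen.2 (commute_Ecl fr.memc h
          (mem_cen.1 (hde.sub hs).2).symm).symm))
  have hall : ∀ t ∈ D, t ∈ T := by
    intro t ht
    have hr := hconn d fr.memd t ht
    clear ht
    induction hr with
    | refl => exact Or.inr self_mem_compSet
    | tail _ e ih => exact hclosed _ ih _ e.2.1 (show Commute _ _ from e.2.2.2).symm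
  have hodd : ∀ t, Relation.ReflTransGen (OddAdj D) d t → t ∈ compSet D (cen c) d := by
    intro t ht
    induction ht with
    | refl => exact self_mem_compSet
    | tail _ e ih =>
      rename_i a b _
      rcases hall b e.2.1 with h | h
      · have hc := fr.bad_commute hA IH hb h ih
        exact absurd (fr.std.ot.eq_of_odd e.1 e.2.1 e.2.2.2 hc.symm) e.2.2.1
      · exact h
  have hcO := hodd c (fr.std.oddAdj_connected d fr.memd c fr.memc)
  obtain ⟨w, hw, hcw⟩ := hde.partner hcO
  exact hcw (mem_cen.1 (hde.sub hw).2).symm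

end Frame

end Cfsg.Agent.OddTrans
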