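/-
The classes in one fibre of a good frame (owner: helper28).

Main results (namespace `Cfsg.Agent.OddTrans`):
* `Frame.exists_fixed_outside` : a 2-group centralising `d, c` fixes a member of the fibre outside `E_c`
* `Frame.pCore_eq_bot` : the 2-core of `⟨E_d, x⟩` is trivial
* `Frame.exists_sylow` : the centraliser of `d` in `⟨E_d, x⟩` and its properties
-/
import Cfsg.Agent.Lib.OddTrans.GoodFrame

set_option autoImplicit false
set_option linter.unusedSectionVars false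
set_option linter.style.haveILetI false

namespace Cfsg.Agent.OddTrans

open Cfsg

universe u

attribute [local instance] Cores.pCore_normal

/-- The properties carry over along isomorphisms. -/
theorem SzFacts.of_equiv {G H : Type*} [Group G] [Group H] {q : ℕ} (h : SzFacts G q) (e : G ≃* H) :
    SzFacts H q := by
  have ho : ∀ t : H, orderOf t = 2 → orderOf (e.symm t) = 2 := fun t ht => by
    rw [MulEquiv.orderOf_eq]; exact ht
  have hc : ∀ {a b : H}, Commute a b → Commute (e.symm a) (e.symm b) := fun c => c.map e.symm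
  have hb : ∀ {a b : H}, Commute (e.symm a) (e.symm b) → Commute a b := fun c =>
    Commute.of_map e.symm.injective c
  refine ⟨h.four_le, (Nat.card_congr e.toEquiv).symm.trans h.card_eq, fun g hg => ?_, fun s t hs ht => ?_,
    fun z s t hz hs ht hzs hzt => hb (h.comm _ _ _ (ho z hz) (ho s hs) (ho t ht) (hc hzs) (hc hzt)),
    fun z hz => ?_, fun z hz => ?_, fun z hz => ?_, fun z b hz hb' hnc => ?_, fun z hz => ?_,
    fun z t g hz ht htz hgz => hb (h.central _ _ _ (ho z hz) (ho t ht) (hc htz) (hc hgz))⟩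
  · refine e.symm.injective ((h.three _ ?_).trans (map_one e.symm).symm)
    rw [← map_mul, ← map_mul, hg, map_one]
  · obtain ⟨k, hk⟩ := isConj_iff.1 (h.conj _ _ (ho s hs) (ho t ht))
    refine isConj_iff.2 ⟨e k, e.symm.injective ?_⟩
    rw [map_mul, map_mul, map_inv, e.symm_apply_apply, hk]
  · rw [← h.card_cent _ (ho z hz)]
    refine Nat.card_congr (e.symm.toEquiv.subtypeEquiv fun g => ?_)
    rw [Subgroup.mem_centralizer_singleton_iff, Subgroup.mem_centralizer_singleton_iff]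
    exact ⟨fun c => (hc (show Commute g z from c)).eq, fun c => (hb (show Commute _ _ from c)).eq⟩
  · obtain ⟨a, b, h1, h2, h3⟩ := h.nonab _ (ho z hz)
    refine ⟨e a, e b, hb ?_, hb ?_, fun c => h3 ?_⟩
    · rwa [e.symm_apply_apply]
    · rwa [e.symm_apply_apply]
    · simpa using hc c
  · rw [← h.card_invol _ (ho z hz)]
    refine Nat.card_congr (e.symm.toEquiv.subtypeEquiv fun t => ?_)
    show _ ↔ orderOf (e.symm t) = 2 ∧ Commute (e.symm t) (e.symm z)
    rw [MulEquiv.orderOf_eq]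
    exact and_congr_right fun _ => ⟨hc, hb⟩
  · apply Subgroup.map_injective (f := e.symm.toMonoidHom) e.symm.injective
    rw [Subgroup.map_top_of_surjective _ e.symm.surjective, MonoidHom.map_closure, Set.image_union,
      Set.image_singleton, ← h.generate _ _ (ho z hz) (ho b hb') fun c => hnc (hb c)]
    congr 2
    ext t
    constructor
    · rintro ⟨u, ⟨hu, huc⟩, rfl⟩
      exact ⟨ho u hu, hc huc⟩
    · rintro ⟨ht, htc⟩
      refine ⟨e t, ⟨(MulEquiv.orderOf_eq e t).trans ht, hb ?_⟩, e.symm_apply_apply t⟩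
      rwa [e.symm_apply_apply]
  · obtain ⟨g, hg⟩ := h.root _ (ho z hz)
    exact ⟨e g, by rw [← map_mul, hg, e.apply_symm_apply]⟩

variable {G : Type u} [Group G] [Finite G] {D : Set G} {d x c : G}

namespace Frame

variable (fr : Frame D d x c)
include fr

/-- The group of a ghost pair centralises `⟨E_d, x⟩` and covers the component. -/
theorem exists_cover (hA : Aschbacher.CoreFreeCriterion.{u}) (IH : NoSzBelow G)
    (hF : FlatSz (cD D (cen d) c)) :
    ∃ g₀ ∈ ghosts D d x c, ¬ Commute c g₀ ∧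
      (∀ ξ ∈ rootGen D c g₀, ξ ∈ compGrp D (cen d) c ∧ ∀ t ∈ rootGen D d x, Commute ξ t) ∧
      ∀ t : CQ D (cen d) c, ∃ ξ ∈ rootGen D c g₀, cimg D (cen d) c ξ = t := by
  obtain ⟨w, hw⟩ := fr.exists_descA
  obtain ⟨g₀, hg₀, hcg⟩ := fr.exists_ghost_partner hA IH hF
  have hgen : ∀ e ∈ Ecl D c ∪ {g₀}, e ∈ ghosts D d x c := by
    rintro e (he | rfl)
    · exact fr.ghost_mem_cls fr.self_ghost he
    · exact hg₀
  have hle : rootGen D c g₀ ≤ compGrp D (cen d) c :=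
    (Subgroup.closure_le _).2 fun e he => mem_compGrp (hgen e he).1
  refine ⟨g₀, hg₀, hcg, fun ξ hξ => ⟨hle hξ, fun t ht => ?_⟩, fun t => ?_⟩
  · exact (commute_rootGen (w := t) (fun e he => (fr.ghost_X (hgen e (Or.inl he)) ht).symm)
      (fr.ghost_X hg₀ ht).symm hξ).symm
  · let M : Subgroup (CQ D (cen d) c) :=
      ((rootGen D c g₀).subgroupOf (compGrp D (cen d) c)).map (QuotientGroup.mk' _)
    have hmem : ∀ e ∈ rootGen D c g₀, cimg D (cen d) c e ∈ M := fun e he => by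
      rw [cimg_mk (hle he)]; exact Subgroup.mem_map_of_mem _ he
    have htop : M = ⊤ := by
      rw [eq_top_iff, ← hF.generate (hw.cimg_mem self_mem_compSet) (hw.cimg_mem hg₀.1)
        (fun e => hcg ((hw.commute_iff_mem self_mem_compSet hg₀.1).1 e)), rootGen, Subgroup.closure_le,
        fr.full hA IH hF self_mem_compSet]
      rintro _ (⟨e, he, rfl⟩ | rfl)
      · exact hmem e (subset_rootGen he)
      · exact hmem g₀ mem_rootGen
    obtain ⟨ξ, hξ, rfl⟩ := (htop ▸ Subgroup.mem_top t : t ∈ M)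
    exact ⟨ξ.1, hξ, cimg_mk ξ.2⟩

/-- A 2-group centralising `d` and `c` fixes a member of the fibre of `c` outside `E_c`. -/
theorem exists_fixed_outside (hA : Aschbacher.CoreFreeCriterion.{u}) (IH : NoSzBelow G)
    (hg : Good D d x c) {P : Subgroup G} (hP : IsPGroup 2 P) (hPd : P ≤ cen d) (hPc : P ≤ cen c) :
    ∃ a ∈ compA D d c, Commute a c ∧ a ∉ Ecl D c ∧ ∀ p ∈ P, Commute p a := by
  classical
  haveI : Fact (Nat.Prime 2) := ⟨Nat.prime_two⟩
  have hF := fr.good_flat hA IH hg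
  obtain ⟨w, hw⟩ := fr.exists_descA
  obtain ⟨g₀, hg₀, hcg, hX, hcov⟩ := fr.exists_cover hA IH hF
  set K := compGrp D (cen d) c with hK
  have hKd : K ≤ cen d := compGrp_le fr.memc (mem_cen.2 fr.cd)
  -- members with commuting image are in the fibre
  have hfib : ∀ {a : G}, a ∈ D → a ∈ K → Commute (cimg D (cen d) c a) (cimg D (cen d) c c) →
      cimg D (cen d) c a ≠ 1 → a ∈ compA D d c ∧ Commute a c := by
    intro a haD haK hc h1
    exact ⟨by_contra fun hn => h1 (hw.cimg_eq_one haD haK hn),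
      (hw.commute_iff haK haD (mem_compGrp self_mem_compSet) fr.memc).1 hc⟩
  let T := {C : Set G // ∃ a, a ∈ compA D d c ∧ Commute a c ∧ C = Ecl D a}
  set O := (pCore 2 ↥K) with hO
  have hO1 : ∀ τ : O, cimg D (cen d) c (τ : ↥K).1 = 1 := fun τ => by
    rw [cimg_mk (τ : ↥K).2]; exact (QuotientGroup.eq_one_iff _).2 τ.2
  have hτ : ∀ τ : O, ∀ {a : G}, a ∈ compA D d c → Commute a c →
      (τ : ↥K).1 * a * (τ : ↥K).1⁻¹ ∈ compA D d c ∧ Commute ((τ : ↥K).1 * a * (τ : ↥K).1⁻¹) c := by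
    intro τ a ha hac
    have e : cimg D (cen d) c ((τ : ↥K).1 * a * (τ : ↥K).1⁻¹) = cimg D (cen d) c a := by
      rw [cimg_conj (τ : ↥K).2 (mem_compGrp ha), hO1, one_mul, inv_one, mul_one]
    refine hfib (fr.std.ot.conj _ a (fr.memA ha).1) (mul_mem (mul_mem (τ : ↥K).2 (mem_compGrp ha))
      (inv_mem (τ : ↥K).2)) ?_ ?_
    · rw [e]; exact (hw.commute_iff_mem ha self_mem_compSet).2 hac
    · rw [e]; exact hw.cimg_ne_one ha
  letI : MulAction O T :=
    { smul := fun τ C => ⟨(fun e => (τ : ↥K).1 * e * (τ : ↥K).1⁻¹) '' C.1, by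
        obtain ⟨C, a, ha, hac, rfl⟩ := C
        exact ⟨_, (hτ τ ha hac).1, (hτ τ ha hac).2, (fr.std.ot.Ecl_conj _ a).symm⟩⟩
      one_smul := fun C => Subtype.ext (by
        show (fun e => (1 : G) * e * (1 : G)⁻¹) '' C.1 = C.1
        simp)
      mul_smul := fun σ τ C => Subtype.ext (by
        show (fun e => ((σ * τ : O) : ↥K).1 * e * ((σ * τ : O) : ↥K).1⁻¹) '' C.1 =
          (fun e => (σ : ↥K).1 * e * (σ : ↥K).1⁻¹) '' ((fun e => (τ : ↥K).1 * e * (τ : ↥K).1⁻¹) '' C.1)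
        rw [Set.image_image]
        simp only [Subgroup.coe_mul, mul_inv_rev, mul_assoc]) }
  let C₀ : T := ⟨Ecl D c, c, self_mem_compSet, Commute.refl c, rfl⟩
  have htrans : ∀ C : T, ∃ τ : O, τ • C₀ = C := by
    rintro ⟨C, a, ha, hac, rfl⟩
    obtain ⟨g, hgK, hga⟩ := hw.exists_conj ha
    obtain ⟨ξ, hξ, hξg⟩ := hcov (cimg D (cen d) c g)
    obtain ⟨hξK, -⟩ := hX ξ hξ
    have hτK : g * ξ⁻¹ ∈ K := mul_mem hgK (inv_mem hξK)
    have hτO : (⟨g * ξ⁻¹, hτK⟩ : ↥K) ∈ O := by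
      refine (QuotientGroup.eq_one_iff _).1 ?_
      show QuotientGroup.mk' _ (⟨g * ξ⁻¹, hτK⟩ : ↥K) = 1
      rw [← cimg_mk hτK, cimg_mul hgK (inv_mem hξK), cimg_inv hξK, hξg, mul_inv_cancel]
    have he : ξ * c * ξ⁻¹ ∈ Ecl D c := by
      refine fr.std.mem_Ecl_of_rootGen fr.memc (fr.memA hg₀.1).1 hcg (fr.std.ot.conj ξ c fr.memc)
        (mul_mem (mul_mem hξ (self_rootGen fr.memc)) (inv_mem hξ)) ?_
      refine (hw.commute_iff (mul_mem (mul_mem hξK (mem_compGrp self_mem_compSet)) (inv_mem hξK))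
        (fr.std.ot.conj ξ c fr.memc) (mem_compGrp self_mem_compSet) fr.memc).1 ?_
      rw [cimg_conj hξK (mem_compGrp self_mem_compSet), hξg, ← cimg_conj hgK (mem_compGrp self_mem_compSet),
        hga]
      exact (hw.commute_iff_mem ha self_mem_compSet).2 hac
    refine ⟨⟨⟨g * ξ⁻¹, hτK⟩, hτO⟩, Subtype.ext ?_⟩
    show (fun e => g * ξ⁻¹ * e * (g * ξ⁻¹)⁻¹) '' Ecl D c = Ecl D a
    have h1 : a ∈ Ecl D (g * ξ⁻¹ * c * (g * ξ⁻¹)⁻¹) := by
      have h2 := fr.std.ot.conj_mem_Ecl (g * ξ⁻¹) he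
      rwa [show g * ξ⁻¹ * (ξ * c * ξ⁻¹) * (g * ξ⁻¹)⁻¹ = g * c * g⁻¹ by group, hga] at h2
    rw [← fr.std.ot.Ecl_conj, Ecl_eq h1.2]
  haveI : MulAction.IsPretransitive O T := ⟨fun C C' => by
    obtain ⟨σ, rfl⟩ := htrans C
    obtain ⟨τ, rfl⟩ := htrans C'
    exact ⟨τ * σ⁻¹, by rw [mul_smul, inv_smul_smul]⟩⟩
  have hcard : ∃ m, Nat.card T = 2 ^ m := by
    obtain ⟨n, hn⟩ := IsPGroup.iff_card.1 (Cores.isPGroup_pCore 2 ↥K)
    have h1 : Nat.card T ∣ 2 ^ n := by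
      rw [← hn, ← MulAction.index_stabilizer_of_transitive O C₀]
      exact (MulAction.stabilizer O C₀).index_dvd_card
    obtain ⟨m, -, hm⟩ := (Nat.dvd_prime_pow Nat.prime_two).1 h1
    exact ⟨m, hm⟩
  -- a second class
  obtain ⟨y, hy, hyx⟩ := hg
  obtain ⟨g, hgg, hgy⟩ := fr.ghost hA IH hF hy
  obtain ⟨k, hkK, hkg⟩ := hw.exists_conj hgg.1
  obtain ⟨ξ, hξ, hξk⟩ := hcov (cimg D (cen d) c k⁻¹)
  obtain ⟨hξK, hξX⟩ := hX ξ hξ
  set a₁ := ξ * y * ξ⁻¹ with ha₁
  have ha₁x : ¬ Commute a₁ x := fun e => hyx (by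
    have h2 : Commute (ξ * y * ξ⁻¹) (ξ * x * ξ⁻¹) := by
      rwa [conj_eq_of_commute (hξX x mem_rootGen)]
    exact conj_commute_iff.1 h2)
  have ha₁f : a₁ ∈ compA D d c ∧ Commute a₁ c := by
    have e1 : cimg D (cen d) c a₁ =
        (cimg D (cen d) c k)⁻¹ * cimg D (cen d) c y * ((cimg D (cen d) c k)⁻¹)⁻¹ := by
      rw [cimg_conj hξK (mem_compGrp hy), hξk, cimg_inv hkK]
    refine hfib (fr.std.ot.conj ξ y (fr.memA hy).1) (mul_mem (mul_mem hξK (mem_compGrp hy)) (inv_mem hξK))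
      ?_ ?_
    · rw [e1, show cimg D (cen d) c c = (cimg D (cen d) c k)⁻¹ * cimg D (cen d) c g *
          ((cimg D (cen d) c k)⁻¹)⁻¹ by
        rw [← hkg, cimg_conj hkK (mem_compGrp self_mem_compSet)]; group]
      exact conj_commute_iff.2 ((hw.commute_iff_mem hy hgg.1).2 hgy.symm)
    · rw [e1]
      intro h1
      exact hw.cimg_ne_one hy (conj_eq_one_iff.1 h1)
  have hne : (⟨Ecl D a₁, a₁, ha₁f.1, ha₁f.2, rfl⟩ : T) ≠ C₀ := fun e => by
    have e' : Ecl D a₁ = Ecl D c := congrArg Subtype.val e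
    exact ha₁x (commute_Ecl fr.memx (e' ▸ self_mem_Ecl (fr.memA ha₁f.1).1) fr.cx.symm).symm
  -- the other classes are an odd number
  let T' := {C : T // C ≠ C₀}
  have hodd : Odd (Nat.card T') := by
    obtain ⟨m, hm⟩ := hcard
    have hm0 : m ≠ 0 := fun e => by
      haveI : Nontrivial T := ⟨⟨_, _, hne⟩⟩
      have := Finite.one_lt_card (α := T)
      rw [hm, e] at this
      omega
    haveI := Fintype.ofFinite T
    have h1 : Nat.card T' = Nat.card T - 1 := by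
      rw [Nat.card_eq_fintype_card, Nat.card_eq_fintype_card, Fintype.card_subtype_compl,
        Fintype.card_subtype_eq]
    obtain ⟨r, hr⟩ : 2 ∣ 2 ^ m := dvd_pow_self 2 hm0
    have hpos := Nat.one_le_two_pow (n := m)
    exact ⟨r - 1, by omega⟩
  have hPT : ∀ p ∈ P, ∀ C : T, ∃ a, a ∈ compA D d c ∧ Commute a c ∧
      (fun e => p * e * p⁻¹) '' C.1 = Ecl D a := by
    rintro p hp ⟨C, a, ha, hac, rfl⟩
    refine ⟨p * a * p⁻¹, fr.compA_conj (mem_cen.1 (hPd hp)) ha self_mem_compSet (Or.inr ?_), ?_,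
      (fr.std.ot.Ecl_conj p a).symm⟩
    · rw [conj_eq_of_commute (mem_cen.1 (hPc hp))]; exact self_mem_compSet
    · have h2 := (conj_commute_iff (v := p)).2 hac
      rwa [conj_eq_of_commute (mem_cen.1 (hPc hp))] at h2
  have hC₀ : ∀ p ∈ P, (fun e => p * e * p⁻¹) '' Ecl D c = Ecl D c := fun p hp => by
    rw [← fr.std.ot.Ecl_conj, conj_eq_of_commute (mem_cen.1 (hPc hp))]
  letI : MulAction P T' :=
    { smul := fun p C => ⟨⟨(fun e => (p : G) * e * (p : G)⁻¹) '' C.1.1, hPT p p.2 C.1⟩, fun e => C.2 (by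
        have e1 : (fun e => (p : G) * e * (p : G)⁻¹) '' C.1.1 = Ecl D c := congrArg Subtype.val e
        rw [← hC₀ p p.2] at e1
        exact Subtype.ext (Set.image_injective.2 (fun u v h => mul_left_cancel (mul_right_cancel h)) e1))⟩
      one_smul := fun C => Subtype.ext (Subtype.ext (by
        show (fun e => (1 : G) * e * (1 : G)⁻¹) '' C.1.1 = C.1.1
        simp))
      mul_smul := fun p q C => Subtype.ext (Subtype.ext (by
        show (fun e => ((p * q : P) : G) * e * ((p * q : P) : G)⁻¹) '' C.1.1 =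
          (fun e => (p : G) * e * (p : G)⁻¹) '' ((fun e => (q : G) * e * (q : G)⁻¹) '' C.1.1)
        rw [Set.image_image]
        simp only [Subgroup.coe_mul, mul_inv_rev, mul_assoc])) }
  obtain ⟨⟨⟨C, a, ha, hac, rfl⟩, haC⟩, hfix⟩ := hP.nonempty_fixed_point_of_prime_not_dvd_card T'
    (by rw [Nat.two_dvd_ne_zero, ← Nat.odd_iff]; exact hodd)
  obtain ⟨b, hb, hbfix⟩ := exists_fixed_in_class fr.std hP (fr.memA ha).1 fun p hp => by
    have e1 : (fun e => p * e * p⁻¹) '' Ecl D a = Ecl D a :=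
      congrArg (fun C => C.1.1) (hfix ⟨p, hp⟩)
    rw [← fr.std.ot.Ecl_conj] at e1
    exact e1 ▸ self_mem_Ecl (fr.std.ot.conj p a (fr.memA ha).1)
  refine ⟨b, hw.cls_mem ha hb (fr.clsA ha b hb), (commute_Ecl fr.memc hb hac.symm).symm, fun hbc => haC ?_, hbfix⟩
  exact Subtype.ext ((Ecl_eq hb.2).symm.trans (Ecl_eq hbc.2))

/-- The 2-core of `⟨E_d, x⟩` is trivial. -/
theorem pCore_eq_bot (hA : Aschbacher.CoreFreeCriterion.{u}) (IH : NoSzBelow G) (hg : Good D d x c) :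
    pCore 2 ↥(rootGen D d x) = ⊥ := by
  haveI : Fact (Nat.Prime 2) := ⟨Nat.prime_two⟩
  set X := rootGen D d x
  by_contra hne
  obtain ⟨m, hm, hcard⟩ := (Cores.isPGroup_pCore 2 ↥X).nontrivial_iff_card.1
    ((Subgroup.nontrivial_iff_ne_bot _).2 hne)
  obtain ⟨⟨⟨u, huX⟩, huO⟩, hu⟩ := exists_prime_orderOf_dvd_card' (G := pCore 2 ↥X) 2
    (hcard ▸ dvd_pow_self 2 hm.ne')
  have hu2 : orderOf u = 2 := by rw [← hu, ← Subgroup.orderOf_coe, ← Subgroup.orderOf_coe]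
  have hcen := fr.std.pCore_rootGen_le_center fr.memd fr.memx fr.ncomm huO
  have huc : ∀ t ∈ X, Commute u t := fun t ht =>
    (congrArg Subtype.val (Subgroup.mem_center_iff.1 hcen ⟨t, ht⟩)).symm
  have hud : Commute u d := huc d (self_rootGen fr.memd)
  have hcu : Commute c u := fr.commute_X huX
  have hP : IsPGroup 2 (Subgroup.zpowers u) :=
    IsPGroup.of_card (n := 1) (by rw [Nat.card_zpowers, hu2, pow_one])
  obtain ⟨a, ha, hac, haE, hau⟩ := fr.exists_fixed_outside hA IH hg hP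
    (Subgroup.zpowers_le.2 (mem_cen.2 hud)) (Subgroup.zpowers_le.2 (mem_cen.2 hcu.symm))
  have hF := fr.good_flat hA IH hg
  have hax : ¬ Commute a x := fun e =>
    haE ⟨(fr.memA ha).1, fr.uniq hA IH hF fr.self_ghost ⟨ha, e⟩ hac.symm⟩
  obtain ⟨g₀, hg₀, hcg⟩ := fr.exists_ghost_partner hA IH hF
  obtain ⟨w, hw⟩ := fr.exists_descA
  have hde : Desc D (cen u) d x :=
    ⟨fr.std, fr.memd, mem_cen.2 hud.symm, fr.memx, mem_cen.2 (huc x mem_rootGen).symm, fr.ncomm,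
      fun e he => mem_cen.2 (huc e (subset_rootGen he)).symm⟩
  have haC : a ∈ compSet D (cen u) d :=
    hde.extend hde.x_mem (fr.memA ha).1 (mem_cen.2 (hau u (Subgroup.mem_zpowers u)).symm) fun e => hax e.symm
  have hgC : g₀ ∈ compSet D (cen u) d := hde.extend haC (fr.memA hg₀.1).1
    (mem_cen.2 (fr.ghost_X hg₀ huX)) fun e =>
      hcg (hw.flat_trans hF ha hg₀.1 self_mem_compSet e hac.symm)
  have hcC : c ∈ compSet D (cen u) d := hde.extend hgC fr.memc (mem_cen.2 hcu) fun e => hcg e.symm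
  have hFu := hde.flatSz hA IH (fr.std.cen_ne_top (Involution.mul_self hu2) (Involution.ne_one hu2))
    self_mem_compSet hde.x_mem hde.cls fr.sz
  exact fr.ncomm (hde.flat_trans hFu hcC hde.x_mem self_mem_compSet fr.cx fr.cd.symm)

/-- The centraliser of `d` in `⟨E_d, x⟩`. -/
theorem exists_sylow (hA : Aschbacher.CoreFreeCriterion.{u}) (IH : NoSzBelow G) (hg : Good D d x c) :
    ∃ S : Subgroup G, S ≤ rootGen D d x ∧ S ≤ cen d ∧ IsPGroup 2 S ∧
      Nat.card S = ((Ecl D d).ncard + 1) ^ 2 ∧ (∃ s ∈ S, ∃ t ∈ S, ¬ Commute s t) ∧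
      (∀ s ∈ S, ∀ e ∈ Ecl D d, Commute s e) ∧
      ∀ s ∈ S, s ≠ 1 → ∃ j : ℕ, s ^ j ∈ Ecl D d := by
  haveI : Fact (Nat.Prime 2) := ⟨Nat.prime_two⟩
  have hd := fr.memd
  set X := rootGen D d x with hX
  obtain ⟨-, hQ⟩ := (fr.std.rootGen_cases hA fr.memd fr.memx fr.ncomm).resolve_left (by
    rintro ⟨F, _, _, hch, -, ⟨ψ⟩⟩
    haveI := hch
    exact fr.std.not_szPair_of_l2 (fr.std.l2Facts_rootGen ψ) fr.sz)
  have hXf : SzFacts ↥X ((Ecl D d).ncard + 1) :=
    hQ.of_equiv ((QuotientGroup.quotientMulEquivOfEq (fr.pCore_eq_bot hA IH hg)).trans QuotientGroup.quotientBot)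
  let dX : ↥X := ⟨d, self_rootGen hd⟩
  have hd2 : orderOf dX = 2 := by rw [← Subgroup.orderOf_coe]; exact fr.std.ot.inv d hd
  refine ⟨X ⊓ cen d, inf_le_left, inf_le_right, ?_⟩
  let φ : ↥(X ⊓ cen d) ≃ Subgroup.centralizer ({dX} : Set ↥X) :=
    { toFun := fun s => ⟨⟨s.1, s.2.1⟩, Subgroup.mem_centralizer_singleton_iff.2
        (Subtype.ext (mem_cen.1 s.2.2).eq)⟩
      invFun := fun s => ⟨s.1.1, s.1.2,
        mem_cen.2 (congrArg Subtype.val (Subgroup.mem_centralizer_singleton_iff.1 s.2))⟩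
      left_inv := fun s => rfl
      right_inv := fun s => rfl }
  have hcard : Nat.card ↥(X ⊓ cen d) = ((Ecl D d).ncard + 1) ^ 2 := by
    rw [Nat.card_congr φ, hXf.card_cent _ hd2]
  obtain ⟨-, k, hk⟩ := even_ncard_Ecl_add_one fr.std hd
  refine ⟨IsPGroup.of_card (n := k * 2) (by rw [hcard, hk, pow_mul]), hcard, ?_, ?_, ?_⟩
  · obtain ⟨a, b, ha, hb, hab⟩ := hXf.nonab _ hd2
    exact ⟨a.1, ⟨a.2, mem_cen.2 (congrArg Subtype.val ha.symm.eq)⟩, b.1,
      ⟨b.2, mem_cen.2 (congrArg Subtype.val hb.symm.eq)⟩, fun e => hab (Subtype.ext e.eq)⟩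
  · intro s hs e he
    have heX : orderOf (⟨e, subset_rootGen he⟩ : ↥X) = 2 := by
      rw [← Subgroup.orderOf_coe]; exact fr.std.ot.inv e he.1
    exact (hXf.central dX ⟨e, subset_rootGen he⟩ ⟨s, hs.1⟩ hd2 heX
      (Subtype.ext (commute_of_mem_Ecl he (self_mem_Ecl hd)).eq) (Subtype.ext (mem_cen.1 hs.2).eq)).map X.subtype
  · intro s hs hs1
    have hS : IsPGroup 2 ↥(X ⊓ cen d) := IsPGroup.of_card (n := k * 2) (by rw [hcard, hk, pow_mul])
    obtain ⟨j, hj⟩ := IsPGroup.iff_orderOf.1 hS ⟨s, hs⟩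
    rw [Subgroup.orderOf_mk] at hj
    have hj0 : j ≠ 0 := fun e => hs1 (orderOf_eq_one_iff.1 (by rw [hj, e, pow_zero]))
    refine ⟨2 ^ (j - 1), ?_⟩
    have ho : orderOf (s ^ 2 ^ (j - 1)) = 2 := by
      rw [orderOf_pow' s (pow_ne_zero _ two_ne_zero), hj,
        Nat.gcd_eq_right (pow_dvd_pow 2 (Nat.sub_le j 1)), Nat.pow_div (Nat.sub_le j 1) two_pos,
        Nat.sub_sub_self (Nat.one_le_iff_ne_zero.2 hj0), pow_one]
    let uX : ↥X := ⟨s ^ 2 ^ (j - 1), pow_mem hs.1 _⟩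
    obtain ⟨g, hg'⟩ := isConj_iff.1 (hXf.conj dX uX hd2 (by rw [← Subgroup.orderOf_coe]; exact ho))
    have hD' : s ^ 2 ^ (j - 1) ∈ D := by
      have e : (g : G) * d * (g : G)⁻¹ = s ^ 2 ^ (j - 1) := congrArg Subtype.val hg'
      exact e ▸ fr.std.ot.conj _ d hd
    exact fr.std.mem_Ecl_of_rootGen hd fr.memx fr.ncomm hD' uX.2 ((mem_cen.1 hs.2).pow_left _)

end Frame

end Cfsg.Agent.OddTrans
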