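/-
With a connected commuting graph there are no Suzuki pairs (owner: helper28).

Main result (namespace `Cfsg.Agent.OddTrans`): `no_szPair`.
-/
import Cfsg.Agent.Lib.OddTrans.Fibre

set_option autoImplicit false
set_option linter.unusedSectionVars false
set_option linter.style.haveILetI false

namespace Cfsg.Agent.OddTrans

open Cfsg

universe u

attribute [local instance] Cores.pCore_normal

section act

variable {G : Type u} [Group G] {D : Set G} {H : Subgroup G} {d : G}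

/-- Conjugation by a normalising element respects the quotient map. -/
theorem cimg_conj_congr {p : G} (hp : ∀ k ∈ compGrp D H d, p * k * p⁻¹ ∈ compGrp D H d)
    (hp' : ∀ k ∈ compGrp D H d, p⁻¹ * k * p ∈ compGrp D H d) {a b : G} (ha : a ∈ compGrp D H d)
    (hb : b ∈ compGrp D H d) (h : cimg D H d a = cimg D H d b) :
    cimg D H d (p * a * p⁻¹) = cimg D H d (p * b * p⁻¹) := by
  set K := compGrp D H d
  let σ : ↥K ≃* ↥K :=
    { toFun := fun k => ⟨p * k.1 * p⁻¹, hp k.1 k.2⟩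
      invFun := fun k => ⟨p⁻¹ * k.1 * p, hp' k.1 k.2⟩
      left_inv := fun k => Subtype.ext (by
        show p⁻¹ * (p * k.1 * p⁻¹) * p = k.1
        group)
      right_inv := fun k => Subtype.ext (by
        show p * (p⁻¹ * k.1 * p) * p⁻¹ = k.1
        group)
      map_mul' := fun k l => Subtype.ext (by
        show p * (k.1 * l.1) * p⁻¹ = p * k.1 * p⁻¹ * (p * l.1 * p⁻¹)
        group) }
  have hO : (pCore 2 ↥K).map σ.toMonoidHom ≤ pCore 2 ↥K :=
    Cores.le_pCore (Subgroup.Normal.map (Cores.pCore_normal 2 ↥K) _ σ.surjective)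
      ((Cores.isPGroup_pCore 2 ↥K).map _)
  rw [cimg_mk ha, cimg_mk hb, QuotientGroup.mk'_apply, QuotientGroup.mk'_apply, QuotientGroup.eq] at h
  rw [cimg_mk (hp a ha), cimg_mk (hp b hb), QuotientGroup.mk'_apply, QuotientGroup.mk'_apply,
    QuotientGroup.eq]
  have h2 := hO (Subgroup.mem_map_of_mem σ.toMonoidHom h)
  rwa [map_mul, map_inv] at h2

end act

variable {G : Type u} [Group G] [Finite G] {D : Set G}

namespace Frame

variable {d x c : G}

theorem false_of_frame (fr : Frame D d x c) (hA : Aschbacher.CoreFreeCriterion.{u}) (IH : NoSzBelow G)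
    (hconn : IsConnectedSet (CommAdj D) D) : False := by
  classical
  haveI : Fact (Nat.Prime 2) := ⟨Nat.prime_two⟩
  have hg := fr.good hA IH hconn
  have hF := fr.good_flat hA IH hg
  obtain ⟨g₀, hg₀, hcg, hX, -⟩ := fr.exists_cover hA IH hF
  obtain ⟨w, hw⟩ := fr.exists_descA
  obtain ⟨hg₀D, hg₀d⟩ := fr.memA hg₀.1
  have hszc : SzPair D c g₀ :=
    hw.szPair_of_flat hA hF self_mem_compSet hg₀.1 hcg (fr.clsA hg₀.1)
  have fr1 : Frame D c g₀ d := ⟨fr.std, hszc, fr.memd, fr.cd.symm, hg₀d.symm⟩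
  obtain ⟨S, hSX, hSd, hS2, hScard, ⟨s₁, hs₁, s₂, hs₂, hs12⟩, hSe, hSpow⟩ := fr.exists_sylow hA IH hg
  obtain ⟨S', hS'X, hS'c, hS'2, hS'card, -, hS'e, hS'pow⟩ :=
    fr1.exists_sylow hA IH (fr1.good hA IH hconn)
  have hSS' : ∀ s ∈ S, ∀ t ∈ S', Commute s t := fun s hs t ht =>
    ((hX t (hS'X ht)).2 s (hSX hs)).symm
  -- the 2-group `S S'`
  set Sg := S ⊔ S' with hSgdef
  have hnorm : S ≤ Subgroup.normalizer (S' : Set G) := fun s hs =>
    Subgroup.centralizer_le_normalizer _ (Subgroup.mem_centralizer_iff.2 fun t ht => (hSS' s hs t ht).symm.eq)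
  have hSg2 : IsPGroup 2 Sg := hS2.to_sup_of_normal_right' hS'2 hnorm
  have hSgd : Sg ≤ cen d :=
    sup_le hSd fun t ht => mem_cen.2 ((hX t (hS'X ht)).2 d (self_rootGen fr.memd))
  have hSgc : Sg ≤ cen c := sup_le (fun s hs => mem_cen.2 (fr.commute_X (hSX hs)).symm) hS'c
  obtain ⟨a, ha, hac, haE, haSg⟩ := fr.exists_fixed_outside hA IH hg hSg2 hSgd hSgc
  have hax : ¬ Commute a x := fun e =>
    haE ⟨(fr.memA ha).1, fr.uniq hA IH hF fr.self_ghost ⟨ha, e⟩ hac.symm⟩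
  obtain ⟨haD, had⟩ := fr.memA ha
  have hszax : SzPair D a x := fr.std.szPair_of_adj hA IH fr.sz haD had (fr.notMem_Ecl_d ha) hax
  have fr2 : Frame D a x c := ⟨fr.std, hszax, fr.memc, hac.symm, fr.cx⟩
  have hF2 := fr2.good_flat hA IH (fr2.good hA IH hconn)
  obtain ⟨z, hz, hcz⟩ := fr2.exists_ghost_partner hA IH hF2
  obtain ⟨hzD, hza⟩ := fr2.memA hz.1
  obtain ⟨w2, hw2⟩ := fr2.exists_descA
  have hzd : ¬ Commute z d := fun e => by
    have hzA : z ∈ compA D d c := hw.extend self_mem_compSet hzD (mem_cen.2 e) hcz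
    exact hcz (hw.flat_trans hF ha self_mem_compSet hzA hac hza).symm
  have hd2 : d ∈ compA D a c := hw2.extend hz.1 fr.memd (mem_cen.2 had.symm) hzd
  set K := compGrp D (cen a) c with hK
  set π := cimg D (cen a) c with hπ
  -- `S S'` normalises the component
  have hpK : ∀ p ∈ Sg, ∀ k ∈ K, p * k * p⁻¹ ∈ K := by
    intro p hp k hk
    have hle : K ≤ K.comap (MulAut.conj p).toMonoidHom := by
      refine (Subgroup.closure_le _).2 fun y hy => ?_
      show p * y * p⁻¹ ∈ K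
      refine mem_compGrp (fr2.compA_conj (haSg p hp) hy self_mem_compSet (Or.inr ?_))
      rw [conj_eq_of_commute (mem_cen.1 (hSgc hp))]
      exact self_mem_compSet
    exact hle hk
  have hpK' : ∀ p ∈ Sg, ∀ k ∈ K, p⁻¹ * k * p ∈ K := fun p hp k hk => by
    have := hpK p⁻¹ (inv_mem hp) k hk
    rwa [inv_inv] at this
  have hcongr : ∀ p ∈ Sg, ∀ {u v : G}, u ∈ K → v ∈ K → π u = π v →
      π (p * u * p⁻¹) = π (p * v * p⁻¹) := fun p hp _ _ hu hv h =>
    cimg_conj_congr (hpK p hp) (hpK' p hp) hu hv h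
  have hSgcls : ∀ p ∈ Sg, ∀ e ∈ Ecl D d, Commute p e := by
    intro p hp e he
    have hle : Sg ≤ cen e := sup_le (fun s hs => mem_cen.2 (hSe s hs e he)) fun t ht =>
      mem_cen.2 ((hX t (hS'X ht)).2 e (subset_rootGen he))
    exact mem_cen.1 (hle hp)
  -- fixing a second fibre means acting trivially
  have htriv : ∀ r ∈ Sg, Commute (r * z * r⁻¹) z → ∀ k ∈ K, π (r * k * r⁻¹) = π k := by
    intro r hr hrz
    set E := Ecl D z with hE
    have hEK : ∀ e ∈ E, e ∈ K := fun e he => mem_compGrp (hw2.cls_mem hz.1 he (fr2.clsA hz.1 e he))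
    have hzmem : r * z * r⁻¹ ∈ compA D a c := by
      refine fr2.compA_conj (haSg r hr) hz.1 self_mem_compSet (Or.inr ?_)
      rw [conj_eq_of_commute (mem_cen.1 (hSgc hr))]
      exact self_mem_compSet
    have hEcl : Ecl (cD D (cen a) c) (π (r * z * r⁻¹)) = Ecl (cD D (cen a) c) (π z) :=
      hF2.flat.class_eq (hw2.cimg_mem hz.1) (hw2.cimg_mem hzmem)
        ((hw2.commute_iff_mem hz.1 hzmem).2 hrz.symm)
    have hf : ∀ e ∈ E, ∃ e' ∈ E, π e' = π (r * e * r⁻¹) := by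
      intro e he
      have h1 : π (r * e * r⁻¹) ∈ Ecl (cD D (cen a) c) (π z) := by
        rw [← hEcl]
        exact hw2.cimg_Ecl hzmem (fr.std.ot.conj_mem_Ecl r he)
          (mem_cen.2 (commute_Ecl haD (fr.std.ot.conj_mem_Ecl r he) (fr2.memA hzmem).2.symm).symm)
      rw [hπ, fr2.full hA IH hF2 hz.1] at h1
      obtain ⟨e', he', h2⟩ := h1
      exact ⟨e', he', h2⟩
    choose f hfE hf using hf
    let F : {e : G // e ∈ E} → {e : G // e ∈ E} := fun e => ⟨f e.1 e.2, hfE e.1 e.2⟩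
    have hiter : ∀ (n : ℕ) (e : {e : G // e ∈ E}), π (F^[n] e).1 = π (r ^ n * e.1 * (r ^ n)⁻¹) := by
      intro n
      induction n with
      | zero => intro e; simp
      | succ n ih =>
        intro e
        rw [Function.iterate_succ_apply']
        show π (f _ _) = _
        rw [hf, hcongr r hr (hEK _ (F^[n] e).2) (hpK _ (pow_mem hr n) _ (hEK _ e.2)) (ih e)]
        congr 1
        rw [pow_succ']
        group
    obtain ⟨m, hm⟩ := hSg2 ⟨r, hr⟩
    replace hm : r ^ 2 ^ m = 1 := congrArg Subtype.val hm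
    have hper : F^[2 ^ m] = id := funext fun e => Subtype.ext (hw2.cimg_injOn hz.1 (fr2.clsA hz.1)
      (F^[2 ^ m] e).2 e.2 (by
        show π _ = π e.1
        rw [hiter, hm, one_mul, inv_one, mul_one]))
    obtain ⟨e₁, he₁⟩ : ∃ e, F e = e := by
      haveI := Fintype.ofFinite {e : G // e ∈ E}
      by_contra hno
      push Not at hno
      have h1 : Fintype.card {e : G // e ∈ E} ≡ Fintype.card (Function.fixedPoints F) [MOD 2] :=
        Equiv.Perm.card_fixedPoints_modEq (f := F) (p := 2) (n := m) hper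
      have h2 : Fintype.card (Function.fixedPoints F) = 0 :=
        Fintype.card_eq_zero_iff.2 ⟨fun e => hno e.1 e.2⟩
      rw [h2] at h1
      have h3 := (even_ncard_Ecl_add_one fr.std hzD).1
      rw [← Nat.card_coe_set_eq, Nat.card_eq_fintype_card, Nat.odd_iff] at h3
      exact one_ne_zero (h3.symm.trans h1)
    have hfix₁ : π (r * e₁.1 * r⁻¹) = π e₁.1 :=
      (hf e₁.1 e₁.2).symm.trans (congrArg (fun e => π e.1) he₁)
    -- the fixed elements
    let T : Subgroup (CQ D (cen a) c) :=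
      { carrier := {t | ∃ k ∈ K, π k = t ∧ π (r * k * r⁻¹) = π k}
        one_mem' := ⟨1, one_mem _, cimg_one, by rw [mul_one, mul_inv_cancel]⟩
        mul_mem' := by
          rintro _ _ ⟨k, hk, rfl, hk'⟩ ⟨l, hl, rfl, hl'⟩
          refine ⟨k * l, mul_mem hk hl, cimg_mul hk hl, ?_⟩
          rw [show r * (k * l) * r⁻¹ = r * k * r⁻¹ * (r * l * r⁻¹) by group]
          simp only [hπ] at hk' hl' ⊢
          rw [cimg_mul (hpK r hr k hk) (hpK r hr l hl), hk', hl', cimg_mul hk hl]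
        inv_mem' := by
          rintro _ ⟨k, hk, rfl, hk'⟩
          refine ⟨k⁻¹, inv_mem hk, cimg_inv hk, ?_⟩
          rw [show r * k⁻¹ * r⁻¹ = (r * k * r⁻¹)⁻¹ by group]
          simp only [hπ] at hk' ⊢
          rw [cimg_inv (hpK r hr k hk), hk', cimg_inv hk] }
    have he₁A : e₁.1 ∈ compA D a c := hw2.cls_mem hz.1 e₁.2 (fr2.clsA hz.1 _ e₁.2)
    have hnc : ¬ Commute (π d) (π e₁.1) := fun e =>
      not_commute_Ecl fr.memd e₁.2 (fun e' => hzd e'.symm) ((hw2.commute_iff_mem hd2 he₁A).1 e)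
    have htop : T = ⊤ := by
      rw [eq_top_iff, ← hF2.generate (hw2.cimg_mem hd2) (hw2.cimg_mem he₁A) hnc, rootGen,
        Subgroup.closure_le, fr2.full hA IH hF2 hd2]
      rintro _ (⟨e, he, rfl⟩ | rfl)
      · exact ⟨e, mem_compGrp (hw2.cls_mem hd2 he (fr2.clsA hd2 e he)), rfl,
          by rw [conj_eq_of_commute (hSgcls r hr e he)]⟩
      · exact ⟨e₁.1, mem_compGrp he₁A, rfl, hfix₁⟩
    intro k hk
    obtain ⟨k', hk', he, hfk⟩ := (htop ▸ Subgroup.mem_top (π k) : π k ∈ T)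
    rw [hcongr r hr hk hk' he.symm, hfk, he]
  -- conjugates of the second fibre
  set B₀ := Ecl (cD D (cen a) c) (π d) with hB₀
  set Φ : G → Set (CQ D (cen a) c) := fun p => Ecl (cD D (cen a) c) (π (p * z * p⁻¹)) with hΦ
  have hzp : ∀ p ∈ Sg, p * z * p⁻¹ ∈ compA D a c := by
    intro p hp
    refine fr2.compA_conj (haSg p hp) hz.1 self_mem_compSet (Or.inr ?_)
    rw [conj_eq_of_commute (mem_cen.1 (hSgc hp))]
    exact self_mem_compSet
  have hsame : ∀ p ∈ Sg, ∀ q ∈ Sg, Φ p = Φ q → ∀ k ∈ K, π (p * k * p⁻¹) = π (q * k * q⁻¹) := by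
    intro p hp q hq h k hk
    have h1 : π (p * z * p⁻¹) ∈ Φ q := h ▸ self_mem_Ecl (hw2.cimg_mem (hzp p hp))
    have h2 : Commute (p * z * p⁻¹) (q * z * q⁻¹) := ((hw2.commute_iff_mem (hzp q hq) (hzp p hp)).1
      (commute_of_mem_Ecl (self_mem_Ecl (hw2.cimg_mem (hzp q hq))) h1)).symm
    have h3 : Commute (q⁻¹ * p * z * (q⁻¹ * p)⁻¹) z := by
      rw [← conj_commute_iff (v := q),
        show q * (q⁻¹ * p * z * (q⁻¹ * p)⁻¹) * q⁻¹ = p * z * p⁻¹ by group]
      exact h2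
    have hr : q⁻¹ * p ∈ Sg := mul_mem (inv_mem hq) hp
    have h4 := hcongr q hq (hpK _ hr k hk) hk (htriv _ hr h3 k hk)
    rwa [show q * (q⁻¹ * p * k * (q⁻¹ * p)⁻¹) * q⁻¹ = p * k * p⁻¹ by group] at h4
  have hkill : ∀ s ∈ Sg, ∀ e, (∃ j : ℕ, s ^ j = e) → ¬ Commute e z → e ∈ D →
      (∀ k ∈ K, π (s * k * s⁻¹) = π k) → False := by
    rintro s hs e ⟨j, rfl⟩ hez heD htr
    have hzK : z ∈ K := mem_compGrp hz.1
    have hj : ∀ i : ℕ, π (s ^ i * z * (s ^ i)⁻¹) = π z := by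
      intro i
      induction i with
      | zero => simp
      | succ i ih =>
        rw [show s ^ (i + 1) * z * (s ^ (i + 1))⁻¹ = s * (s ^ i * z * (s ^ i)⁻¹) * s⁻¹ by
          rw [pow_succ']; group, htr _ (hpK _ (pow_mem hs i) z hzK), ih]
    have hmem := hzp _ (pow_mem hs j)
    have h1 : Commute (π (s ^ j * z * (s ^ j)⁻¹)) (π z) := (hj j).symm ▸ Commute.refl _
    have h2 := (hw2.commute_iff_mem hmem hz.1).1 h1
    rw [fr.std.ot.inv_eq heD] at h2
    exact hez (fr.std.ot.commute_of_conj hzD heD h2.symm).symm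
  have hEd : ∀ e ∈ Ecl D d, ¬ Commute e z := fun e he c' =>
    hzd ((he.2 z hzD).2 c'.symm)
  have hEc : ∀ e ∈ Ecl D c, ¬ Commute e z := fun e he c' =>
    hcz ((he.2 z hzD).2 c'.symm).symm
  -- the orbit
  set Tgt := (Ecl (cD D (cen a) c) '' cD D (cen a) c) \ {B₀} with hTgt
  have hTcard : Tgt.ncard = ((Ecl D d).ncard + 1) ^ 2 := by
    have hB₀mem : B₀ ∈ Ecl (cD D (cen a) c) '' cD D (cen a) c := ⟨_, hw2.cimg_mem hd2, rfl⟩
    rw [hTgt, Set.ncard_sdiff_singleton_of_mem hB₀mem,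
      hF2.card_classes (hw2.cimg_mem hd2), fr2.full hA IH hF2 hd2,
      (hw2.cimg_injOn hd2 (fr2.clsA hd2)).ncard_image, Nat.add_sub_cancel]
  have hΦmem : ∀ p ∈ Sg, Φ p ∈ Tgt := by
    intro p hp
    refine ⟨⟨_, hw2.cimg_mem (hzp p hp), rfl⟩, fun e => ?_⟩
    rw [Set.mem_singleton_iff] at e
    have h1 : π (p * z * p⁻¹) ∈ B₀ := e ▸ self_mem_Ecl (hw2.cimg_mem (hzp p hp))
    have h2 := (hw2.commute_iff_mem hd2 (hzp p hp)).1
      (commute_of_mem_Ecl (self_mem_Ecl (hw2.cimg_mem hd2)) h1)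
    have hpd : Commute p d := mem_cen.1 (hSgd hp)
    rw [← conj_eq_of_commute hpd] at h2
    exact hzd (conj_commute_iff.1 h2).symm
  have hsurj : ∀ (R : Subgroup G), R ≤ Sg → Nat.card R = ((Ecl D d).ncard + 1) ^ 2 →
      (∀ s ∈ R, s ≠ 1 → ∃ e, (∃ j : ℕ, s ^ j = e) ∧ ¬ Commute e z ∧ e ∈ D) →
      Set.InjOn Φ R ∧ Φ '' R = Tgt := by
    intro R hR hRc hRp
    have hinj : Set.InjOn Φ R := by
      intro s hs t ht h
      by_contra hne
      obtain ⟨e, hj, hez, heD⟩ := hRp (t⁻¹ * s) (mul_mem (inv_mem ht) hs) fun e =>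
        hne (by rw [inv_mul_eq_one] at e; exact e.symm)
      refine hkill _ (hR (mul_mem (inv_mem ht) hs)) e hj hez heD fun k hk => ?_
      have h1 := hsame s (hR hs) t (hR ht) h k hk
      have h2 := hcongr t⁻¹ (inv_mem (hR ht)) (hpK _ (hR hs) k hk) (hpK _ (hR ht) k hk) h1
      rw [show t⁻¹ * (s * k * s⁻¹) * t⁻¹⁻¹ = t⁻¹ * s * k * (t⁻¹ * s)⁻¹ by group,
        show t⁻¹ * (t * k * t⁻¹) * t⁻¹⁻¹ = k by group] at h2
      exact h2
    refine ⟨hinj, Set.eq_of_subset_of_ncard_le (by rintro _ ⟨p, hp, rfl⟩; exact hΦmem p (hR hp)) ?_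
      (Set.toFinite _)⟩
    rw [hTcard, hinj.ncard_image, ← Nat.card_coe_set_eq]
    exact hRc.ge
  obtain ⟨hinjS, -⟩ := hsurj S le_sup_left hScard fun s hs h1 => by
    obtain ⟨j, hj⟩ := hSpow s hs h1
    exact ⟨_, ⟨j, rfl⟩, hEd _ hj, hj.1⟩
  obtain ⟨-, hS'img⟩ := hsurj S' le_sup_right
    (hS'card.trans (by rw [fr.std.card_Ecl fr.memc fr.memd])) fun s hs h1 => by
    obtain ⟨j, hj⟩ := hS'pow s hs h1
    exact ⟨_, ⟨j, rfl⟩, hEc _ hj, hj.1⟩
  -- the action of `S` is abelian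
  have hmem₁ : s₁ ∈ Sg := Subgroup.mem_sup_left hs₁
  have hmem₂ : s₂ ∈ Sg := Subgroup.mem_sup_left hs₂
  obtain ⟨t, ht, htΦ⟩ : Φ s₂ ∈ Φ '' (S' : Set G) := hS'img.symm ▸ hΦmem s₂ hmem₂
  have ht' : t ∈ Sg := Subgroup.mem_sup_right ht
  have hact := hsame t ht' s₂ hmem₂ htΦ
  have hkey : ∀ k ∈ K, π (s₁ * s₂ * k * (s₁ * s₂)⁻¹) = π (s₂ * s₁ * k * (s₂ * s₁)⁻¹) := by
    intro k hk
    have h1 : π (s₁ * (s₂ * k * s₂⁻¹) * s₁⁻¹) = π (s₁ * (t * k * t⁻¹) * s₁⁻¹) :=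
      hcongr s₁ hmem₁ (hpK _ hmem₂ k hk) (hpK _ ht' k hk) (hact k hk).symm
    rw [show s₁ * s₂ * k * (s₁ * s₂)⁻¹ = s₁ * (s₂ * k * s₂⁻¹) * s₁⁻¹ by group, h1,
      show s₁ * (t * k * t⁻¹) * s₁⁻¹ = (s₁ * t) * k * (s₁ * t)⁻¹ by group, (hSS' s₁ hs₁ t ht).eq,
      show (t * s₁) * k * (t * s₁)⁻¹ = t * (s₁ * k * s₁⁻¹) * t⁻¹ by group,
      show s₂ * s₁ * k * (s₂ * s₁)⁻¹ = s₂ * (s₁ * k * s₁⁻¹) * s₂⁻¹ by group]
    exact hact _ (hpK _ hmem₁ k hk)
  refine hs12 (hinjS (mul_mem hs₁ hs₂) (mul_mem hs₂ hs₁) ?_)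
  show Ecl _ (π _) = Ecl _ (π _)
  rw [hkey z (mem_compGrp hz.1)]

end Frame

/-- **No Suzuki pairs with a connected commuting graph.** -/
theorem no_szPair (hA : Aschbacher.CoreFreeCriterion.{u}) :
    ∀ (n : ℕ) (G : Type u) [Group G] [Finite G], Nat.card G = n → ∀ D : Set G, Std D →
      IsConnectedSet (CommAdj D) D → ∀ d x : G, ¬ SzPair D d x := by
  intro n
  induction n using Nat.strong_induction_on with
  | _ n IH =>
    intro G _ _ hn D h hconn d x hsz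
    have IH' : NoSzBelow G := fun Q _ _ hlt => IH (Nat.card Q) (hn ▸ hlt) Q rfl
    obtain ⟨d', x', c', fr⟩ := h.exists_frame hA IH' hconn hsz
    exact fr.false_of_frame hA IH' hconn

end Cfsg.Agent.OddTrans
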