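/-
A class of odd transpositions with connected commuting graph (owner: helper28).

Main results (namespace `Cfsg.Agent.OddTrans`):
* `Std.rootGen_l2` : `⟨E_d, x⟩` is `L₂(|E_d| + 1)`
* `Std.exists_common` : two members commute with a third one
-/
import Cfsg.Agent.Lib.OddTrans.NoSuzuki

set_option autoImplicit false
set_option linter.unusedSectionVars false
set_option linter.style.haveILetI false

namespace Cfsg.Agent.OddTrans

open Cfsg

universe u

attribute [local instance] Cores.pCore_normal

variable {G : Type u} [Group G] [Finite G] {D : Set G}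

namespace Std

variable (h : Std D)
include h

theorem rootGen_l2 (hA : Aschbacher.CoreFreeCriterion.{u}) (hc : IsConnectedSet (CommAdj D) D) {d x : G}
    (hd : d ∈ D) (hx : x ∈ D) (hdx : ¬ Commute d x) :
    ∃ (F : Type) (_ : Field F) (_ : Fintype F),
      Fintype.card F = Nat.card ↥(Subgroup.closure (Ecl D d)) ∧
      Nonempty (↥(rootGen D d x) ≃* Matrix.ProjectiveSpecialLinearGroup (Fin 2) F) := by
  have hcard : Nat.card ↥(Subgroup.closure (Ecl D d)) = (Ecl D d).ncard + 1 := by
    rw [← SetLike.coe_sort_coe, Nat.card_coe_set_eq, h.coe_closure_Ecl hd,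
      Set.union_singleton, Set.ncard_insert_of_notMem fun h1 => Involution.ne_one (h.ot.inv 1 h1.1) rfl]
  rcases h.rootGen_cases hA hd hx hdx with ⟨F, i1, i2, -, hF, hψ⟩ | ⟨hsz, -⟩
  · exact ⟨F, i1, i2, hF.trans hcard.symm, hψ⟩
  · exact absurd hsz (no_szPair hA _ G rfl D h hc d x)

theorem exists_braid (hA : Aschbacher.CoreFreeCriterion.{u}) (hc : IsConnectedSet (CommAdj D) D) {d x : G}
    (hd : d ∈ D) (hx : x ∈ D) (hdx : ¬ Commute d x) :
    ∃ x' ∈ Ecl D x, d * x' * d = x' * d * x' := by
  obtain ⟨x', hx', h3, -⟩ := h.exists_three hA hd hx hdx (no_szPair hA _ G rfl D h hc d x)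
  refine ⟨x', hx', ?_⟩
  have h1 : d * x' * d * (x' * d * x') = 1 := by rw [← h3]; group
  rw [mul_eq_one_iff_eq_inv] at h1
  rw [h1, mul_inv_rev, mul_inv_rev, h.ot.inv_eq hd, h.ot.inv_eq hx'.1, mul_assoc]

theorem exists_common (hA : Aschbacher.CoreFreeCriterion.{u}) (hc : IsConnectedSet (CommAdj D) D) {d x : G}
    (hd : d ∈ D) (hx : x ∈ D) (hdx : ¬ Commute d x) : ∃ e ∈ D, Commute e d ∧ Commute e x := by
  have hcore : ∀ {d a b x : G}, d ∈ D → a ∈ D → b ∈ D → x ∈ D → Commute a d → Commute a b → Commute b x →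
      ¬ Commute d b → ¬ Commute d x → ∃ e ∈ D, Commute e d ∧ Commute e x := by
    intro d a b x hd ha hb hx had hab hbx hdb hdx
    obtain ⟨x', hx', hdx'⟩ := h.exists_braid hA hc hd hx hdx
    obtain ⟨b', hb', hdb'⟩ := h.exists_braid hA hc hd hb hdb
    have hb'x : Commute b' x' := commute_Ecl hb'.1 hx' (commute_Ecl hx hb' hbx.symm).symm
    have hb'a : Commute b' a := (commute_Ecl ha hb' hab).symm
    refine ⟨b' * (d * (x' * a * x') * d) * b', h.ot.conj' (h.ot.mul_self hb'.1)
      (h.ot.conj' (h.ot.mul_self hd) (h.ot.conj' (h.ot.mul_self hx'.1) ha)), ?_, ?_⟩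
    · refine (commute_of_conj_eq ?_).symm
      rw [h.ot.inv_eq hd]
      calc d * (b' * (d * (x' * a * x') * d) * b') * d
          = (d * b' * d) * (x' * a * x') * (d * b' * d) := by group
        _ = b' * d * (b' * x') * a * (x' * b') * d * b' := by rw [hdb']; group
        _ = b' * d * (x' * b') * a * (b' * x') * d * b' :=
            congrArg₂ (fun u v => b' * d * u * a * v * d * b') hb'x.eq hb'x.eq.symm
        _ = b' * d * (x' * (b' * a) * b' * x') * d * b' := by group
        _ = b' * (d * (x' * a * x') * d) * b' := by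
            rw [hb'a.eq, show x' * (a * b') * b' * x' = x' * a * (b' * b') * x' by group,
              h.ot.mul_self hb'.1, mul_one]
            group
    · have he : b' * (d * (x' * a * x') * d) * b' ∈ D := h.ot.conj' (h.ot.mul_self hb'.1)
        (h.ot.conj' (h.ot.mul_self hd) (h.ot.conj' (h.ot.mul_self hx'.1) ha))
      refine (hx'.2 _ he).2 (commute_of_conj_eq ?_).symm
      rw [h.ot.inv_eq hx'.1]
      calc x' * (b' * (d * (x' * a * x') * d) * b') * x'
          = (x' * b') * (d * x') * a * (x' * d) * (b' * x') := by group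
        _ = (b' * x') * (d * x') * a * (x' * d) * (x' * b') :=
            congrArg₂ (fun u v => u * (d * x') * a * (x' * d) * v) hb'x.eq.symm hb'x.eq
        _ = b' * (x' * d * x') * a * (x' * d * x') * b' := by group
        _ = b' * (d * x') * (d * a) * (d * x' * d) * b' := by rw [← hdx']; group
        _ = b' * (d * (x' * a * x') * d) * b' := by
            rw [← had.eq, show b' * (d * x') * (a * d) * (d * x' * d) * b' =
                b' * (d * x' * a * (d * d) * x' * d) * b' by group, h.ot.mul_self hd, mul_one]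
            group
  suffices ∀ {a b : G}, Relation.ReflTransGen (CommAdj D) a b → ¬ Commute a b →
      ∃ e ∈ D, Commute e a ∧ Commute e b from this (hc d hd x hx) hdx
  intro a b hab
  induction hab using Relation.ReflTransGen.head_induction_on with
  | refl => exact fun hn => absurd (Commute.refl _) hn
  | head e hr ih =>
    intro hn
    rename_i a a₁
    have hb : b ∈ D := RootConnected.reach_mem e.2.1 hr
    by_cases h1 : Commute a₁ b
    · exact ⟨a₁, e.2.1, (show Commute a a₁ from e.2.2.2).symm, h1⟩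
    · obtain ⟨f, hf, hfa, hfb⟩ := ih h1
      by_cases h2 : Commute f a
      · exact ⟨f, hf, h2, hfb⟩
      · exact hcore e.1 e.2.1 hf hb (show Commute a a₁ from e.2.2.2).symm hfa.symm hfb
          (fun c' => h2 c'.symm) hn

end Std

theorem std_of_class {G : Type u} [Group G] {D : Set G} (hD : IsOddTranspositionSet D)
    (hcl : IsRootInvolutionClass D) (hO : pCore 2 G = ⊥) (hDD : (D ∩ commutingProducts D).Nonempty) :
    Std D := by
  have hot := ot_of_isOddTranspositionSet hD
  refine ⟨hot, hD.1.generates, fun a ha b hb => ?_, hO, ?_⟩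
  · obtain ⟨g, hg⟩ := hcl.2.2 a ha b hb
    exact isConj_iff.2 ⟨g, hg.symm⟩
  · obtain ⟨_, hcD, a, ha, b, hb, hab, hne, rfl⟩ := hDD
    exact ⟨a, ha, b, hb, fun e => hne (by rw [e]; exact hot.mul_self hb), hab, hcD⟩

/-- The passage to `G/O₂(G)`. -/
theorem exists_common_class {G : Type u} [Group G] [Finite G] {D : Set G} (hA : Aschbacher.CoreFreeCriterion.{u})
    (hD : IsOddTranspositionSet D) (hcl : IsRootInvolutionClass D) (hc : IsConnectedSet (CommAdj D) D)
    (hDD : (D ∩ commutingProducts D).Nonempty) {d x : G} (hd : d ∈ D) (hx : x ∈ D) (hdx : ¬ Commute d x) :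
    ∃ e ∈ D, Commute e d ∧ Commute e x := by
  haveI : Fact (Nat.Prime 2) := ⟨Nat.prime_two⟩
  have hot := ot_of_isOddTranspositionSet hD
  set f := QuotientGroup.mk' (pCore 2 G) with hf
  have hfs : Function.Surjective f := QuotientGroup.mk'_surjective _
  have hker : IsPGroup 2 f.ker := by rw [hf, QuotientGroup.ker_mk']; exact Cores.isPGroup_pCore 2 G
  have hne : ∀ y ∈ D, f y ≠ 1 := by
    intro y hy e
    have hall : ∀ z ∈ D, f z = 1 := fun z hz => by
      obtain ⟨g, rfl⟩ := hcl.2.2 y hy z hz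
      rw [map_mul, map_mul, e, mul_one, ← map_mul, mul_inv_cancel, map_one]
    exact hdx ((hot.commute_map_iff hker hd hx).1 (by rw [hall d hd]; exact Commute.one_left _))
  have hmem : ∀ y ∈ D, f y ∈ (f '' D) \ {1} := fun y hy => ⟨⟨y, hy, rfl⟩, hne y hy⟩
  have hS : Std ((f '' D) \ {1}) := by
    refine ⟨hot.map hfs, ?_, ?_, Cores.pCore_quotient_self 2 G, ?_⟩
    · rw [eq_top_iff, ← Subgroup.map_top_of_surjective f hfs, ← hD.1.generates, MonoidHom.map_closure]
      exact Subgroup.closure_mono fun y ⟨a, ha, e⟩ => e ▸ hmem a ha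
    · rintro _ ⟨⟨a, ha, rfl⟩, -⟩ _ ⟨⟨b, hb, rfl⟩, -⟩
      obtain ⟨g, rfl⟩ := hcl.2.2 a ha b hb
      exact isConj_iff.2 ⟨f g, by simp⟩
    · obtain ⟨_, hcD, a, ha, b, hb, hab, hne', rfl⟩ := hDD
      refine ⟨_, hmem a ha, _, hmem b hb, fun e => hne _ hcD ?_, (show Commute a b from hab).map f,
        by rw [← map_mul]; exact hmem _ hcD⟩
      rw [map_mul, e, ← map_mul, hot.mul_self hb, map_one]
  have hconn : IsConnectedSet (CommAdj ((f '' D) \ {1})) ((f '' D) \ {1}) := by
    rintro _ ⟨⟨a, ha, rfl⟩, -⟩ _ ⟨⟨b, hb, rfl⟩, -⟩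
    have hab := hc a ha b hb
    clear hb
    induction hab with
    | refl => exact .refl
    | tail _ e ih =>
      exact ih.trans (RootConnected.reach_of_commute (hmem _ e.1) (hmem _ e.2.1)
        ((show Commute _ _ from e.2.2.2).map f).eq)
  obtain ⟨_, ⟨⟨e, he, rfl⟩, -⟩, h1, h2⟩ := hS.exists_common hA hconn (hmem d hd) (hmem x hx)
    fun c => hdx ((hot.commute_map_iff hker hd hx).1 c)
  exact ⟨e, he, (hot.commute_map_iff hker he hd).1 h1, (hot.commute_map_iff hker he hx).1 h2⟩

end Cfsg.Agent.OddTrans
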