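/-
Commuting odd transpositions with the same commuting members (owner: helper28).

Main results (namespace `Cfsg.Agent.OddTrans`):
* `same_class_product` : for two members `p, q` commuting with the same members, `p q` lies in
  `O₂(G)` or is a member modulo `O₂(G)`
* `mul_mem_of_sameC` : with `O₂(G) = 1` it is a member, with the same commuting members
-/
import Cfsg.Agent.Lib.OddTrans.Basic
import Cfsg.Agent.Lib.Involution.BaerSuzuki

set_option autoImplicit false
set_option linter.unusedSectionVars false

namespace Cfsg.Agent.OddTrans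

open Cfsg

variable {G : Type*} [Group G]

theorem mem_pCore_of_central [Finite G] {u : G} (hu : u * u = 1) (hc : ∀ x : G, Commute u x) :
    u ∈ pCore 2 G := by
  have hn : (Subgroup.zpowers u).Normal := ⟨fun x hx g => by
    obtain ⟨k, rfl⟩ := Subgroup.mem_zpowers_iff.1 hx
    rw [conj_eq_of_commute ((hc g).symm.zpow_right k)]
    exact Subgroup.zpow_mem _ (Subgroup.mem_zpowers u) k⟩
  refine Cores.le_pCore hn ?_ (Subgroup.mem_zpowers u)
  intro x
  obtain ⟨x, hx⟩ := x
  obtain ⟨k, rfl⟩ := Subgroup.mem_zpowers_iff.1 hx
  refine ⟨1, Subtype.ext ?_⟩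
  show (u ^ k) ^ (2 ^ 1) = (1 : G)
  rw [pow_one, sq, ← zpow_add, ← two_mul, zpow_mul, show u ^ (2 : ℤ) = 1 by rw [zpow_two, hu], one_zpow]

/-- The product of members of one class commuting with all its conjugates of members lies in `O₂(G)`. -/
theorem mem_pCore_of_forall [Finite G] {D : Set G} (hD : OT D) {P : Set G} (hP : P ⊆ D)
    (hsame : ∀ a ∈ P, ∀ b ∈ P, SameC D a b) {v : G} (hv : v ∈ Subgroup.closure P) (hvv : v * v = 1)
    (h : ∀ r ∈ D, Commute r (v * r * v)) : v ∈ pCore 2 G := by
  haveI : Fact (Nat.Prime 2) := ⟨Nat.prime_two⟩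
  have hN : IsPGroup 2 ↥(Subgroup.normalClosure ({v} : Set G)) := by
    refine Involution.baer_suzuki_element v fun g => ?_
    by_cases hne : v = g * v * g⁻¹
    · rw [← hne, Set.pair_eq_singleton, ← Subgroup.zpowers_eq_closure]
      intro x
      obtain ⟨x, hx⟩ := x
      obtain ⟨k, rfl⟩ := Subgroup.mem_zpowers_iff.1 hx
      refine ⟨1, Subtype.ext ?_⟩
      show (v ^ k) ^ (2 ^ 1) = (1 : G)
      rw [pow_one, sq, ← zpow_add, ← two_mul, zpow_mul, show v ^ (2 : ℤ) = 1 by rw [zpow_two, hvv], one_zpow]
    have hv1 : v ≠ 1 := fun e => hne (by rw [e, mul_one, mul_inv_cancel])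
    set v' := g * v * g⁻¹ with hv'
    have hv'v' : v' * v' = 1 := by
      rw [hv', show g * v * g⁻¹ * (g * v * g⁻¹) = g * (v * v) * g⁻¹ by group, hvv, mul_one, mul_inv_cancel]
    set P' := (fun x => g * x * g⁻¹) '' P with hP'
    have hP'D : ∀ a ∈ P', a ∈ D := by
      rintro _ ⟨a, ha, rfl⟩; exact hD.conj g a (hP ha)
    have hv'P : v' ∈ Subgroup.closure P' := by
      have e : (Subgroup.closure P).map (MulAut.conj g).toMonoidHom = Subgroup.closure P' := by
        rw [MonoidHom.map_closure]; rfl
      rw [← e]
      exact Subgroup.mem_map_of_mem _ hv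
    have key : ∀ a ∈ P', ∀ b ∈ P', Commute (v * a * v) b := by
      intro a ha b hb
      have ha' : SameC D a b := by
        obtain ⟨a, ha, rfl⟩ := ha
        obtain ⟨b, hb, rfl⟩ := hb
        exact hD.sameC_conj g (hsame a ha b hb)
      exact (ha' _ (hD.conj' hvv (hP'D a ha))).1 (h a (hP'D a ha)).symm
    have hcl : Commute (v * v' * v) v' := by
      have h1 : Subgroup.closure ((fun a => v * a * v⁻¹) '' P') ≤
          Subgroup.centralizer (Subgroup.closure P' : Set G) := by
        rw [Subgroup.centralizer_closure, Subgroup.closure_le]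
        rintro _ ⟨a, ha, rfl⟩
        rw [inv_of_mul_self hvv]
        exact fun b hb => (key a ha b hb).symm.eq
      have h2 : v * v' * v⁻¹ ∈ Subgroup.closure ((fun a => v * a * v⁻¹) '' P') := by
        have e : (Subgroup.closure P').map (MulAut.conj v).toMonoidHom =
            Subgroup.closure ((fun a => v * a * v⁻¹) '' P') := by
          rw [MonoidHom.map_closure]; rfl
        rw [← e]
        exact Subgroup.mem_map_of_mem _ hv'P
      have h3 := Subgroup.mem_centralizer_iff.1 (h1 h2) v' hv'P
      rw [inv_of_mul_self hvv] at h3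
      exact h3.symm
    refine Involution.isPGroup_closure_pair (Involution.orderOf_of_sq hvv hv1)
      (Involution.orderOf_of_sq hv'v' fun e => hv1 ?_) hne (a := 2) ?_
    · calc v = g⁻¹ * v' * g := by rw [hv']; group
        _ = 1 := by rw [e]; group
    · have h4 : (v * v') ^ 2 ^ 2 = (v * v' * v) * v' * ((v * v' * v) * v') := by
        norm_num [pow_succ]; group
      rw [h4]
      exact mul_self_of_commute
        (by rw [show v * v' * v * (v * v' * v) = v * v' * (v * v) * v' * v by group, hvv, mul_one,
          mul_assoc v v' v', hv'v', mul_one, hvv]) hv'v' hcl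
  exact Cores.le_pCore Subgroup.normalClosure_normal hN
    (Subgroup.subset_normalClosure (Set.mem_singleton v))

namespace OT

variable {D : Set G} (hD : OT D)
include hD

/-- The middle of a pair of class `p, q` commutes with every member commuting with them. -/
theorem commute_middle {p q z h y : G} (hp : p ∈ D) (hq : q ∈ D) (hz : z ∈ D) (hh : h ∈ D) (hy : y ∈ D)
    (hpq : Commute p q) (hne : p ≠ q) (hs : SameC D p q) (hzp : ¬ Commute z p) (hhp : Commute h p)
    (hmid : ∀ c : G, Commute c z → Commute c (p * q * z * (p * q)) → Commute c h)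
    (hyp : Commute y p) : Commute y h := by
  have hyq : Commute y q := (hs y hy).1 hyp
  have hv : p * q * (p * q) = 1 := mul_self_of_commute (hD.mul_self hp) (hD.mul_self hq) hpq
  have hcv : ∀ c : G, Commute c z → Commute c (p * q) → Commute c h := fun c h1 h2 =>
    hmid c h1 ((h2.mul_right h1).mul_right h2)
  by_cases hA : Commute z (y * p * z * (y * p))
  swap
  · have hu : y * p * (y * p) = 1 := mul_self_of_commute (hD.mul_self hy) (hD.mul_self hp) hyp
    obtain ⟨h2, hh2, he, -, hc2, -⟩ := hD.exists_middle hz hu hA
    have hyne : y ≠ p := fun e => hA (by rw [e, hD.mul_self hp, one_mul, mul_one])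
    have h2y : Commute h2 y := hD.commute_of_commute_mul hy hp hh2 hyp hyne hc2
    have h2p : Commute h2 p := hD.commute_of_commute_mul_right hy hp hh2 hyp hyne hc2
    have h2q : Commute h2 q := (hs h2 hh2).1 h2p
    have hne2 : h2 ≠ y := by
      intro e
      refine hzp ?_
      have e' : y * z * y = y * (p * z * p) * y := by
        calc y * z * y = y * p * z * (y * p) := e ▸ he
          _ = y * p * z * (p * y) := by rw [hyp.eq]
          _ = _ := by group
      have e'' : z = p * z * p := mul_left_cancel (mul_right_cancel e')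
      show z * p = p * z
      nth_rewrite 1 [e'']
      rw [mul_assoc, hD.mul_self hp, mul_one]
    have hwz : Commute (h2 * (y * p)) z := by
      show h2 * (y * p) * z = z * (h2 * (y * p))
      calc h2 * (y * p) * z = h2 * (y * p * z * (y * p)) * (y * p) := by
            rw [show h2 * (y * p * z * (y * p)) * (y * p) = h2 * (y * p * z) * (y * p * (y * p)) by group,
              hu, mul_one]; group
        _ = h2 * (h2 * z * h2) * (y * p) := by rw [he]
        _ = _ := by
            rw [show h2 * (h2 * z * h2) * (y * p) = h2 * h2 * z * (h2 * (y * p)) by group,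
              hD.mul_self hh2, one_mul]
    have hwv : Commute (h2 * (y * p)) (p * q) :=
      ((h2p.mul_right h2q).mul_left ((hyp.mul_right hyq).mul_left ((Commute.refl p).mul_right hpq)))
    have h1 : Commute (h2 * (y * p)) h := hcv _ hwz hwv
    have h3 : Commute h (h2 * y) := by
      have e : h2 * y = h2 * (y * p) * p := by
        rw [← mul_assoc, mul_assoc (h2 * y), hD.mul_self hp, mul_one]
      rw [e]
      exact h1.symm.mul_right hhp
    exact (hD.commute_of_commute_mul_right hh2 hy hh h2y hne2 h3).symm
  by_cases hA' : Commute z (y * q * z * (y * q))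
  swap
  · have hu : y * q * (y * q) = 1 := mul_self_of_commute (hD.mul_self hy) (hD.mul_self hq) hyq
    obtain ⟨h2, hh2, he, -, hc2, -⟩ := hD.exists_middle hz hu hA'
    have hyne : y ≠ q := fun e => hA' (by rw [e, hD.mul_self hq, one_mul, mul_one])
    have h2y : Commute h2 y := hD.commute_of_commute_mul hy hq hh2 hyq hyne hc2
    have h2q : Commute h2 q := hD.commute_of_commute_mul_right hy hq hh2 hyq hyne hc2
    have h2p : Commute h2 p := (hs h2 hh2).2 h2q
    have hne2 : h2 ≠ y := by
      intro e
      refine hzp ((hs z hz).2 ?_)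
      have e' : y * z * y = y * (q * z * q) * y := by
        calc y * z * y = y * q * z * (y * q) := e ▸ he
          _ = y * q * z * (q * y) := by rw [hyq.eq]
          _ = _ := by group
      have e'' : z = q * z * q := mul_left_cancel (mul_right_cancel e')
      show z * q = q * z
      nth_rewrite 1 [e'']
      rw [mul_assoc, hD.mul_self hq, mul_one]
    have hwz : Commute (h2 * (y * q)) z := by
      show h2 * (y * q) * z = z * (h2 * (y * q))
      calc h2 * (y * q) * z = h2 * (y * q * z * (y * q)) * (y * q) := by
            rw [show h2 * (y * q * z * (y * q)) * (y * q) = h2 * (y * q * z) * (y * q * (y * q)) by group,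
              hu, mul_one]; group
        _ = h2 * (h2 * z * h2) * (y * q) := by rw [he]
        _ = _ := by
            rw [show h2 * (h2 * z * h2) * (y * q) = h2 * h2 * z * (h2 * (y * q)) by group,
              hD.mul_self hh2, one_mul]
    have hwv : Commute (h2 * (y * q)) (p * q) :=
      ((h2p.mul_right h2q).mul_left ((hyp.mul_right hyq).mul_left (hpq.symm.mul_right (Commute.refl q))))
    have h1 : Commute (h2 * (y * q)) h := hcv _ hwz hwv
    have hhq : Commute h q := (hs h hh).1 hhp
    have h3 : Commute h (h2 * y) := by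
      have e : h2 * y = h2 * (y * q) * q := by
        rw [← mul_assoc, mul_assoc (h2 * y), hD.mul_self hq, mul_one]
      rw [e]
      exact h1.symm.mul_right hhq
    exact (hD.commute_of_commute_mul_right hh2 hy hh h2y hne2 h3).symm
  -- both conjugates commute
  have hc1 : Commute (y * p * z * (y * p)) z := hA.symm
  have hc2 : Commute (y * p * z * (y * p)) (p * q * z * (p * q)) := by
    have hu : p * q * (y * p) * (p * q) = y * p := by
      calc p * q * (y * p) * (p * q) = (y * p) * (p * q) * (p * q) := by
            rw [((hyp.mul_right hyq).mul_left ((Commute.refl p).mul_right hpq)).eq]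
        _ = _ := by rw [mul_assoc, hv, mul_one]
    -- conjugate the hypothesis for `y q` by `y p`
    have h1 := (conj_commute_iff (v := p * q)).2 hA'
    rw [inv_of_mul_self hv] at h1
    have e : p * q * (y * q * z * (y * q)) * (p * q) = y * p * z * (y * p) := by
      have e1 : p * q * (y * q) = y * p := by
        calc p * q * (y * q) = (y * q) * (p * q) :=
              ((hyp.mul_right hyq).mul_left (hpq.symm.mul_right (Commute.refl q))).eq.symm
          _ = y * (q * p) * q := by group
          _ = y * p * (q * q) := by rw [← hpq.eq]; group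
          _ = _ := by rw [hD.mul_self hq, mul_one]
      have e2 : y * q * (p * q) = y * p := by
        rw [show y * q * (p * q) = y * (q * p) * q by group, ← hpq.eq,
          show y * (p * q) * q = y * p * (q * q) by group, hD.mul_self hq, mul_one]
      calc p * q * (y * q * z * (y * q)) * (p * q) = (p * q * (y * q)) * z * (y * q * (p * q)) := by group
        _ = _ := by rw [e1, e2]
    rw [e] at h1
    exact h1.symm
  have h4 : Commute (y * p * z * (y * p)) h := hmid _ hc1 hc2
  have hu : y * p * (y * p) = 1 := mul_self_of_commute (hD.mul_self hy) (hD.mul_self hp) hyp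
  have hy' : y * h * y ∈ D := hD.conj' (hD.mul_self hy) hh
  have h5 : Commute z (y * h * y) := by
    have h6 := (conj_commute_iff (v := y * p)).2 h4
    rw [inv_of_mul_self hu,
      show y * p * (y * p * z * (y * p)) * (y * p) = (y * p * (y * p)) * z * (y * p * (y * p)) by group,
      hu, one_mul, mul_one] at h6
    have e : y * p * h * (y * p) = y * h * y := by
      calc y * p * h * (y * p) = y * p * h * (p * y) := by rw [hyp.eq]
        _ = y * (p * h * p) * y := by group
        _ = _ := by rw [hhp.symm.eq, mul_assoc h p p, hD.mul_self hp, mul_one]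
    rwa [e] at h6
  have h7 : Commute (y * h * y) (p * q) := by
    have hhq : Commute h q := (hs h hh).1 hhp
    exact ((hyp.mul_right hyq).mul_left (hhp.mul_right hhq)).mul_left (hyp.mul_right hyq)
  have h8 : Commute (y * h * y) h := hcv _ h5.symm h7
  by_contra hc
  have ho := hD.odd_of hy hh hc
  have h9 : orderOf (y * h) ∣ 4 := orderOf_dvd_of_pow_eq_one (by
    rw [show (y * h) ^ 4 = y * h * y * h * (y * h * y * h) by simp [pow_succ, mul_assoc]]
    exact mul_self_of_commute (hD.mul_self hy') (hD.mul_self hh) h8)
  have h10 : orderOf (y * h) = 1 :=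
    Nat.eq_one_of_dvd_coprimes ((Nat.coprime_two_left.2 ho).pow_left 2) (by simpa using h9) dvd_rfl
  exact hc (hD.mul_eq_one hh (orderOf_eq_one_iff.1 h10) ▸ Commute.refl h)

end OT

universe u

/-- Two members with the same commuting members have their product in `O₂(G)` or in `D` modulo it. -/
theorem same_class_product : ∀ (n : ℕ) {G : Type u} [Group G] [Finite G], Nat.card G = n →
    ∀ {D : Set G}, OT D → ∀ {p q : G}, p ∈ D → q ∈ D → Commute p q → SameC D p q →
      p * q ∈ pCore 2 G ∨ ∃ h ∈ D, h * (p * q) ∈ pCore 2 G := by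
  intro n
  induction n using Nat.strong_induction_on with
  | _ n IH =>
  intro G _ _ hn D hD p q hp hq hpq hs
  haveI : Fact (Nat.Prime 2) := ⟨Nat.prime_two⟩
  rcases eq_or_ne p q with rfl | hne
  · exact Or.inl (by rw [hD.mul_self hp]; exact one_mem _)
  haveI hnorm : (pCore 2 G).Normal := Cores.pCore_normal 2 G
  by_cases hO : pCore 2 G = ⊥
  swap
  · set f := QuotientGroup.mk' (pCore 2 G) with hf
    have hker : IsPGroup 2 f.ker := by rw [hf, QuotientGroup.ker_mk']; exact Cores.isPGroup_pCore 2 G
    have hmem : ∀ x : G, f x = 1 ↔ x ∈ pCore 2 G := fun x => QuotientGroup.eq_one_iff x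
    by_cases hp1 : f p = 1
    · refine Or.inr ⟨q, hq, ?_⟩
      rw [hpq.eq, ← mul_assoc, hD.mul_self hq, one_mul]
      exact (hmem p).1 hp1
    by_cases hq1 : f q = 1
    · refine Or.inr ⟨p, hp, ?_⟩
      rw [← mul_assoc, hD.mul_self hp, one_mul]
      exact (hmem q).1 hq1
    have hlt : Nat.card (G ⧸ pCore 2 G) < n := by
      have h1 := (Subgroup.one_lt_card_iff_ne_bot _).2 hO
      rw [← hn, Subgroup.card_eq_card_quotient_mul_card_subgroup (pCore 2 G)]
      exact lt_mul_of_one_lt_right Nat.card_pos h1
    have hbot := Cores.pCore_quotient_self 2 G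
    rcases IH _ hlt rfl (hD.map (QuotientGroup.mk'_surjective _)) ⟨⟨p, hp, rfl⟩, hp1⟩
      ⟨⟨q, hq, rfl⟩, hq1⟩ (hpq.map f) (hD.sameC_map hker hp hq hs) with h | ⟨_, ⟨⟨h, hh, rfl⟩, -⟩, h'⟩
    · rw [hbot, Subgroup.mem_bot, ← map_mul] at h
      exact Or.inl ((hmem _).1 h)
    · rw [hbot, Subgroup.mem_bot, ← map_mul, ← map_mul] at h'
      exact Or.inr ⟨h, hh, (hmem _).1 h'⟩
  set v := p * q with hvdef
  have hvv : v * v = 1 := mul_self_of_commute (hD.mul_self hp) (hD.mul_self hq) hpq
  by_cases hall : ∀ r ∈ D, Commute r (v * r * v)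
  · refine Or.inl (mem_pCore_of_forall hD (P := {p, q}) (Set.insert_subset hp (Set.singleton_subset_iff.2 hq))
      ?_ (mul_mem (Subgroup.subset_closure (by simp)) (Subgroup.subset_closure (by simp))) hvv hall)
    rintro a (rfl | rfl) b (rfl | rfl)
    exacts [SameC.refl D _, hs, hs.symm, SameC.refl D _]
  push Not at hall
  obtain ⟨z, hz, hzA⟩ := hall
  obtain ⟨h, hh, he, hhz, hhv, hmid⟩ := hD.exists_middle hz hvv hzA
  have hhp : Commute h p := hD.commute_of_commute_mul hp hq hh hpq hne hhv
  have hhq : Commute h q := hD.commute_of_commute_mul_right hp hq hh hpq hne hhv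
  have hzp : ¬ Commute z p := by
    intro e
    refine hzA ?_
    have e' : Commute z v := e.mul_right ((hs z hz).1 e)
    rw [← e'.eq, mul_assoc, hvv, mul_one]
  have hsh : SameC D p h :=
    hD.sameC_of_subset ((hD.isConj hp hz fun e => hzp e.symm).trans (hD.isConj hh hz hhz).symm)
      fun y hy hyp => hD.commute_middle hp hq hz hh hy hpq hne hs hzp hhp hmid hyp
  set w := h * v with hw
  have hww : w * w = 1 := mul_self_of_commute (hD.mul_self hh) hvv hhv
  have hwz : Commute w z := by
    show w * z = z * w
    calc w * z = h * (v * z * v) * v := by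
          rw [show h * (v * z * v) * v = h * v * z * (v * v) by group, hvv, mul_one]
      _ = h * (h * z * h) * v := by rw [he]
      _ = z * w := by rw [show h * (h * z * h) * v = h * h * z * (h * v) by group, hD.mul_self hh, one_mul]
  have hwD : ∀ y ∈ D, Commute y p → Commute y w := fun y hy hyp =>
    ((hsh y hy).1 hyp).mul_right (hyp.mul_right ((hs y hy).1 hyp))
  have hwp : Commute p w := hwD p hp (Commute.refl p)
  have hhq' : h ≠ q := by
    intro e
    refine hzp ?_
    have : w = p := by rw [hw, e, hvdef, hpq.eq, ← mul_assoc, hD.mul_self hq, one_mul]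
    exact (this ▸ hwz).symm
  have hR : ∀ r ∈ D, Commute r (w * r * w) := by
    intro r hr
    by_contra hrA
    obtain ⟨k, hk, hek, hkr, hkw, -⟩ := hD.exists_middle hr hww hrA
    -- `k` is no conjugate of `p` in the centralizer of `w`
    have hnot : ∀ g : G, Commute w g → g * p * g⁻¹ ≠ k := by
      intro g hg e
      set h' := g * h * g⁻¹ with hh'
      set q' := g * q * g⁻¹ with hq'
      have hkq' : SameC D k q' := e ▸ hD.sameC_conj g hs
      have hwe : w = h' * (k * q') := by
        rw [← conj_eq_of_commute hg.symm, hh', hq', ← e, hw, hvdef]; group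
      have hkk : Commute k h' := by
        rw [← e]; exact conj_commute_iff.2 hhp.symm
      have hkq : Commute k q' := by rw [← e]; exact conj_commute_iff.2 hpq
      have hh'q' : Commute h' q' := conj_commute_iff.2 hhq
      have hprod : w * k = h' * q' := by
        rw [hwe, show h' * (k * q') * k = h' * (k * (q' * k)) by group, ← hkq.eq, ← mul_assoc k k,
          hD.mul_self hk, one_mul]
      have hcr : Commute r (h' * q') := by
        rw [← hprod]
        show r * (w * k) = w * k * r
        calc r * (w * k) = w * (w * r * w) * k := by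
              rw [show w * (w * r * w) * k = w * w * r * (w * k) by group, hww, one_mul]
          _ = w * (k * r * k) * k := by rw [hek]
          _ = w * k * r := by
              rw [show w * (k * r * k) * k = w * k * r * (k * k) by group, hD.mul_self hk, mul_one]
      have hne' : h' ≠ q' := fun e' => hhq' (mul_left_cancel (mul_right_cancel e'))
      have hrq : Commute r q' :=
        hD.commute_of_commute_mul_right (hD.conj g h hh) (hD.conj g q hq) hr hh'q' hne' hcr
      exact hkr ((hkq' r hr).2 hrq).symm
    have hkp : Commute k p := by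
      by_contra hc
      obtain ⟨g, hg, hcg⟩ := hD.exists_conj hp hk fun e => hc e.symm
      exact hnot g (hcg w hwp.symm hkw.symm) hg
    have hkz : Commute k z := by
      by_contra hc
      obtain ⟨g1, hg1, hcg1⟩ := hD.exists_conj hp hz fun e => hzp e.symm
      obtain ⟨g2, hg2, hcg2⟩ := hD.exists_conj hz hk fun e => hc e.symm
      refine hnot (g2 * g1) ((hcg2 w hwz hkw.symm).mul_right (hcg1 w hwp.symm hwz)) ?_
      rw [show g2 * g1 * p * (g2 * g1)⁻¹ = g2 * (g1 * p * g1⁻¹) * g2⁻¹ by group, hg1, hg2]
    set u := k * w with hu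
    have huu : u * u = 1 := mul_self_of_commute (hD.mul_self hk) hww hkw
    have hup : Commute p u := hkp.symm.mul_right hwp
    have huq : Commute q u :=
      ((hs k hk).1 hkp).symm.mul_right (hwD q hq hpq.symm)
    have huh : Commute h u := ((hsh k hk).1 hkp).symm.mul_right (hwD h hh hhp)
    have huz : Commute z u := hkz.symm.mul_right hwz.symm
    have hur : Commute r u := by
      show r * (k * w) = k * w * r
      calc r * (k * w) = k * (k * r * k) * w := by
            rw [show k * (k * r * k) * w = k * k * r * (k * w) by group, hD.mul_self hk, one_mul]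
        _ = k * (w * r * w) * w := by rw [hek]
        _ = k * w * r := by rw [show k * (w * r * w) * w = k * w * r * (w * w) by group, hww, mul_one]
    by_cases hcen : ∀ x : G, Commute u x
    · have hu1 : u = 1 := by
        have := mem_pCore_of_central huu hcen
        rwa [hO, Subgroup.mem_bot] at this
      have hkeq : k = w := by
        rw [hu, mul_eq_one_iff_eq_inv, inv_of_mul_self hww] at hu1
        exact hu1
      have hrp : ¬ Commute r p := by
        intro e
        refine hrA ?_
        rw [← (hwD r hr e).eq, mul_assoc, hww, mul_one]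
      have hsk : SameC D p k :=
        hD.sameC_of_subset ((hD.isConj hp hr fun e => hrp e.symm).trans (hD.isConj hk hr hkr).symm)
          fun y hy hyp => hkeq ▸ hwD y hy hyp
      exact hzp ((hsk z hz).2 (hkeq ▸ hwz.symm))
    set H := Subgroup.centralizer ({u} : Set G) with hH
    have hmemH : ∀ x : G, Commute x u → x ∈ H := fun x hx =>
      Subgroup.mem_centralizer_singleton_iff.2 hx.eq
    have hlt : Nat.card H < n := by
      rw [← hn]
      refine lt_of_le_of_ne (Subgroup.card_le_card_group H) fun e => hcen fun x => ?_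
      have hx : x ∈ H := by rw [Subgroup.eq_top_of_card_eq H e]; trivial
      exact (show Commute x u from Subgroup.mem_centralizer_singleton_iff.1 hx).symm
    have hDH := hD.sub H
    set O := pCore 2 ↥H with hOH
    haveI hOn : O.Normal := Cores.pCore_normal 2 ↥H
    have hO2 : IsPGroup 2 O := Cores.isPGroup_pCore 2 ↥H
    set f := QuotientGroup.mk' O with hf
    have hker : IsPGroup 2 f.ker := by rw [hf, QuotientGroup.ker_mk']; exact hO2
    have hfmem : ∀ x : H, f x = 1 ↔ x ∈ O := fun x => QuotientGroup.eq_one_iff x
    let P : H := ⟨p, hmemH p hup⟩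
    let Q : H := ⟨q, hmemH q huq⟩
    let Z : H := ⟨z, hmemH z huz⟩
    let Hh : H := ⟨h, hmemH h huh⟩
    let R : H := ⟨r, hmemH r hur⟩
    let K : H := ⟨k, hmemH k ((Commute.refl k).mul_right hkw)⟩
    let U : H := ⟨u, hmemH u (Commute.refl u)⟩
    have hsH : SameC (Subtype.val ⁻¹' D : Set H) P Q := fun y hy =>
      ⟨fun e => Subtype.ext ((hs y.1 hy).1 (e.map H.subtype)).eq,
        fun e => Subtype.ext ((hs y.1 hy).2 (e.map H.subtype)).eq⟩
    -- an odd product in `O₂` is trivial
    have hoddO : ∀ a b : H, a.1 ∈ D → b.1 ∈ D → f a = f b → Commute a.1 b.1 := by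
      intro a b ha hb e
      exact (hDH.commute_map_iff hker ha hb).1 (e ▸ Commute.refl (f b)) |>.map H.subtype
    rcases IH _ hlt rfl hDH (p := P) (q := Q) hp hq (Subtype.ext hpq.eq) hsH with hv | ⟨h', hh', hv⟩
    · refine hzA ?_
      have e : f (P * Q * Z * (P * Q)) = f Z := by
        rw [map_mul, map_mul, (hfmem _).2 hv, one_mul, mul_one]
      exact (hoddO _ Z (hD.conj' hvv hz) hz e).symm
    · have e1 : f h' = f (P * Q) := by
        have e2 := (hfmem _).2 hv
        rw [map_mul, mul_eq_one_iff_eq_inv] at e2
        rw [e2]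
        have : P * Q * (P * Q) = 1 := Subtype.ext hvv
        rw [← map_inv, inv_of_mul_self this]
      have e3 : f Hh = f h' := by
        by_cases hne' : f Hh = 1
        · exfalso
          refine hhz ?_
          have hh2 : Commute (f Hh) (f Z) := hne' ▸ Commute.one_left _
          exact ((hDH.commute_map_iff hker hh hz).1 hh2).map H.subtype
        by_cases hne'' : f h' = 1
        · exfalso
          refine hzA ?_
          have e : f (P * Q * Z * (P * Q)) = f Z := by
            rw [map_mul, map_mul, ← e1, hne'', one_mul, mul_one]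
          exact (hoddO _ Z (hD.conj' hvv hz) hz e).symm
        have hfz : f Z ≠ 1 := fun e => hhz
          (((hDH.commute_map_iff hker (a := Hh) (b := Z) hh hz).1 (e ▸ Commute.one_right _)).map H.subtype)
        refine (hDH.map (QuotientGroup.mk'_surjective O)).middle_unique ⟨⟨Z, hz, rfl⟩, hfz⟩
          ⟨⟨Hh, hh, rfl⟩, hne'⟩ ⟨⟨h', hh', rfl⟩, hne''⟩ ?_ ?_ ?_
        · exact fun e => hhz (((hDH.commute_map_iff hker hh hz).1 e).map H.subtype)
        · rw [e1]
          exact (show Commute Hh (P * Q) from Subtype.ext hhv.eq).map f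
        · rw [← map_mul, ← map_mul, show Hh * Z * Hh = P * Q * Z * (P * Q) from Subtype.ext he,
            map_mul, map_mul, e1]
      have hfu : f U = 1 := by
        refine (hfmem U).2 (mem_pCore_of_central (u := U) (Subtype.ext huu) fun x => Subtype.ext ?_)
        exact (Subgroup.mem_centralizer_singleton_iff.1 x.2).symm
      have hk1 : f K = 1 := by
        have e : K = U * (Hh * (P * Q)) := Subtype.ext (by
          show k = k * w * w
          rw [mul_assoc, hww, mul_one])
        rw [e, map_mul, map_mul f Hh, hfu, one_mul, e3, e1, ← map_mul,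
          show P * Q * (P * Q) = 1 from Subtype.ext hvv, map_one]
      refine hkr ?_
      exact (((hDH.commute_map_iff hker hk hr).1 (hk1 ▸ Commute.one_left (f R)))).map H.subtype
  right
  refine ⟨h, hh, ?_⟩
  refine mem_pCore_of_forall hD (P := {h, p, q}) ?_ ?_ ?_ hww hR
  · rintro x (rfl | rfl | rfl) <;> assumption
  · have hpr : ∀ a ∈ ({h, p, q} : Set G), SameC D p a := by
      rintro a (rfl | rfl | rfl)
      exacts [hsh, SameC.refl D _, hs]
    exact fun a ha b hb => (hpr a ha).symm.trans (hpr b hb)
  · exact mul_mem (Subgroup.subset_closure (by simp))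
      (mul_mem (Subgroup.subset_closure (by simp)) (Subgroup.subset_closure (by simp)))

/-- With trivial 2-core the product of two members with the same commuting members is a third one. -/
theorem mul_mem_of_sameC {G : Type u} [Group G] [Finite G] {D : Set G} (hD : OT D)
    (hO : pCore 2 G = ⊥) {p q : G} (hp : p ∈ D) (hq : q ∈ D) (hpq : Commute p q) (hne : p ≠ q)
    (hs : SameC D p q) : p * q ∈ D ∧ SameC D p (p * q) := by
  have hmem : p * q ∈ D := by
    rcases same_class_product _ rfl hD hp hq hpq hs with h | ⟨h, hh, h'⟩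
    · rw [hO, Subgroup.mem_bot] at h
      exact absurd (hD.mul_eq_one hq h) hne
    · rw [hO, Subgroup.mem_bot, mul_eq_one_iff_eq_inv,
        inv_of_mul_self (mul_self_of_commute (hD.mul_self hp) (hD.mul_self hq) hpq)] at h'
      exact h' ▸ hh
  refine ⟨hmem, fun y hy => ⟨fun h => h.mul_right ((hs y hy).1 h), fun h => ?_⟩⟩
  exact hD.commute_of_commute_mul hp hq hy hpq hne h

end Cfsg.Agent.OddTrans
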