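/-
`PSU₃(q)`, q even, is not generated by commuting involutions and one further involution
(owner: helper28).

Main results (namespace `Cfsg.Agent.OddTrans`): `psu_three_not_generated`, `psu_three_squares_commute`.
-/
import Cfsg.Agent.Lib.OddTrans.Basic
import Cfsg.Agent.Lib.Unitary.Center
import Mathlib.FieldTheory.Finite.Basic
import Mathlib.LinearAlgebra.Eigenspace.Zero

set_option autoImplicit false
set_option linter.unusedSectionVars false

namespace Cfsg.Agent.OddTrans

open Matrix Module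

section linear

variable {K V : Type*} [Field K] [AddCommGroup V] [Module K V] [FiniteDimensional K V]

/-- Square zero maps of a three dimensional space have rank one at most. -/
theorem rank_le_one_of_sq (h3 : finrank K V = 3) {N : V →ₗ[K] V} (h : ∀ v, N (N v) = 0) :
    finrank K (LinearMap.range N) ≤ 1 := by
  have hle : LinearMap.range N ≤ LinearMap.ker N := by
    rintro _ ⟨v, rfl⟩; exact LinearMap.mem_ker.2 (h v)
  have h1 := LinearMap.finrank_range_add_finrank_ker N
  have h2 := Submodule.finrank_mono hle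
  omega

/-- Commuting square zero maps with square zero composite share image or kernel. -/
theorem same_range_or_ker (h3 : finrank K V = 3) {A B : V →ₗ[K] V} (hA : ∀ v, A (A v) = 0)
    (hB : ∀ v, B (B v) = 0) (hA0 : A ≠ 0) (hB0 : B ≠ 0) (hAB : ∀ v, A (B v) = B (A v))
    (hC : ∀ v, (A + B + A.comp B) ((A + B + A.comp B) v) = 0) :
    LinearMap.range A = LinearMap.range B ∨ LinearMap.ker A = LinearMap.ker B := by
  have hrA : finrank K (LinearMap.range A) = 1 := by
    refine le_antisymm (rank_le_one_of_sq h3 hA) (Nat.one_le_iff_ne_zero.2 fun e => hA0 ?_)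
    exact LinearMap.range_eq_bot.1 (Submodule.finrank_eq_zero.1 e)
  have hrB : finrank K (LinearMap.range B) = 1 := by
    refine le_antisymm (rank_le_one_of_sq h3 hB) (Nat.one_le_iff_ne_zero.2 fun e => hB0 ?_)
    exact LinearMap.range_eq_bot.1 (Submodule.finrank_eq_zero.1 e)
  refine or_iff_not_imp_right.2 fun hk => ?_
  have hkA : finrank K (LinearMap.ker A) = 2 := by
    have := LinearMap.finrank_range_add_finrank_ker A; omega
  have hkB : finrank K (LinearMap.ker B) = 2 := by
    have := LinearMap.finrank_range_add_finrank_ker B; omega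
  obtain ⟨v, hvB, hvA⟩ : ∃ v ∈ LinearMap.ker B, v ∉ LinearMap.ker A := SetLike.not_le_iff_exists.1 fun h =>
    hk (Submodule.eq_of_le_of_finrank_le h (by omega)).symm
  obtain ⟨v', hv'A, hv'B⟩ : ∃ v ∈ LinearMap.ker A, v ∉ LinearMap.ker B := SetLike.not_le_iff_exists.1 fun h =>
    hk (Submodule.eq_of_le_of_finrank_le h (by omega))
  rw [LinearMap.mem_ker] at hvB hvA hv'A hv'B
  set C := A + B + A.comp B with hCdef
  have hrC := rank_le_one_of_sq h3 hC
  have e1 : C v = A v := by simp [hCdef, hvB]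
  have e2 : C v' = B v' := by simp [hCdef, hv'A, hAB v']
  have hsing : ∀ {S : Submodule K V} {u : V}, finrank K S ≤ 1 → u ∈ S → u ≠ 0 → S = Submodule.span K {u} := by
    intro S u hS hu hu0
    refine (Submodule.eq_of_le_of_finrank_le ((Submodule.span_singleton_le_iff_mem u S).2 hu) ?_).symm
    rw [finrank_span_singleton hu0]; exact hS
  have hCA : LinearMap.range C = LinearMap.range A := by
    rw [hsing hrA.le ⟨v, rfl⟩ hvA]
    exact hsing hrC ⟨v, e1⟩ hvA
  have hCB : LinearMap.range C = LinearMap.range B := by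
    rw [hsing hrB.le ⟨v', rfl⟩ hv'B]
    exact hsing hrC ⟨v', e2⟩ hv'B
  exact hCA.symm.trans hCB

end linear

section unitary

variable {F : Type*} [Field F] {q : ℕ}

/-- The linear map `g - 1`. -/
noncomputable def shift (g : Cfsg.SU 3 F q) : (Fin 3 → F) →ₗ[F] (Fin 3 → F) :=
  Matrix.toLin' (((g : Matrix.SpecialLinearGroup (Fin 3) F) : Matrix (Fin 3) (Fin 3) F) - 1)

theorem shift_apply (g : Cfsg.SU 3 F q) (v : Fin 3 → F) :
    shift g v = ((g : Matrix.SpecialLinearGroup (Fin 3) F) : Matrix (Fin 3) (Fin 3) F) *ᵥ v - v := by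
  simp [shift, Matrix.sub_mulVec]

theorem shift_mul (g h : Cfsg.SU 3 F q) :
    shift (g * h) = shift g + shift h + (shift g).comp (shift h) := by
  refine LinearMap.ext fun v => ?_
  simp only [LinearMap.add_apply, LinearMap.comp_apply, shift_apply, Subgroup.coe_mul,
    Matrix.SpecialLinearGroup.coe_mul, Matrix.mulVec_sub, Matrix.mulVec_mulVec]
  abel

theorem shift_one : shift (1 : Cfsg.SU 3 F q) = 0 := by
  refine LinearMap.ext fun v => ?_
  simp [shift_apply]

theorem shift_ne_zero {g : Cfsg.SU 3 F q} (hg : g ≠ 1) : shift g ≠ 0 := by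
  intro h
  refine hg (Subtype.ext (Subtype.ext ?_))
  exact sub_eq_zero.1 ((Matrix.toLin' (R := F) (n := Fin 3) (m := Fin 3)).map_eq_zero_iff.1 h)

theorem shift_sq [CharP F 2] {g : Cfsg.SU 3 F q} (hg : g * g = 1) (v : Fin 3 → F) :
    shift g (shift g v) = 0 := by
  have h := LinearMap.congr_fun (congrArg shift hg) v
  rw [shift_mul, shift_one] at h
  simp only [LinearMap.add_apply, LinearMap.comp_apply, LinearMap.zero_apply] at h
  have h2 : shift g v + shift g v = 0 := funext fun i => CharTwo.add_self_eq_zero _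
  rw [h2, zero_add] at h
  exact h

/-- The elements of `SU₃` stabilising a subspace. -/
def stab (W : Submodule F (Fin 3 → F)) : Subgroup (Cfsg.SU 3 F q) where
  carrier := {g | ∀ v, ((g : Matrix.SpecialLinearGroup (Fin 3) F) : Matrix (Fin 3) (Fin 3) F) *ᵥ v ∈ W ↔ v ∈ W}
  one_mem' v := by simp
  mul_mem' {g h} hg hh v := by
    simp only [Subgroup.coe_mul, Matrix.SpecialLinearGroup.coe_mul, ← Matrix.mulVec_mulVec]
    rw [hg, hh]
  inv_mem' {g} hg v := by
    have h := hg (((g⁻¹ : Cfsg.SU 3 F q) : Matrix.SpecialLinearGroup (Fin 3) F) *ᵥ v)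
    rw [Matrix.mulVec_mulVec, ← Matrix.SpecialLinearGroup.coe_mul, ← Subgroup.coe_mul, mul_inv_cancel] at h
    simpa using h.symm

theorem mem_stab_of_shift [CharP F 2] {W : Submodule F (Fin 3 → F)} {g : Cfsg.SU 3 F q}
    (h : ∀ w ∈ W, shift g w ∈ W) (hg : g * g = 1) : g ∈ stab W := by
  have key : ∀ w ∈ W, ((g : Matrix.SpecialLinearGroup (Fin 3) F) : Matrix (Fin 3) (Fin 3) F) *ᵥ w ∈ W := by
    intro w hw
    have := W.add_mem (h w hw) hw
    rwa [shift_apply, sub_add_cancel] at this
  intro v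
  refine ⟨fun hv => ?_, key v⟩
  have := key _ hv
  rwa [Matrix.mulVec_mulVec, ← Matrix.SpecialLinearGroup.coe_mul, ← Subgroup.coe_mul, hg, Subgroup.coe_one,
    Matrix.SpecialLinearGroup.coe_one, Matrix.one_mulVec] at this

theorem center_le_stab (hF : Nat.card F = q ^ 2) [Fintype F] (W : Submodule F (Fin 3 → F)) :
    Subgroup.center (Cfsg.SU 3 F q) ≤ stab W := by
  intro g hg
  obtain ⟨c, hc3, -, hc⟩ := Unitary.center_SU_scalar (by rwa [← Nat.card_eq_fintype_card]) (by norm_num) hg
  have hc0 : c ≠ 0 := fun e => by simp [e] at hc3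
  intro v
  rw [hc]
  simp [W.smul_mem_iff hc0]

/-- No proper nonzero subspace is stable under `SU₃(q)`. -/
theorem stab_ne_top [Fintype F] (hF : Fintype.card F = q ^ 2) (hq : Even q) (hq2 : 2 ≤ q)
    {W : Submodule F (Fin 3 → F)} (h0 : W ≠ ⊥) (h1 : W ≠ ⊤) : stab (q := q) W ≠ ⊤ := by
  classical
  intro htop
  -- a diagonal element with three eigenvalues
  obtain ⟨a, ha, ha1⟩ : ∃ a : F, a ^ (q + 1) = 1 ∧ a ≠ 1 := by
    obtain ⟨ω, hω⟩ := IsCyclic.exists_generator (α := Fˣ)
    have hord : orderOf ω = (q + 1) * (q - 1) := by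
      rw [orderOf_eq_card_of_forall_mem_zpowers hω, Nat.card_eq_fintype_card, Fintype.card_units, hF,
        ← Nat.sq_sub_sq q 1, one_pow]
    refine ⟨((ω ^ (q - 1) : Fˣ) : F), ?_, fun e => ?_⟩
    · rw [← Units.val_pow_eq_pow_val, ← pow_mul, mul_comm, ← hord, pow_orderOf_eq_one, Units.val_one]
    · have e' : ω ^ (q - 1) = 1 := Units.ext e
      have := Nat.le_of_dvd (by omega) (orderOf_dvd_of_pow_eq_one e')
      rw [hord] at this
      nlinarith [Nat.sub_pos_of_lt (show 1 < q by omega)]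
  haveI : CharP F 2 := by
    obtain ⟨k, rfl⟩ := hq
    obtain ⟨p, hp⟩ := CharP.exists F
    haveI := hp
    haveI : Fact p.Prime := ⟨CharP.char_is_prime F p⟩
    obtain ⟨n, -, hn⟩ := FiniteField.card F p
    have h2 : 2 ∣ p ^ (n : ℕ) := by rw [← hn, hF]; exact dvd_pow (by omega) two_ne_zero
    have := (Nat.prime_dvd_prime_iff_eq Nat.prime_two Fact.out).1 (Nat.prime_two.dvd_of_dvd_pow h2)
    exact this ▸ hp
  have ha0 : a ≠ 0 := fun e => by rw [e, zero_pow (by omega)] at ha; exact zero_ne_one ha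
  have hainv : a ≠ a⁻¹ := by
    intro e
    apply ha1
    have h2 : a * a = 1 := by nth_rewrite 2 [e]; exact mul_inv_cancel₀ ha0
    rcases mul_self_eq_one_iff.1 h2 with h | h
    · exact h
    · rwa [CharTwo.neg_eq] at h
  have hain1 : a⁻¹ ≠ 1 := fun e => ha1 (inv_eq_one.1 e)
  let d : Fin 3 → F := ![a, a⁻¹, 1]
  have hd : ∀ i, d i ^ (q + 1) = 1 := by
    intro i; fin_cases i <;> simp [d, ha]
  let T : Matrix.SpecialLinearGroup (Fin 3) F := ⟨Matrix.diagonal d, by
    simp [Matrix.det_diagonal, Fin.prod_univ_three, d, mul_inv_cancel₀ ha0]⟩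
  have hT : T ∈ Cfsg.SU 3 F q := by
    rw [Unitary.mem_SU_iff]
    intro u v
    simp only [T, Cfsg.hermForm]
    refine Finset.sum_congr rfl fun i _ => ?_
    rw [Matrix.mulVec_diagonal, Matrix.mulVec_diagonal, mul_pow,
      show d i * u i * (d i ^ q * v i ^ q) = d i ^ (q + 1) * (u i * v i ^ q) by ring, hd, one_mul]
  let σ : Equiv.Perm (Fin 3) := finRotate 3
  let P : Matrix.SpecialLinearGroup (Fin 3) F := ⟨σ.permMatrix F, by
    rw [Matrix.det_permutation]
    rcases Int.units_eq_one_or (Equiv.Perm.sign σ) with e | e <;> simp [e, CharTwo.neg_eq]⟩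
  have hP : P ∈ Cfsg.SU 3 F q := by
    rw [Unitary.mem_SU_iff]
    intro u v
    simp only [P, Cfsg.hermForm]
    rw [Matrix.permMatrix_mulVec, Matrix.permMatrix_mulVec]
    exact Equiv.sum_comp σ fun i => u i * v i ^ q
  have hTW : ∀ w ∈ W, (fun i => d i * w i) ∈ W := by
    intro w hw
    have h := ((htop ▸ Subgroup.mem_top (⟨T, hT⟩ : Cfsg.SU 3 F q) : (⟨T, hT⟩ : Cfsg.SU 3 F q) ∈ stab W) w).2 hw
    simp only [T] at h
    convert h using 1
    funext i
    rw [Matrix.mulVec_diagonal]
  have hPW : ∀ w ∈ W, (fun i => w (σ i)) ∈ W := by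
    intro w hw
    have h := ((htop ▸ Subgroup.mem_top (⟨P, hP⟩ : Cfsg.SU 3 F q) : (⟨P, hP⟩ : Cfsg.SU 3 F q) ∈ stab W) w).2 hw
    simp only [P] at h
    rwa [Matrix.permMatrix_mulVec] at h
  -- a vector with nonzero first coordinate
  obtain ⟨w, hw, hw0⟩ : ∃ w ∈ W, w 0 ≠ 0 := by
    obtain ⟨w, hw, hne⟩ := Submodule.exists_mem_ne_zero_of_ne_bot h0
    by_contra! hall
    have e1 := hall _ (hPW w hw)
    have e2 := hall _ (hPW _ (hPW w hw))
    have e0 := hall w hw
    exact hne (funext fun i => by fin_cases i <;> simp_all [σ])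
  -- the first coordinate vector
  have hfirst : (![1, 0, 0] : Fin 3 → F) ∈ W := by
    have h' := W.sub_mem (hTW w hw) (W.smul_mem (a⁻¹) hw)
    have h'' := W.sub_mem (hTW _ h') h'
    have hc : (a - 1) * (a - a⁻¹) * w 0 ≠ 0 :=
      mul_ne_zero (mul_ne_zero (sub_ne_zero.2 ha1) (sub_ne_zero.2 hainv)) hw0
    have h3 := W.smul_mem ((a - 1) * (a - a⁻¹) * w 0)⁻¹ h''
    convert h3 using 1
    funext i
    fin_cases i <;> simp [d]
    field_simp
    rw [div_self]
    intro h
    exact hainv (eq_inv_of_mul_eq_one_left (by rw [← sq]; exact sub_eq_zero.1 h))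
  have hb : ∀ i, Pi.single i (1 : F) ∈ W := by
    have e0 : (Pi.single 0 (1 : F) : Fin 3 → F) = ![1, 0, 0] := by
      funext i; fin_cases i <;> simp
    have k1 := hPW _ hfirst
    have k2 := hPW _ k1
    intro i
    fin_cases i
    · simpa [← e0] using hfirst
    · convert k2 using 1; funext j; fin_cases j <;> simp [σ]
    · convert k1 using 1; funext j; fin_cases j <;> simp [σ]
  refine h1 (eq_top_iff.2 fun v _ => ?_)
  rw [show v = ∑ i, v i • (Pi.single i (1 : F) : Fin 3 → F) by
    funext j; simp [Finset.sum_apply, Pi.single_apply]]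
  exact W.sum_mem fun i _ => W.smul_mem _ (hb i)

/-- The projection of `SU₃` on a group isomorphic to `PSU₃`. -/
noncomputable def proj {X : Type*} [Group X] (e : X ≃* Cfsg.PSU 3 F q) : Cfsg.SU 3 F q →* X :=
  e.symm.toMonoidHom.comp (QuotientGroup.mk' (Subgroup.center (Cfsg.SU 3 F q)))

/-- Commuting involutions and one more involution stabilise a proper subspace. -/
theorem exists_stable [Fintype F] (hF : Fintype.card F = q ^ 2) (hq : Even q)
    {X : Type*} [Group X] (e : X ≃* Cfsg.PSU 3 F q) {E : Set X} {x : X}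
    (hE : ∀ a ∈ E, orderOf a = 2) (hx : orderOf x = 2) (hcomm : ∀ a ∈ E, ∀ b ∈ E, Commute a b) :
    ∃ W : Submodule F (Fin 3 → F), W ≠ ⊥ ∧ W ≠ ⊤ ∧
      Subgroup.closure (E ∪ {x}) ≤ (stab (q := q) W).map (proj e) := by
  classical
  haveI : Finite (Cfsg.SU 3 F q) := inferInstance
  set Z := Subgroup.center (Cfsg.SU 3 F q) with hZ
  set π : Cfsg.SU 3 F q →* X := proj e with hπdef
  have hπ : Function.Surjective π := e.symm.surjective.comp (QuotientGroup.mk'_surjective Z)
  have hker : ∀ g, π g = 1 ↔ g ∈ Z := fun g => by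
    show e.symm (QuotientGroup.mk' Z g) = 1 ↔ _
    rw [MulEquiv.map_eq_one_iff]; exact QuotientGroup.eq_one_iff g
  have hodd : Odd (Nat.card Z) := by
    have h2 : Odd (q + 1) := hq.add_one
    refine h2.of_dvd_nat ?_
    rw [hZ, Unitary.card_center_SU hF (by norm_num)]
    exact Nat.gcd_dvd_right _ _
  -- lifts of involutions
  have hlift : ∀ t : X, orderOf t = 2 → ∃ g, π g = t ∧ g * g = 1 ∧ g ≠ 1 := by
    intro t ht
    obtain ⟨g, rfl⟩ := hπ t
    have h2 : g * g ∈ Z := (hker _).1 (by rw [map_mul, Involution.mul_self ht])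
    refine ⟨g ^ Nat.card Z, ?_, ?_, ?_⟩
    · rw [map_pow]
      obtain ⟨m, hm⟩ := hodd
      rw [hm, pow_succ, pow_mul, pow_two, Involution.mul_self ht, one_pow, one_mul]
    · rw [← (Commute.refl g).mul_pow]
      exact congrArg Subtype.val (pow_card_eq_one' (x := (⟨g * g, h2⟩ : Z)))
    · intro h1
      have := congrArg π h1
      rw [map_pow, map_one] at this
      obtain ⟨m, hm⟩ := hodd
      rw [hm, pow_succ, pow_mul, pow_two, Involution.mul_self ht, one_pow, one_mul] at this
      exact Involution.ne_one ht this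
  choose! lift hl hl2 hl1 using hlift
  have hlc : ∀ a ∈ E, ∀ b ∈ E, Commute (lift a) (lift b) := by
    intro a ha b hb
    set A := lift a; set B := lift b
    have hAA : A * A = 1 := hl2 a (hE a ha)
    have hBB : B * B = 1 := hl2 b (hE b hb)
    set z := A * B * A * B with hz
    have hzZ : z ∈ Z := (hker _).1 (by
      rw [hz, map_mul, map_mul, map_mul, hl a (hE a ha), hl b (hE b hb),
        show a * b * a * b = a * b * (a * b) by group]
      exact mul_self_of_commute (Involution.mul_self (hE a ha)) (Involution.mul_self (hE b hb)) (hcomm a ha b hb))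
    have hz2 : z * z = 1 := by
      have hc : z * B = B * z := ((Subgroup.mem_center_iff.1 hzZ) B).symm
      have e1 : z * B = A * B * A := by rw [hz, mul_assoc _ B B, hBB, mul_one]
      have e2 : (z * B) * (z * B) = z * z := by
        calc (z * B) * (z * B) = z * (B * z) * B := by group
          _ = z * z * (B * B) := by rw [← hc]; group
          _ = z * z := by rw [hBB, mul_one]
      rw [← e2, e1, show A * B * A * (A * B * A) = A * B * (A * A) * B * A by group, hAA, mul_one,
        mul_assoc A B B, hBB, mul_one, hAA]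
    have hz1 : z = 1 := by
      obtain ⟨m, hm⟩ := hodd
      have h' : z ^ Nat.card Z = 1 := congrArg Subtype.val (pow_card_eq_one' (x := (⟨z, hzZ⟩ : Z)))
      rwa [hm, pow_succ, pow_mul, pow_two, hz2, one_pow, one_mul] at h'
    show A * B = B * A
    calc A * B = z * B⁻¹ * A⁻¹ := by rw [hz]; group
      _ = B * A := by rw [hz1, one_mul, inv_of_mul_self hAA, inv_of_mul_self hBB]
  haveI : CharP F 2 := by
    obtain ⟨p, hp⟩ := CharP.exists F
    haveI := hp
    haveI : Fact p.Prime := ⟨CharP.char_is_prime F p⟩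
    obtain ⟨n, -, hn⟩ := FiniteField.card F p
    have h2 : 2 ∣ p ^ (n : ℕ) := by rw [← hn, hF]; exact dvd_pow (even_iff_two_dvd.1 hq) two_ne_zero
    exact (Nat.prime_dvd_prime_iff_eq Nat.prime_two Fact.out).1 (Nat.prime_two.dvd_of_dvd_pow h2) ▸ hp
  have h3 : finrank F (Fin 3 → F) = 3 := by rw [Module.finrank_pi, Fintype.card_fin]
  set L := lift '' (E ∪ {x}) with hL
  have hLinv : ∀ g ∈ L, g * g = 1 ∧ g ≠ 1 := by
    rintro _ ⟨t, ht, rfl⟩
    have : orderOf t = 2 := by
      rcases ht with ht | rfl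
      · exact hE t ht
      · exact hx
    exact ⟨hl2 t this, hl1 t this⟩
  -- a common stable subspace
  obtain ⟨W, hW0, hW1, hWst⟩ : ∃ W : Submodule F (Fin 3 → F), W ≠ ⊥ ∧ W ≠ ⊤ ∧ ∀ g ∈ L, g ∈ stab W := by
    set N := fun t : X => shift (lift t) with hN
    have hrank : ∀ t ∈ E ∪ {x}, finrank F (LinearMap.range (N t)) = 1 := by
      intro t ht
      obtain ⟨hg, hg1⟩ := hLinv _ ⟨t, ht, rfl⟩
      refine le_antisymm (rank_le_one_of_sq h3 (shift_sq hg)) (Nat.one_le_iff_ne_zero.2 fun e0 => ?_)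
      exact shift_ne_zero hg1 (LinearMap.range_eq_bot.1 (Submodule.finrank_eq_zero.1 e0))
    have hkr : ∀ t ∈ E ∪ {x}, finrank F (LinearMap.ker (N t)) = 2 := by
      intro t ht
      have := LinearMap.finrank_range_add_finrank_ker (N t)
      rw [hrank t ht, h3] at this
      omega
    have hor : ∀ a ∈ E, ∀ b ∈ E, LinearMap.range (N a) = LinearMap.range (N b) ∨
        LinearMap.ker (N a) = LinearMap.ker (N b) := by
      intro a ha b hb
      obtain ⟨hA, hA1⟩ := hLinv _ ⟨a, Or.inl ha, rfl⟩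
      obtain ⟨hB, hB1⟩ := hLinv _ ⟨b, Or.inl hb, rfl⟩
      refine same_range_or_ker h3 (shift_sq hA) (shift_sq hB) (shift_ne_zero hA1) (shift_ne_zero hB1) ?_ ?_
      · intro v
        have h := LinearMap.congr_fun (congrArg shift (hlc a ha b hb).eq) v
        rw [shift_mul, shift_mul] at h
        simp only [LinearMap.add_apply, LinearMap.comp_apply] at h
        rw [add_comm (shift (lift b) v) (shift (lift a) v)] at h
        exact add_left_cancel h
      · rw [← shift_mul]
        exact shift_sq (mul_self_of_commute hA hB (hlc a ha b hb))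
    rcases E.eq_empty_or_nonempty with hE0 | ⟨e₀, he₀⟩
    · refine ⟨LinearMap.range (N x), ?_, ?_, ?_⟩
      · intro h
        have := hrank x (Or.inr rfl)
        rw [h, finrank_bot] at this; omega
      · intro h
        have := hrank x (Or.inr rfl)
        rw [h, finrank_top, h3] at this; omega
      · rintro _ ⟨t, ht, rfl⟩
        obtain rfl : t = x := by simpa [hE0] using ht
        exact mem_stab_of_shift (fun w _ => ⟨w, rfl⟩) (hLinv _ ⟨t, ht, rfl⟩).1
    by_cases hI : ∀ a ∈ E, LinearMap.range (N a) = LinearMap.range (N e₀)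
    · refine ⟨LinearMap.range (N e₀) ⊔ LinearMap.range (N x), ?_, ?_, ?_⟩
      · intro h
        have := hrank e₀ (Or.inl he₀)
        rw [le_bot_iff.1 (h ▸ le_sup_left : LinearMap.range (N e₀) ≤ ⊥), finrank_bot] at this; omega
      · intro h
        have h' := Submodule.finrank_sup_add_finrank_inf_eq (LinearMap.range (N e₀)) (LinearMap.range (N x))
        rw [h, finrank_top, h3, hrank e₀ (Or.inl he₀), hrank x (Or.inr rfl)] at h'; omega
      · rintro _ ⟨t, ht, rfl⟩
        refine mem_stab_of_shift (fun w _ => ?_) (hLinv _ ⟨t, ht, rfl⟩).1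
        rcases ht with ht | rfl
        · exact Submodule.mem_sup_left ((hI t ht).le ⟨w, rfl⟩)
        · exact Submodule.mem_sup_right ⟨w, rfl⟩
    · push Not at hI
      obtain ⟨b, hb, hbne⟩ := hI
      have hKb := (hor b hb e₀ he₀).resolve_left hbne
      have hK : ∀ a ∈ E, LinearMap.ker (N a) = LinearMap.ker (N e₀) := by
        intro a ha
        by_cases h : LinearMap.range (N a) = LinearMap.range (N e₀)
        · have := (hor a ha b hb).resolve_left fun e' => hbne (e'.symm.trans h)
          exact this.trans hKb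
        · exact (hor a ha e₀ he₀).resolve_left h
      refine ⟨LinearMap.ker (N e₀) ⊓ LinearMap.ker (N x), ?_, ?_, ?_⟩
      · intro h
        have h' := Submodule.finrank_sup_add_finrank_inf_eq (LinearMap.ker (N e₀)) (LinearMap.ker (N x))
        rw [h, finrank_bot, hkr e₀ (Or.inl he₀), hkr x (Or.inr rfl)] at h'
        have := Submodule.finrank_le (LinearMap.ker (N e₀) ⊔ LinearMap.ker (N x))
        omega
      · intro h
        have := hkr e₀ (Or.inl he₀)
        rw [top_le_iff.1 (h ▸ inf_le_left : ⊤ ≤ LinearMap.ker (N e₀)), finrank_top, h3] at this; omega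
      · rintro _ ⟨t, ht, rfl⟩
        refine mem_stab_of_shift (fun w hw => ?_) (hLinv _ ⟨t, ht, rfl⟩).1
        obtain ⟨hw1, hw2⟩ := Submodule.mem_inf.1 hw
        have : N t w = 0 := by
          rcases ht with ht | rfl
          · exact LinearMap.mem_ker.1 ((hK t ht).ge hw1)
          · exact LinearMap.mem_ker.1 hw2
        show N t w ∈ _
        rw [this]; exact Submodule.zero_mem _
  refine ⟨W, hW0, hW1, (Subgroup.closure_le _).2 fun t ht => ⟨lift t, hWst _ ⟨t, ht, rfl⟩, hl t ?_⟩⟩
  rcases ht with ht | rfl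
  · exact hE t ht
  · exact hx

/-- `PSU₃(q)` for even `q` is not generated by commuting involutions and one more involution. -/
theorem psu_three_not_generated [Fintype F] (hF : Fintype.card F = q ^ 2) (hq : Even q) (hq2 : 2 ≤ q)
    {X : Type*} [Group X] (e : X ≃* Cfsg.PSU 3 F q) {E : Set X} {x : X}
    (hgen : Subgroup.closure (E ∪ {x}) = ⊤) (hE : ∀ a ∈ E, orderOf a = 2) (hx : orderOf x = 2)
    (hcomm : ∀ a ∈ E, ∀ b ∈ E, Commute a b) : False := by
  obtain ⟨W, hW0, hW1, hle⟩ := exists_stable hF hq e hE hx hcomm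
  rw [hgen] at hle
  refine stab_ne_top hF hq hq2 hW0 hW1 (eq_top_iff.2 fun g _ => ?_)
  obtain ⟨m, hm, he⟩ := hle (Subgroup.mem_top (proj e g))
  have hmz : m⁻¹ * g ∈ Subgroup.center (Cfsg.SU 3 F q) := by
    have h1 : proj e (m⁻¹ * g) = 1 := by rw [map_mul, map_inv, he, inv_mul_cancel]
    change e.symm (QuotientGroup.mk' _ (m⁻¹ * g)) = 1 at h1
    rw [MulEquiv.map_eq_one_iff] at h1
    exact (QuotientGroup.eq_one_iff _).1 h1
  rw [show g = m * (m⁻¹ * g) by group]
  exact mul_mem hm (center_le_stab (by rw [Nat.card_eq_fintype_card, hF]) W hmz)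

section squares

variable {K V : Type*} [Field K] [AddCommGroup V] [Module K V] [FiniteDimensional K V]

theorem sq_eq_zero_of_nilpotent {N : Module.End K V} (hN : IsNilpotent N) (h : finrank K V ≤ 2) :
    N ^ 2 = 0 := by
  have h1 : N.charpoly = Polynomial.X ^ finrank K V := hN.charpoly_eq_X_pow_finrank
  have h2 := N.aeval_self_charpoly
  rw [h1, map_pow, Polynomial.aeval_X] at h2
  exact pow_eq_zero_of_le h h2

theorem sq_mem_and_kills (h3 : finrank K V = 3) {W : Submodule K V} (h0 : W ≠ ⊥) (h1 : W ≠ ⊤)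
    {N : Module.End K V} {n : ℕ} (hN : N ^ n = 0) (hW : ∀ w ∈ W, N w ∈ W) :
    (∀ v, N (N v) ∈ W) ∧ ∀ w ∈ W, N (N w) = 0 := by
  have hWd : 1 ≤ finrank K W ∧ finrank K W ≤ 2 := by
    refine ⟨Nat.one_le_iff_ne_zero.2 fun e => h0 (Submodule.finrank_eq_zero.1 e), ?_⟩
    have := Submodule.finrank_lt h1
    omega
  constructor
  · intro v
    have hq := W.finrank_quotient_add_finrank
    have hle : W ≤ W.comap N := hW
    have e2 : ∀ k, ∀ v, ((W.mapQ W N hle) ^ k) (Submodule.Quotient.mk v) = Submodule.Quotient.mk ((N ^ k) v) := by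
      intro k
      induction k with
      | zero => intro v; simp
      | succ k ih => intro v; rw [pow_succ, pow_succ, Module.End.mul_apply, Module.End.mul_apply,
          Submodule.mapQ_apply, ih]
    have h2 := sq_eq_zero_of_nilpotent (N := W.mapQ W N hle) ⟨n, LinearMap.ext fun u => by
      obtain ⟨u, rfl⟩ := Submodule.Quotient.mk_surjective W u
      rw [e2, hN]; rfl⟩ (by omega)
    have := e2 2 v
    rw [h2, LinearMap.zero_apply, eq_comm, Submodule.Quotient.mk_eq_zero, sq, Module.End.mul_apply] at this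
    exact this
  · intro w hw
    set M : Module.End K W := N.restrict hW with hM
    have e2 : ∀ k, ∀ u : W, (((M ^ k) u : W) : V) = (N ^ k) (u : V) := by
      intro k
      induction k with
      | zero => intro u; simp
      | succ k ih => intro u; rw [pow_succ, pow_succ, Module.End.mul_apply, Module.End.mul_apply, ih]; rfl
    have h2 := sq_eq_zero_of_nilpotent (N := M) ⟨n, LinearMap.ext fun u => Subtype.ext (by
      rw [e2, hN]; rfl)⟩ (by omega)
    have := e2 2 ⟨w, hw⟩
    rw [h2, LinearMap.zero_apply, ZeroMemClass.coe_zero, eq_comm, sq, Module.End.mul_apply] at this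
    exact this

end squares

theorem shift_pow_two [CharP F 2] (g : Cfsg.SU 3 F q) (k : ℕ) :
    shift (g ^ 2 ^ k) = (shift g : Module.End F (Fin 3 → F)) ^ 2 ^ k := by
  induction k with
  | zero => simp
  | succ k ih =>
    rw [pow_succ, pow_mul, pow_mul, sq, shift_mul, ih, sq]
    refine LinearMap.ext fun v => ?_
    simp only [LinearMap.add_apply, LinearMap.comp_apply, Module.End.mul_apply]
    funext i
    simp [CharTwo.add_self_eq_zero]

/-- In the image of such a stabiliser the squares of 2-elements commute. -/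
theorem psu_three_squares_commute [Fintype F] (hF : Fintype.card F = q ^ 2) (hq : Even q)
    {X : Type*} [Group X] (e : X ≃* Cfsg.PSU 3 F q) {E : Set X} {x : X}
    (hE : ∀ a ∈ E, orderOf a = 2) (hx : orderOf x = 2) (hcomm : ∀ a ∈ E, ∀ b ∈ E, Commute a b)
    {g k : X} (hg : g ∈ Subgroup.closure (E ∪ {x})) (hk : k ∈ Subgroup.closure (E ∪ {x}))
    (hg2 : ∃ n : ℕ, g ^ 2 ^ n = 1) (hk2 : ∃ n : ℕ, k ^ 2 ^ n = 1) : Commute (g * g) (k * k) := by
  classical
  haveI : CharP F 2 := by
    obtain ⟨p, hp⟩ := CharP.exists F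
    haveI := hp
    haveI : Fact p.Prime := ⟨CharP.char_is_prime F p⟩
    obtain ⟨n, -, hn⟩ := FiniteField.card F p
    have h2 : 2 ∣ p ^ (n : ℕ) := by rw [← hn, hF]; exact dvd_pow (even_iff_two_dvd.1 hq) two_ne_zero
    exact (Nat.prime_dvd_prime_iff_eq Nat.prime_two Fact.out).1 (Nat.prime_two.dvd_of_dvd_pow h2) ▸ hp
  obtain ⟨W, hW0, hW1, hle⟩ := exists_stable hF hq e hE hx hcomm
  set Z := Subgroup.center (Cfsg.SU 3 F q) with hZ
  have hodd : Odd (Nat.card Z) := by
    refine hq.add_one.of_dvd_nat ?_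
    rw [hZ, Unitary.card_center_SU hF (by norm_num)]
    exact Nat.gcd_dvd_right _ _
  have h3 : finrank F (Fin 3 → F) = 3 := by rw [Module.finrank_pi, Fintype.card_fin]
  have key : ∀ t : X, t ∈ Subgroup.closure (E ∪ {x}) → (∃ n : ℕ, t ^ 2 ^ n = 1) →
      ∃ γ : Cfsg.SU 3 F q, proj e γ = t ∧ (∀ v, shift (γ * γ) v ∈ W) ∧ ∀ w ∈ W, shift (γ * γ) w = 0 := by
    rintro t ht ⟨n, hn⟩
    obtain ⟨γ₀, hγ₀, rfl⟩ := hle ht
    have hz : γ₀ ^ 2 ^ n ∈ Z := by
      rw [← map_pow] at hn
      change e.symm (QuotientGroup.mk' Z (γ₀ ^ 2 ^ n)) = 1 at hn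
      rw [MulEquiv.map_eq_one_iff] at hn
      exact (QuotientGroup.eq_one_iff _).1 hn
    have h1 : (γ₀ ^ Nat.card Z) ^ 2 ^ n = 1 := by
      rw [← pow_mul, mul_comm, pow_mul]
      exact congrArg Subtype.val (pow_card_eq_one' (x := (⟨_, hz⟩ : Z)))
    obtain ⟨j, hj⟩ := exists_pow_eq_self_of_coprime (x := proj e γ₀) (n := Nat.card Z) (by
      exact ((Nat.coprime_two_right.2 hodd).pow_right n).coprime_dvd_right (orderOf_dvd_of_pow_eq_one hn))
    refine ⟨(γ₀ ^ Nat.card Z) ^ j, by rw [map_pow, map_pow, hj], ?_⟩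
    set γ := (γ₀ ^ Nat.card Z) ^ j with hγ
    have hγst : γ ∈ stab W := pow_mem (pow_mem hγ₀ _) _
    have hγn : γ ^ 2 ^ n = 1 := by rw [hγ, ← pow_mul, mul_comm, pow_mul, h1, one_pow]
    have hW : ∀ w ∈ W, (shift γ : Module.End F (Fin 3 → F)) w ∈ W := fun w hw => by
      rw [shift_apply]; exact W.sub_mem ((hγst w).2 hw) hw
    have hnil : (shift γ : Module.End F (Fin 3 → F)) ^ 2 ^ n = 0 := by
      rw [← shift_pow_two, hγn, shift_one]
    obtain ⟨hA, hB⟩ := sq_mem_and_kills h3 hW0 hW1 hnil hW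
    have e1 : shift (γ * γ) = (shift γ : Module.End F (Fin 3 → F)) * shift γ := by
      rw [← sq, ← sq, ← pow_one 2, shift_pow_two]
    rw [e1]
    exact ⟨hA, hB⟩
  obtain ⟨γ, rfl, hγV, hγW⟩ := key g hg hg2
  obtain ⟨δ, rfl, hδV, hδW⟩ := key k hk hk2
  rw [← map_mul, ← map_mul]
  refine Commute.map ?_ _
  refine Subtype.ext (Subtype.ext ?_)
  have e1 : shift (γ * γ * (δ * δ)) = shift (δ * δ * (γ * γ)) := by
    rw [shift_mul, shift_mul (δ * δ)]
    refine LinearMap.ext fun v => ?_
    simp only [LinearMap.add_apply, LinearMap.comp_apply, hγW _ (hδV v), hδW _ (hγV v), add_zero]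
    exact add_comm _ _
  exact sub_left_inj.1 ((Matrix.toLin' (R := F) (n := Fin 3) (m := Fin 3)).injective e1)

end unitary

end Cfsg.Agent.OddTrans
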