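/-
The group generated by a class of members commuting alike and an odd partner (owner: helper28).

Main results (namespace `Cfsg.Agent.OddTrans`):
* `Hyp.sameC_of_commute` : with trivial 2-core and two different members in the class, commuting
  members commute alike, so the commuting graph is disconnected
* `Hyp.classify` : given Aschbacher's criterion, the group is `L₂(2^n)` or `Sz(2^(2m+1))`
-/
import Cfsg.Agent.Lib.OddTrans.SameClass
import Cfsg.Agent.Lib.OddTrans.UnitaryExcl
import Cfsg.Agent.Lib.OddTrans.OddSylow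
import Cfsg.Agent.Lib.RootConnected.Connected
import Cfsg.Agent.Lib.Bender.Final
import Cfsg.Agent.Lib.Bender.RankOneHalf
import Cfsg.Agent.Lib.Transfer.AbelianHall
import Cfsg.Agent.Lib.SuzukiRankOne.Suzuki.Main

set_option autoImplicit false
set_option linter.unusedSectionVars false
set_option linter.style.haveILetI false

namespace Cfsg.Agent.OddTrans

open Cfsg

universe u

variable {G : Type u} [Group G]

theorem OT.commute_of_conj {D : Set G} (hD : OT D) {a b : G} (ha : a ∈ D) (hb : b ∈ D)
    (h : Commute a (b * a * b)) : Commute a b := by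
  by_contra hc
  have ho := hD.odd_of ha hb hc
  have h9 : orderOf (a * b) ∣ 4 := orderOf_dvd_of_pow_eq_one (by
    rw [show (a * b) ^ 4 = a * (b * a * b) * (a * (b * a * b)) by simp [pow_succ, mul_assoc]]
    exact mul_self_of_commute (hD.mul_self ha) (hD.mul_self (hD.conj' (hD.mul_self hb) ha)) h)
  have h10 : orderOf (a * b) = 1 :=
    Nat.eq_one_of_dvd_coprimes ((Nat.coprime_two_left.2 ho).pow_left 2) (by simpa using h9) dvd_rfl
  exact hc (hD.mul_eq_one hb (orderOf_eq_one_iff.1 h10) ▸ Commute.refl b)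

theorem OT.toRootInvolutionSet {D : Set G} (hD : OT D) (hgen : Subgroup.closure D = ⊤) :
    IsRootInvolutionSet D where
  orderOf_eq := hD.inv
  generates := hgen
  conj_mem := fun d hd g => hD.conj g d hd
  pair := fun a ha b hb => (hD.pair a ha b hb).elim (fun h => Or.inl h.eq) (fun h => Or.inr (Or.inl h))

/-- `E` consists of members commuting alike with `d`, the group is generated by `E` and a member `x`
not commuting with `d`, and `E` has a second element. -/
structure Hyp (D E : Set G) (d x : G) : Prop where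
  ot : OT D
  core : pCore 2 G = ⊥
  memd : d ∈ D
  memx : x ∈ D
  ncomm : ¬ Commute d x
  sub : ∀ e ∈ E, e ∈ D ∧ SameC D d e
  gen : Subgroup.closure (E ∪ {x}) = ⊤
  two : ∃ e ∈ E, e ≠ d

namespace Hyp

variable {D E : Set G} {d x : G} (h : Hyp D E d x)
include h

theorem closure_eq : Subgroup.closure D = ⊤ := by
  rw [eq_top_iff, ← h.gen, Subgroup.closure_le]
  rintro e (he | rfl)
  · exact Subgroup.subset_closure (h.sub e he).1
  · exact Subgroup.subset_closure h.memx

theorem eq_one_of_commute_gen [Finite G] {u : G} (hu : u * u = 1) (hE : ∀ e ∈ E, Commute u e)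
    (hx : Commute u x) : u = 1 := by
  have hc : ∀ g : G, Commute u g := by
    intro g
    have hle : Subgroup.closure (E ∪ {x}) ≤ Subgroup.centralizer ({u} : Set G) := by
      rw [Subgroup.closure_le]
      rintro e (he | rfl)
      · exact Subgroup.mem_centralizer_singleton_iff.2 (hE e he).symm.eq
      · exact Subgroup.mem_centralizer_singleton_iff.2 hx.symm.eq
    rw [h.gen] at hle
    exact (Subgroup.mem_centralizer_singleton_iff.1 (hle (Subgroup.mem_top g))).symm
  have := mem_pCore_of_central hu hc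
  rwa [h.core, Subgroup.mem_bot] at this

/-- A member commuting with `d` commutes alike. -/
theorem sameC_of_commute [Finite G] {a : G} (ha : a ∈ D) (had : Commute a d) : SameC D d a := by
  classical
  by_contra hns
  have hax : ¬ Commute a x := fun e => Involution.ne_one (h.ot.inv a ha)
    (h.eq_one_of_commute_gen (h.ot.mul_self ha) (fun b hb => ((h.sub b hb).2 a ha).1 had) e)
  have hae : ∀ e ∈ D, SameC D d e → e ≠ a := fun e _ hs e' => hns (e' ▸ hs)
  -- every pair is of commuting type
  have hA : ∀ e ∈ D, SameC D d e → Commute x (a * e * x * (a * e)) := by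
    intro e he hs
    by_contra hB
    have hc : Commute a e := (hs a ha).1 had
    have hu := mul_self_of_commute (h.ot.mul_self ha) (h.ot.mul_self he) hc
    obtain ⟨k, hk, hek, hkx, hkv, -⟩ := h.ot.exists_middle h.memx hu hB
    have hka : Commute k a := h.ot.commute_of_commute_mul ha he hk hc (hae e he hs).symm hkv
    have hke : Commute k e := h.ot.commute_of_commute_mul_right ha he hk hc (hae e he hs).symm hkv
    have hw : k * (a * e) = 1 := by
      refine h.eq_one_of_commute_gen (mul_self_of_commute (h.ot.mul_self hk) hu hkv) (fun b hb => ?_) ?_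
      · obtain ⟨hbD, hbs⟩ := h.sub b hb
        have hsb : SameC D e b := hs.symm.trans hbs
        exact ((hsb k hk).1 hke).mul_left (((hsb a ha).1 hc).mul_left ((hsb e he).1 (Commute.refl e)))
      · show k * (a * e) * x = x * (k * (a * e))
        calc k * (a * e) * x = k * (a * e * x * (a * e)) * (a * e) := by
              rw [show k * (a * e * x * (a * e)) * (a * e) = k * (a * e) * x * (a * e * (a * e)) by group,
                hu, mul_one]
          _ = k * (k * x * k) * (a * e) := by rw [hek]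
          _ = x * (k * (a * e)) := by
              rw [show k * (k * x * k) * (a * e) = k * k * x * (k * (a * e)) by group, h.ot.mul_self hk,
                one_mul]
    have hkeq : k = a * e := by rwa [mul_eq_one_iff_eq_inv, inv_of_mul_self hu] at hw
    refine hns (h.ot.sameC_of_subset
      ((h.ot.isConj h.memd h.memx h.ncomm).trans (h.ot.isConj ha h.memx hax).symm) fun y hy hyd => ?_)
    have hye : Commute y e := (hs y hy).1 hyd
    have e1 : e = a * k := by rw [hkeq, ← mul_assoc, h.ot.mul_self ha, one_mul]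
    refine h.ot.commute_of_commute_mul ha hk hy hka.symm (fun e' => ?_) (e1 ▸ hye)
    exact Involution.ne_one (h.ot.inv e he) (by rw [e1, ← e', h.ot.mul_self ha])
  obtain ⟨e, he, hne⟩ := h.two
  obtain ⟨heD, hes⟩ := h.sub e he
  have hde : Commute d e := (hes d h.memd).1 (Commute.refl d)
  obtain ⟨hl, hls⟩ := mul_mem_of_sameC h.ot h.core h.memd heD hde hne.symm hes
  set l := d * e with hldef
  have hll := h.ot.mul_self hl
  have hconj : ∀ b ∈ D, SameC D d b → Commute (a * x * a) (b * x * b) := by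
    intro b hb hs
    have hc : Commute a b := (hs a ha).1 had
    have h1 := (conj_commute_iff (v := a)).2 (hA b hb hs)
    rw [h.ot.inv_eq ha] at h1
    have e1 : a * (a * b * x * (a * b)) * a = b * x * b := by
      rw [show a * (a * b * x * (a * b)) * a = a * a * b * x * (a * b * a) by group, h.ot.mul_self ha,
        one_mul, hc.eq, mul_assoc b a a, h.ot.mul_self ha, mul_one]
    rwa [e1] at h1
  have hxl : ¬ Commute x l := fun hc => h.ncomm ((hls x h.memx).2 hc).symm
  have hzD : e * x * e ∈ D := h.ot.conj' (h.ot.mul_self heD) h.memx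
  have hlz : ¬ Commute l (e * x * e) := by
    intro hc
    have h1 := (conj_commute_iff (v := e)).2 hc
    have hel : Commute e l := hde.symm.mul_right (Commute.refl e)
    rw [conj_eq_of_commute hel, h.ot.inv_eq heD,
      show e * (e * x * e) * e = e * e * x * (e * e) by group, h.ot.mul_self heD, one_mul, mul_one] at h1
    exact hxl h1.symm
  obtain ⟨k, hk, hek, hkz, hkl, hmid⟩ := h.ot.exists_middle hzD hll
    (fun hc => hlz ((h.ot.commute_of_conj hzD hl hc).symm))
  have hkl' : k = l := h.ot.middle_unique hzD hk hl hkz hkl hek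
  have hlex : l * (e * x * e) * l = d * x * d := by
    rw [hldef, show d * e * (e * x * e) * (d * e) = d * (e * e) * x * (e * d) * e by group,
      h.ot.mul_self heD, mul_one, ← hde.eq,
      show d * x * (d * e) * e = d * x * d * (e * e) by group, h.ot.mul_self heD, mul_one]
  have hc1 : Commute (a * x * a) l :=
    hkl' ▸ hmid _ (hconj e heD hes) (hlex.symm ▸ hconj d h.memd (SameC.refl D d))
  have h2 := (conj_commute_iff (v := a)).2 hc1
  have hal : Commute a l := ((hls a ha).1 had)
  rw [conj_eq_of_commute hal, h.ot.inv_eq ha,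
    show a * (a * x * a) * a = a * a * x * (a * a) by group, h.ot.mul_self ha, one_mul, mul_one] at h2
  exact hxl h2

theorem isConj_mem [Finite G] {a : G} (ha : a ∈ D) : IsConj d a := by
  by_cases hc : Commute a d
  · have hax : ¬ Commute a x := fun e => h.ncomm
      ((((h.sameC_of_commute ha hc) x h.memx).2 e.symm).symm)
    exact (h.ot.isConj h.memd h.memx h.ncomm).trans (h.ot.isConj ha h.memx hax).symm
  · exact h.ot.isConj h.memd ha fun e => hc e.symm

/-- Commuting members commute alike. -/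
theorem sameC_of_comm [Finite G] {a b : G} (ha : a ∈ D) (hb : b ∈ D) (hab : Commute a b) :
    SameC D a b := by
  obtain ⟨g, rfl⟩ := isConj_iff.1 (h.isConj_mem ha)
  have hb' := h.ot.conj g⁻¹ b hb
  have hc : Commute (g⁻¹ * b * g⁻¹⁻¹) d := by
    have h1 := (conj_commute_iff (v := g⁻¹)).2 hab.symm
    rwa [show g⁻¹ * (g * d * g⁻¹) * g⁻¹⁻¹ = d by group] at h1
  have h2 := h.ot.sameC_conj g (h.sameC_of_commute hb' hc)
  rwa [show g * (g⁻¹ * b * g⁻¹⁻¹) * g⁻¹ = b by group] at h2

theorem mul_mem [Finite G] {a b : G} (ha : a ∈ D) (hb : b ∈ D) (hab : Commute a b) (hne : a ≠ b) :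
    a * b ∈ D :=
  (mul_mem_of_sameC h.ot h.core ha hb hab hne (h.sameC_of_comm ha hb hab)).1

theorem exists_partner [Finite G] {a : G} (ha : a ∈ D) : ∃ y ∈ D, ¬ Commute a y := by
  obtain ⟨g, rfl⟩ := isConj_iff.1 (h.isConj_mem ha)
  exact ⟨g * x * g⁻¹, h.ot.conj g x h.memx, fun e => h.ncomm (conj_commute_iff.1 e)⟩

/-- A normal subgroup moving every member inside its block is central. -/
theorem central_of_normal [Finite G] (N : Subgroup G) [hN : N.Normal]
    (hblock : ∀ n ∈ N, ∀ b ∈ D, Commute (n * b * n⁻¹) b) : N ≤ Subgroup.center G := by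
  intro n hn
  have hnD : ∀ b ∈ D, Commute n b := by
    intro b hb
    by_contra hc
    have hne : n * b * n⁻¹ ≠ b := fun e => hc (commute_of_conj_eq e)
    set l := n * b * n⁻¹ * b with hl
    have hlD : l ∈ D := h.mul_mem (h.ot.conj n b hb) hb (hblock n hn b hb) hne
    have hlN : l ∈ N := by
      have e : l = n * (b * n⁻¹ * b⁻¹) := by rw [hl, h.ot.inv_eq hb]; group
      rw [e]
      exact N.mul_mem hn (hN.conj_mem _ (N.inv_mem hn) b)
    obtain ⟨y, hy, hly⟩ := h.exists_partner hlD
    have h1 := hblock l hlN y hy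
    rw [h.ot.inv_eq hlD] at h1
    exact hly (h.ot.commute_of_conj hy hlD h1.symm).symm
  rw [Subgroup.mem_center_iff]
  intro g
  have hle : Subgroup.closure D ≤ Subgroup.centralizer ({n} : Set G) := by
    rw [Subgroup.closure_le]
    exact fun b hb => Subgroup.mem_centralizer_singleton_iff.2 (hnD b hb).symm.eq
  rw [h.closure_eq] at hle
  exact Subgroup.mem_centralizer_singleton_iff.1 (hle (Subgroup.mem_top g))

theorem odd_center [Finite G] : Odd (Nat.card (Subgroup.center G)) := by
  rw [← Nat.not_even_iff_odd, even_iff_two_dvd]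
  intro h2
  haveI : Fact (Nat.Prime 2) := ⟨Nat.prime_two⟩
  obtain ⟨⟨u, hu⟩, hou⟩ := exists_prime_orderOf_dvd_card' 2 h2
  have huu : u * u = 1 := congrArg Subtype.val (Involution.mul_self hou)
  have := h.eq_one_of_commute_gen huu (fun e _ => (Subgroup.mem_center_iff.1 hu e).symm)
    (Subgroup.mem_center_iff.1 hu x).symm
  exact Involution.ne_one hou (Subtype.ext this)

/-- The group is perfect. -/
theorem commutator_eq_top [Finite G] : commutator G = ⊤ := by
  rw [eq_top_iff, ← h.closure_eq, Subgroup.closure_le]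
  obtain ⟨e, he, hne⟩ := h.two
  obtain ⟨heD, hes⟩ := h.sub e he
  have hde : Commute d e := (hes d h.memd).1 (Commute.refl d)
  have hl : d * e ∈ D := h.mul_mem h.memd heD hde hne.symm
  intro a ha
  have hcl : ∀ b ∈ D, Abelianization.of b = Abelianization.of d := fun b hb => by
    obtain ⟨g, rfl⟩ := isConj_iff.1 (h.isConj_mem hb)
    rw [map_mul, map_mul, map_inv, mul_comm (Abelianization.of g), mul_inv_cancel_right]
  show a ∈ commutator G
  rw [← Abelianization.ker_of, MonoidHom.mem_ker, hcl a ha]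
  have h1 := hcl _ hl
  rwa [map_mul, hcl e heD, mul_eq_left] at h1

end Hyp

section center

variable [Finite G]

theorem commute_map_center_iff {D : Set G} (hD : OT D) {a b : G} (ha : a ∈ D) (hb : b ∈ D) :
    Commute (QuotientGroup.mk' (Subgroup.center G) a) (QuotientGroup.mk' (Subgroup.center G) b) ↔
      Commute a b := by
  refine ⟨fun e => ?_, fun e => e.map _⟩
  set f := QuotientGroup.mk' (Subgroup.center G) with hf
  have hz : a * b * (a * b) ∈ Subgroup.center G := (QuotientGroup.eq_one_iff (a * b * (a * b))).1 (by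
    show f (a * b * (a * b)) = 1
    rw [map_mul, map_mul]
    exact mul_self_of_commute (by rw [← map_mul, hD.mul_self ha, map_one])
      (by rw [← map_mul, hD.mul_self hb, map_one]) e)
  refine hD.commute_of_conj ha hb ?_
  have e1 : a * b * (a * b) = a * (b * a * b) := by group
  have hbab := hD.mul_self (hD.conj' (hD.mul_self hb) ha)
  have hc := Subgroup.mem_center_iff.1 hz a
  rw [e1, ← mul_assoc a a, hD.mul_self ha, one_mul] at hc
  show a * (b * a * b) = b * a * b * a
  calc a * (b * a * b) = a * (b * a * b) * a * a := by rw [mul_assoc _ a a, hD.mul_self ha, mul_one]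
    _ = b * a * b * a := by rw [← hc]

end center

namespace Hyp

variable [Finite G] {D E : Set G} {d x : G} (h : Hyp D E d x)
include h

/-- **The rank one group.** -/
theorem classify (hA : Aschbacher.CoreFreeCriterion.{u}) :
    (∃ (F : Type) (_ : Field F) (_ : Fintype F), CharP F 2 ∧ 4 ≤ Fintype.card F ∧
        Nonempty (G ≃* Matrix.ProjectiveSpecialLinearGroup (Fin 2) F)) ∨
      Cfsg.Lie.IsoSuzuki G := by
  classical
  set Z := Subgroup.center G with hZ
  set f := QuotientGroup.mk' Z with hf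
  have hfs : Function.Surjective f := QuotientGroup.mk'_surjective Z
  have hf1 : ∀ a ∈ D, f a ≠ 1 := by
    intro a ha e
    obtain ⟨y, hy, hay⟩ := h.exists_partner ha
    exact hay (Subgroup.mem_center_iff.1 ((QuotientGroup.eq_one_iff a).1 e) y).symm
  set D' := (f '' D) \ {1} with hD'
  have hOT := h.ot.map hfs
  have hmem : ∀ a ∈ D, f a ∈ D' := fun a ha => ⟨⟨a, ha, rfl⟩, hf1 a ha⟩
  have hgen' : Subgroup.closure D' = ⊤ := by
    rw [eq_top_iff, ← Subgroup.map_top_of_surjective f hfs, ← h.closure_eq, MonoidHom.map_closure]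
    exact Subgroup.closure_mono fun y ⟨a, ha, e⟩ => e ▸ hmem a ha
  have hR := hOT.toRootInvolutionSet hgen'
  have hreach : ∀ {a : G}, a ∈ D → ∀ {c}, Relation.ReflTransGen (CommAdj D') (f a) c →
      ∃ b ∈ D, f b = c ∧ Commute a b := by
    intro a ha c hc
    induction hc with
    | refl => exact ⟨a, ha, rfl, Commute.refl a⟩
    | tail _ e ih =>
      obtain ⟨b, hb, rfl, hab⟩ := ih
      obtain ⟨⟨b', hb', rfl⟩, -⟩ := e.2.1
      have hbb' : Commute b b' := (commute_map_center_iff h.ot hb hb').1 e.2.2.2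
      exact ⟨b', hb', rfl, ((h.sameC_of_comm hb hb' hbb') a ha).1 hab⟩
  have hnr : ¬ Relation.ReflTransGen (CommAdj D') (f d) (f x) := by
    intro hr
    obtain ⟨b, hb, e, hc⟩ := hreach h.memd hr
    refine h.ncomm ((commute_map_center_iff h.ot h.memd h.memx).1 ?_)
    rw [← e]; exact hc.map f
  set B := RootConnected.blockStab hR (f d) with hB
  have hBcore : B.normalCore = ⊥ := by
    refine eq_bot_iff.2 fun c hc => ?_
    haveI : (B.normalCore.comap f).Normal := (inferInstance : B.normalCore.Normal).comap f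
    have hle : B.normalCore.comap f ≤ Z := h.central_of_normal _ fun n hn b hb => by
      obtain ⟨k, rfl⟩ := isConj_iff.1 (h.isConj_mem hb)
      have hn' : f (k⁻¹ * n * k) ∈ B := B.normalCore_le (by
        have := (inferInstance : (B.normalCore.comap f).Normal).conj_mem n hn k⁻¹
        rwa [inv_inv] at this)
      obtain ⟨b', hb', e, hc'⟩ := hreach h.memd
        (show Relation.ReflTransGen (CommAdj D') (f d) (f (k⁻¹ * n * k) * f d * (f (k⁻¹ * n * k))⁻¹) from hn')
      rw [← map_inv, ← map_mul, ← map_mul] at e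
      have h1 : Commute (f d) (f (k⁻¹ * n * k * d * (k⁻¹ * n * k)⁻¹)) := e ▸ hc'.map f
      have h2 := (commute_map_center_iff h.ot h.memd (h.ot.conj _ d h.memd)).1 h1
      have h3 := (conj_commute_iff (v := k)).2 h2
      rw [show k * (k⁻¹ * n * k * d * (k⁻¹ * n * k)⁻¹) * k⁻¹ = n * (k * d * k⁻¹) * n⁻¹ by group] at h3
      exact h3.symm
    obtain ⟨n, rfl⟩ := hfs c
    rw [Subgroup.mem_bot]
    exact (QuotientGroup.eq_one_iff n).2 (hle hc)
  have P := RootConnected.oddClass hR (hmem d h.memd) (hmem x h.memx) hnr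
  haveI hfaith : FaithfulSMul (G ⧸ Z) ((G ⧸ Z) ⧸ B) := Bender.faithful_of_normalCore hBcore
  have hne : Aschbacher.pointOf B (f d) (f d) ≠ Aschbacher.pointOf B (f d) (f x) := by
    intro e
    have h1 := P.odd_order (f d) (hmem d h.memd) (f x) (hmem x h.memx)
    obtain ⟨g, hg⟩ := isConj_iff.1 (RootConnected.isConj_of_disconnected hR (hmem d h.memd) (hmem x h.memx) hnr
      (hmem x h.memx))
    have hiff := RootConnected.conj_mem_blockStab_iff hR (hmem d h.memd)
    have e1 : Aschbacher.pointOf B (f d) (f d) = ((1 : G ⧸ Z) : (G ⧸ Z) ⧸ B) := by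
      simpa using Aschbacher.pointOf_eq hiff 1
    rw [e1, ← hg, Aschbacher.pointOf_eq hiff, QuotientGroup.eq, inv_one, one_mul] at e
    exact hnr (hg ▸ (e : Relation.ReflTransGen (CommAdj D') (f d) (g * f d * g⁻¹)))
  obtain ⟨o, hSE⟩ := P.isStronglyEmbedded hA hgen' hne
  set H := MulAction.stabilizer (G ⧸ Z) o with hH
  have hHcore : H.normalCore = ⊥ := by
    refine eq_bot_iff.2 fun n hn => ?_
    rw [Subgroup.mem_bot]
    refine eq_of_smul_eq_smul (α := (G ⧸ Z) ⧸ B) fun p => ?_
    obtain ⟨g, rfl⟩ := MulAction.exists_smul_eq (G ⧸ Z) o p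
    have h1 := MulAction.mem_stabilizer_iff.1 (H.normalCore_le
      ((inferInstance : H.normalCore.Normal).conj_mem n hn g⁻¹))
    rw [inv_inv, mul_smul, mul_smul, inv_smul_eq_iff] at h1
    rw [one_smul]
    exact h1
  obtain ⟨e, he, hned⟩ := h.two
  obtain ⟨heD, hes⟩ := h.sub e he
  have hde : Commute d e := (hes d h.memd).1 (Commute.refl d)
  have hfde : f d ≠ f e := by
    intro e'
    have hl := h.mul_mem h.memd heD hde hned.symm
    refine hf1 _ hl ?_
    rw [map_mul, e', ← map_mul, h.ot.mul_self heD, map_one]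
  have h2 : SuzukiRankOne.TwoInvolutions (G ⧸ Z) :=
    ⟨f d, f e, hf1 d h.memd, hf1 e heD, hfde, by rw [← map_mul, h.ot.mul_self h.memd, map_one],
      by rw [← map_mul, h.ot.mul_self heD, map_one], (hde.map f).eq⟩
  obtain ⟨t, Q, hset⟩ := Bender.rankOneHalf (G ⧸ Z) H hSE hHcore h2
  haveI := Bender.faithful_of_normalCore hHcore
  obtain ⟨L, hLn, hodd, hc⟩ := SuzukiRankOne.classify SuzukiRankOne.kernelShape SuzukiRankOne.Suzuki.suzukiShape hset h2
  haveI := hLn
  have hL : L = ⊤ := by
    rw [eq_top_iff, ← hgen', Subgroup.closure_le]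
    intro a ha
    refine (QuotientGroup.eq_one_iff (N := L) a).1 (orderOf_eq_one_iff.1 ?_)
    exact Nat.eq_one_of_dvd_coprimes (Nat.coprime_two_left.2 hodd)
      (orderOf_dvd_of_pow_eq_one (by rw [sq, ← QuotientGroup.mk_mul, hOT.mul_self ha, QuotientGroup.mk_one]))
      (orderOf_dvd_natCard _)
  let eL : L ≃* G ⧸ Z := (MulEquiv.subgroupCongr hL).trans Subgroup.topEquiv
  -- the centre is trivial once the odd Sylow subgroups of the quotient are abelian
  have hlift : (∀ (p : ℕ) [Fact p.Prime], p ≠ 2 → ∀ S : Sylow p (G ⧸ Z),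
      IsCyclic (S : Subgroup (G ⧸ Z))) → Z = ⊥ := by
    intro hcyc
    by_contra hne'
    obtain ⟨p, hp, hpd⟩ := Nat.exists_prime_and_dvd (fun h1 => hne' (Subgroup.card_eq_one.1 h1))
    haveI := Fact.mk hp
    have hp2 : p ≠ 2 := fun e' => by
      have := h.odd_center
      rw [← Nat.not_even_iff_odd, even_iff_two_dvd] at this
      exact this (e' ▸ hpd)
    obtain ⟨⟨z, hz⟩, hzo⟩ := exists_prime_orderOf_dvd_card' p hpd
    obtain ⟨P₀, hP⟩ := (IsPGroup.of_card (n := 1) (p := p) (G := Subgroup.zpowers z) (by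
      rw [pow_one, Nat.card_zpowers, ← hzo]
      exact (Subgroup.orderOf_coe (⟨z, hz⟩ : Z)))).exists_le_sylow
    obtain ⟨S, hS⟩ := (P₀.isPGroup'.map f).exists_le_sylow
    have hPc : IsMulCommutative (P₀ : Subgroup G) := by
      refine ⟨⟨fun a b => Subtype.ext ?_⟩⟩
      obtain ⟨⟨c', hc'S⟩, hgc⟩ := (hcyc p hp2 S).exists_generator
      obtain ⟨i, hi⟩ := Subgroup.mem_zpowers_iff.1 (hgc ⟨_, hS (Subgroup.mem_map_of_mem f a.2)⟩)
      obtain ⟨j, hj⟩ := Subgroup.mem_zpowers_iff.1 (hgc ⟨_, hS (Subgroup.mem_map_of_mem f b.2)⟩)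
      replace hi : c' ^ i = f a.1 := congrArg Subtype.val hi
      replace hj : c' ^ j = f b.1 := congrArg Subtype.val hj
      obtain ⟨c, rfl⟩ := hfs c' 
      rw [← map_zpow] at hi hj
      have hai : (c ^ i)⁻¹ * a.1 ∈ Z := (QuotientGroup.eq_one_iff _).1 (by
        show f ((c ^ i)⁻¹ * a.1) = 1
        rw [map_mul, map_inv, hi, inv_mul_cancel])
      have hbj : (c ^ j)⁻¹ * b.1 ∈ Z := (QuotientGroup.eq_one_iff _).1 (by
        show f ((c ^ j)⁻¹ * b.1) = 1
        rw [map_mul, map_inv, hj, inv_mul_cancel])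
      have c1 : Commute (c ^ i * ((c ^ i)⁻¹ * a.1)) (c ^ j * ((c ^ j)⁻¹ * b.1)) := by
        refine Commute.mul_left (Commute.mul_right (Commute.zpow_zpow_self c i j) ?_) ?_
        · exact Subgroup.mem_center_iff.1 hbj _
        · exact (Subgroup.mem_center_iff.1 hai _).symm
      rw [mul_inv_cancel_left, mul_inv_cancel_left] at c1
      exact c1.eq
    have h1 := Transfer.inf_commutator_inf_center_eq_bot (P₀ : Subgroup G) hPc P₀.card_coprime_index
    have h3 : z ∈ (P₀ : Subgroup G) ⊓ commutator G ⊓ Subgroup.center G :=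
      ⟨⟨hP (Subgroup.mem_zpowers z), h.commutator_eq_top.symm ▸ Subgroup.mem_top z⟩, hz⟩
    rw [h1, Subgroup.mem_bot] at h3
    have : orderOf (⟨z, hz⟩ : Z) = 1 := orderOf_eq_one_iff.2 (Subtype.ext h3)
    exact hp.ne_one (hzo.symm.trans this)
  have hGe : Z = ⊥ → Nonempty (G ≃* G ⧸ Z) := fun e' =>
    ⟨((QuotientGroup.quotientMulEquivOfEq e').trans QuotientGroup.quotientBot).symm⟩
  rcases hc with ⟨F, _, _, ⟨n, hn, hF⟩, ⟨e1⟩⟩ | ⟨F, _, _, m, hm, hF, ⟨e1⟩⟩ | ⟨F, _, _, n, hn, hF, ⟨e1⟩⟩
  · haveI : CharP F 2 := charP_of_card_eq_prime_pow hF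
    set e2 := eL.symm.trans e1
    have hcom : ∀ (p : ℕ) [Fact p.Prime], p ≠ 2 → ∀ S : Sylow p (G ⧸ Z), IsCyclic (S : Subgroup (G ⧸ Z)) := by
      intro p _ hp S
      let S' := S.comapOfInjective e2.symm.toMonoidHom e2.symm.injective (by
        rw [MonoidHom.range_eq_top_of_surjective _ e2.symm.surjective]; exact le_top)
      have hS' : IsCyclic (S' : Subgroup (PSL2.PSL2 F)) := psl_odd_sylow_cyclic hp S'
      exact isCyclic_of_surjective ((e2.symm.toMonoidHom.comp (S' : Subgroup (PSL2.PSL2 F)).subtype).codRestrict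
        (S : Subgroup (G ⧸ Z)) fun a => a.2) fun b => ⟨⟨e2 b.1, by
          show e2.symm (e2 b.1) ∈ (S : Subgroup _)
          rw [e2.symm_apply_apply]; exact b.2⟩, Subtype.ext (e2.symm_apply_apply b.1)⟩
    have hZ := hlift hcom
    obtain ⟨e3⟩ := hGe hZ
    refine Or.inl ⟨F, inferInstance, inferInstance, inferInstance, ?_, ⟨e3.trans e2⟩⟩
    rw [hF]; exact Nat.pow_le_pow_right (by norm_num : 1 ≤ 2) hn
  · set e2 := eL.symm.trans e1
    have hcom : ∀ (p : ℕ) [Fact p.Prime], p ≠ 2 → ∀ S : Sylow p (G ⧸ Z), IsCyclic (S : Subgroup (G ⧸ Z)) := by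
      intro p _ hp S
      let S' := S.comapOfInjective e2.symm.toMonoidHom e2.symm.injective (by
        rw [MonoidHom.range_eq_top_of_surjective _ e2.symm.surjective]; exact le_top)
      have hS' : IsCyclic (S' : Subgroup (Cfsg.Lie.Sz F (2 ^ (m + 1)))) := sz_odd_sylow_cyclic hm hF hp S'
      exact isCyclic_of_surjective
        ((e2.symm.toMonoidHom.comp (S' : Subgroup (Cfsg.Lie.Sz F (2 ^ (m + 1)))).subtype).codRestrict
        (S : Subgroup (G ⧸ Z)) fun a => a.2) fun b => ⟨⟨e2 b.1, by
          show e2.symm (e2 b.1) ∈ (S : Subgroup _)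
          rw [e2.symm_apply_apply]; exact b.2⟩, Subtype.ext (e2.symm_apply_apply b.1)⟩
    have hZ := hlift hcom
    obtain ⟨e3⟩ := hGe hZ
    exact Or.inr ⟨F, inferInstance, inferInstance, m, hm, hF, ⟨e3.trans e2⟩⟩
  · exfalso
    set e2 := eL.symm.trans e1
    refine psu_three_not_generated (q := 2 ^ n) hF (Nat.even_pow.2 ⟨even_two, by omega⟩)
      (le_trans (by norm_num) (Nat.pow_le_pow_right (by norm_num : 1 ≤ 2) (show 1 ≤ n by omega))) e2
      (E := f '' E) (x := f x) ?_ ?_ (hOT.inv _ (hmem x h.memx)) ?_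
    · rw [eq_top_iff, ← Subgroup.map_top_of_surjective f hfs, ← h.gen, MonoidHom.map_closure,
        Set.image_union, Set.image_singleton]
    · rintro _ ⟨a, ha, rfl⟩
      exact hOT.inv _ (hmem a (h.sub a ha).1)
    · rintro _ ⟨a, ha, rfl⟩ _ ⟨b, hb, rfl⟩
      refine Commute.map ?_ f
      obtain ⟨haD, has⟩ := h.sub a ha
      obtain ⟨hbD, hbs⟩ := h.sub b hb
      exact ((has.symm.trans hbs) a haD).1 (Commute.refl a)

end Hyp

end Cfsg.Agent.OddTrans
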