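/-
The subgroup generated by a same-commuting class and an odd partner (owner: helper28).

Main result (namespace `Cfsg.Agent.OddTrans`):
* `generated_mod_core` : modulo its 2-core it is `L₂(2^n)`, `Sz` or dihedral, given Aschbacher's criterion
-/
import Cfsg.Agent.Lib.OddTrans.RankOne

set_option autoImplicit false
set_option linter.unusedSectionVars false
set_option linter.style.haveILetI false

namespace Cfsg.Agent.OddTrans

open Cfsg

universe u

variable {G : Type u} [Group G] [Finite G] {D : Set G}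

theorem OT.sameC_of_mem (hD : OT D) {d e : G} (he : e ∈ sameCommutingClass D d) : e ∈ D ∧ SameC D d e := by
  obtain ⟨heD, heq⟩ := he
  refine ⟨heD, fun y hy => ?_⟩
  have h := Set.ext_iff.1 heq y
  simp only [commutingMembers, Set.mem_ofPred_eq] at h
  exact ⟨fun hc => (h.1 ⟨hy, hc⟩).2, fun hc => (h.2 ⟨hy, hc⟩).2⟩

/-- The structure of `⟨E_d, x⟩` modulo its 2-core. -/
theorem generated_mod_core (hA : Aschbacher.CoreFreeCriterion.{u}) (hD : OT D) {d x : G} (hd : d ∈ D)
    (hxD : x ∈ D) (hdx : ¬ Commute d x)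
    [(pCore 2 ↥(Subgroup.closure (sameCommutingClass D d ∪ {x}))).Normal] :
    (∃ (F : Type) (_ : Field F) (_ : Fintype F), CharP F 2 ∧ 4 ≤ Fintype.card F ∧
      Nonempty ((↥(Subgroup.closure (sameCommutingClass D d ∪ {x})) ⧸
        pCore 2 ↥(Subgroup.closure (sameCommutingClass D d ∪ {x}))) ≃*
          Matrix.ProjectiveSpecialLinearGroup (Fin 2) F)) ∨
    Cfsg.Lie.IsoSuzuki ((↥(Subgroup.closure (sameCommutingClass D d ∪ {x})) ⧸
        pCore 2 ↥(Subgroup.closure (sameCommutingClass D d ∪ {x})))) ∨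
    (∃ n : ℕ, Nonempty ((↥(Subgroup.closure (sameCommutingClass D d ∪ {x})) ⧸
        pCore 2 ↥(Subgroup.closure (sameCommutingClass D d ∪ {x}))) ≃* DihedralGroup n)) := by
  classical
  haveI : Fact (Nat.Prime 2) := ⟨Nat.prime_two⟩
  set S := sameCommutingClass D d ∪ {x} with hS
  set X := Subgroup.closure S with hX
  set O := pCore 2 ↥X with hO
  set f := QuotientGroup.mk' O with hf
  have hfs : Function.Surjective f := QuotientGroup.mk'_surjective O
  have hker : IsPGroup 2 f.ker := by rw [hf, QuotientGroup.ker_mk']; exact Cores.isPGroup_pCore 2 ↥X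
  have hDX := hD.sub X
  set DX : Set ↥X := Subtype.val ⁻¹' D with hDXdef
  have hOT := hDX.map hfs
  have hdS : d ∈ sameCommutingClass D d := ⟨hd, rfl⟩
  let dX : ↥X := ⟨d, Subgroup.subset_closure (Or.inl hdS)⟩
  let xX : ↥X := ⟨x, Subgroup.subset_closure (Or.inr rfl)⟩
  set EX : Set ↥X := Subtype.val ⁻¹' sameCommutingClass D d with hEX
  have hgenX : Subgroup.closure (EX ∪ {xX}) = ⊤ := by
    have h1 := Subgroup.closure_closure_coe_preimage (k := S)
    rw [← h1]
    congr 1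
    ext a
    simp [hS, hEX, xX, Subtype.ext_iff]
  have hncomm : ∀ e : ↥X, e ∈ EX → ¬ Commute (f e) (f xX) := by
    intro e he hc
    obtain ⟨heD, hes⟩ := hD.sameC_of_mem he
    have h1 := (hDX.commute_map_iff hker (a := e) (b := xX) heD hxD).1 hc
    exact hdx ((hes x hxD).2 (h1.map X.subtype).symm).symm
  have hne1 : ∀ e : ↥X, e ∈ EX → f e ≠ 1 := fun e he h1 => hncomm e he (h1 ▸ Commute.one_left _)
  have hx1 : f xX ≠ 1 := fun h1 => hncomm dX hdS (h1 ▸ Commute.one_right _)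
  have hgen : Subgroup.closure (f '' EX ∪ {f xX}) = ⊤ := by
    rw [← Set.image_singleton, ← Set.image_union, ← MonoidHom.map_closure, hgenX,
      Subgroup.map_top_of_surjective f hfs]
  have hd2 : orderOf (f dX) = 2 := hOT.inv _ ⟨⟨dX, hd, rfl⟩, hne1 dX hdS⟩
  have hx2 : orderOf (f xX) = 2 := hOT.inv _ ⟨⟨xX, hxD, rfl⟩, hx1⟩
  by_cases htwo : ∃ e ∈ EX, f e ≠ f dX
  · have hH : Hyp ((f '' DX) \ {1}) (f '' EX) (f dX) (f xX) := by
      refine ⟨hOT, Cores.pCore_quotient_self 2 ↥X, ⟨⟨dX, hd, rfl⟩, hne1 dX hdS⟩, ⟨⟨xX, hxD, rfl⟩, hx1⟩,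
        hncomm dX hdS, ?_, hgen, ?_⟩
      · rintro _ ⟨e, he, rfl⟩
        obtain ⟨heD, hes⟩ := hD.sameC_of_mem he
        refine ⟨⟨⟨e, heD, rfl⟩, hne1 e he⟩, hDX.sameC_map hker (a := dX) (b := e) hd heD fun y hy => ?_⟩
        exact ⟨fun hc => Subtype.ext ((hes y.1 hy).1 (hc.map X.subtype)).eq,
          fun hc => Subtype.ext ((hes y.1 hy).2 (hc.map X.subtype)).eq⟩
      · obtain ⟨e, he, hne⟩ := htwo
        exact ⟨f e, ⟨e, he, rfl⟩, hne⟩
    rcases hH.classify hA with h | h
    · exact Or.inl h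
    · exact Or.inr (Or.inl h)
  · push Not at htwo
    refine Or.inr (Or.inr ⟨orderOf (f dX * f xX), ?_⟩)
    have hne : f dX ≠ f xX := fun e => hncomm dX hdS (e ▸ Commute.refl _)
    have htop : Subgroup.closure ({f dX, f xX} : Set (↥X ⧸ O)) = ⊤ := by
      rw [eq_top_iff, ← hgen, Subgroup.closure_le]
      rintro _ (⟨e, he, rfl⟩ | rfl)
      · exact Subgroup.subset_closure (by rw [htwo e he]; exact Or.inl rfl)
      · exact Subgroup.subset_closure (Or.inr rfl)
    exact ⟨((Involution.dihedralEquiv hd2 hx2 hne).trans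
      ((MulEquiv.subgroupCongr htop).trans Subgroup.topEquiv)).symm⟩

end Cfsg.Agent.OddTrans
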