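/-
A class of odd transpositions with trivial 2-core and a line (owner: helper28).

Main results (namespace `Cfsg.Agent.OddTrans`):
* `Ecl D d`, `rootGen D d x`, `Std D` : the class `E_d`, the group `⟨E_d, x⟩`, the standing hypotheses
* `Std.mul_mem`, `Std.two`, `Std.eq_one_of_central` : the basic properties
* `Std.exists_B` : a member commuting with `d`, outside `E_d`, gives an element centralising `⟨E_d, x⟩`
-/
import Cfsg.Agent.Lib.OddTrans.RankOne

set_option autoImplicit false
set_option linter.unusedSectionVars false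

namespace Cfsg.Agent.OddTrans

open Cfsg

universe u

variable {G : Type u} [Group G]

/-- The members commuting with the same members as `d`. -/
def Ecl (D : Set G) (d : G) : Set G := {e | e ∈ D ∧ SameC D d e}

/-- The group generated by the class of `d` and `x`. -/
def rootGen (D : Set G) (d x : G) : Subgroup G := Subgroup.closure (Ecl D d ∪ {x})

theorem mem_Ecl {D : Set G} {d e : G} : e ∈ Ecl D d ↔ e ∈ D ∧ SameC D d e := Iff.rfl

theorem self_mem_Ecl {D : Set G} {d : G} (hd : d ∈ D) : d ∈ Ecl D d := ⟨hd, SameC.refl D d⟩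

theorem Ecl_eq {D : Set G} {d e : G} (h : SameC D d e) : Ecl D e = Ecl D d := by
  ext y
  exact and_congr_right fun _ => ⟨h.trans, h.symm.trans⟩

theorem commute_of_mem_Ecl {D : Set G} {d e e' : G} (he : e ∈ Ecl D d) (he' : e' ∈ Ecl D d) :
    Commute e e' :=
  ((he.2.symm.trans he'.2) e he.1).1 (Commute.refl e)

theorem commute_Ecl {D : Set G} {d e y : G} (hy : y ∈ D) (he : e ∈ Ecl D d) (h : Commute y d) :
    Commute y e :=
  (he.2 y hy).1 h

theorem not_commute_Ecl {D : Set G} {d e y : G} (hy : y ∈ D) (he : e ∈ Ecl D d) (h : ¬ Commute y d) :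
    ¬ Commute y e := fun hc => h ((he.2 y hy).2 hc)

theorem Ecl_subset {D : Set G} {d : G} : Ecl D d ⊆ D := fun _ h => h.1

theorem sameCommutingClass_eq (D : Set G) {d : G} : sameCommutingClass D d = Ecl D d := by
  ext e
  refine and_congr_right fun _ => ?_
  rw [commutingMembers, commutingMembers, Set.ext_iff]
  refine ⟨fun h y hy => ?_, fun h y => ?_⟩
  · have := h y
    simp only [Set.mem_ofPred_eq, hy, true_and] at this
    exact this
  · simp only [Set.mem_ofPred_eq]
    exact and_congr_right fun hy => h y hy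

namespace OT

variable {D : Set G} (hD : OT D)
include hD

theorem Ecl_conj (g d : G) : Ecl D (g * d * g⁻¹) = (fun e => g * e * g⁻¹) '' Ecl D d := by
  ext y
  constructor
  · rintro ⟨hy, hs⟩
    refine ⟨g⁻¹ * y * g, ⟨by simpa using hD.conj g⁻¹ y hy, ?_⟩, by group⟩
    have h := hD.sameC_conj g⁻¹ hs
    rwa [show g⁻¹ * (g * d * g⁻¹) * g⁻¹⁻¹ = d by group, inv_inv] at h
  · rintro ⟨e, ⟨he, hs⟩, rfl⟩
    exact ⟨hD.conj g e he, hD.sameC_conj g hs⟩

theorem conj_mem_Ecl (g : G) {d e : G} (he : e ∈ Ecl D d) : g * e * g⁻¹ ∈ Ecl D (g * d * g⁻¹) :=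
  hD.Ecl_conj g d ▸ ⟨e, he, rfl⟩

theorem line_commute {a b y : G} (ha : a ∈ D) (hb : b ∈ D) (hab : Commute a b) (hc : a * b ∈ D)
    (hy : y ∈ D) (h : Commute y a) : Commute y b := by
  by_contra hyb
  have hne : ¬ Commute y (a * b) := fun e => hyb (by
    have := h.mul_right e
    rwa [← mul_assoc, hD.mul_self ha, one_mul] at this)
  have ho := hD.odd_of hy hc hne
  have ho' := hD.odd_of hy hb hyb
  have e1 : y * (a * b) = a * (y * b) := by rw [← mul_assoc, h.eq, mul_assoc]
  have hcomm : Commute a (y * b) := h.symm.mul_right hab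
  rw [e1, hcomm.orderOf_mul_eq_mul_orderOf_of_coprime (hD.inv a ha ▸ Nat.coprime_two_left.2 ho'),
    hD.inv a ha] at ho
  exact absurd ho (Nat.not_odd_iff_even.2 (by simp))

theorem sameC_of_line {a b : G} (ha : a ∈ D) (hb : b ∈ D) (hab : Commute a b) (hc : a * b ∈ D) :
    SameC D a b :=
  fun _ hy => ⟨hD.line_commute ha hb hab hc hy, hD.line_commute hb ha hab.symm (hab.eq ▸ hc) hy⟩

end OT

/-- A class of odd transpositions generating a group with trivial 2-core, with a line. -/
structure Std (D : Set G) : Prop where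
  ot : OT D
  gen : Subgroup.closure D = ⊤
  isConj : ∀ a ∈ D, ∀ b ∈ D, IsConj a b
  core : pCore 2 G = ⊥
  line : ∃ a ∈ D, ∃ b ∈ D, a ≠ b ∧ Commute a b ∧ a * b ∈ D

namespace Std

variable [Finite G] {D : Set G} (h : Std D)
include h

theorem commute_all {u : G} (hu : ∀ b ∈ D, Commute u b) (g : G) : Commute u g := by
  have hle : Subgroup.closure D ≤ Subgroup.centralizer ({u} : Set G) := by
    rw [Subgroup.closure_le]
    exact fun b hb => Subgroup.mem_centralizer_singleton_iff.2 (hu b hb).symm.eq
  rw [h.gen] at hle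
  exact (Subgroup.mem_centralizer_singleton_iff.1 (hle (Subgroup.mem_top g))).symm

theorem eq_one_of_central {u : G} (hu : u * u = 1) (hc : ∀ b ∈ D, Commute u b) : u = 1 := by
  have := mem_pCore_of_central hu (h.commute_all hc)
  rwa [h.core, Subgroup.mem_bot] at this

theorem exists_partner {a : G} (ha : a ∈ D) : ∃ y ∈ D, ¬ Commute a y := by
  by_contra hall
  push Not at hall
  exact Involution.ne_one (h.ot.inv a ha) (h.eq_one_of_central (h.ot.mul_self ha) hall)

theorem two {d : G} (hd : d ∈ D) : ∃ e ∈ Ecl D d, e ≠ d := by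
  obtain ⟨a, ha, b, hb, hne, hab, hc⟩ := h.line
  obtain ⟨g, rfl⟩ := isConj_iff.1 (h.isConj a ha d hd)
  refine ⟨g * b * g⁻¹, h.ot.conj_mem_Ecl g ⟨hb, h.ot.sameC_of_line ha hb hab hc⟩, fun e => hne ?_⟩
  exact (mul_left_cancel (mul_right_cancel e)).symm

theorem mul_mem {d e e' : G} (he : e ∈ Ecl D d) (he' : e' ∈ Ecl D d) (hne : e ≠ e') :
    e * e' ∈ Ecl D d := by
  obtain ⟨h1, h2⟩ := mul_mem_of_sameC h.ot h.core he.1 he'.1 (commute_of_mem_Ecl he he') hne
    (he.2.symm.trans he'.2)
  exact ⟨h1, he.2.trans h2⟩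

/-- `E_d` together with `1`. -/
theorem coe_closure_Ecl {d : G} (hd : d ∈ D) : (Subgroup.closure (Ecl D d) : Set G) = Ecl D d ∪ {1} := by
  refine Set.Subset.antisymm (fun g hg => ?_) ?_
  · induction hg using Subgroup.closure_induction with
    | mem g hg => exact Or.inl hg
    | one => exact Or.inr rfl
    | mul a b _ _ ha hb =>
      rcases ha with ha | rfl
      · rcases hb with hb | rfl
        · rcases eq_or_ne a b with rfl | hne
          · exact Or.inr (h.ot.mul_self ha.1)
          · exact Or.inl (h.mul_mem ha hb hne)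
        · exact Or.inl (by rwa [mul_one])
      · rwa [one_mul]
    | inv a _ ha =>
      rcases ha with ha | rfl
      · exact Or.inl (by rwa [h.ot.inv_eq ha.1])
      · exact Or.inr inv_one
  · rintro g (hg | rfl)
    · exact Subgroup.subset_closure hg
    · exact one_mem _

theorem sameC_of_subset {a b : G} (ha : a ∈ D) (hb : b ∈ D) (hs : ∀ y ∈ D, Commute y a → Commute y b) :
    SameC D a b :=
  h.ot.sameC_of_subset (h.isConj a ha b hb) hs

theorem card_Ecl {a b : G} (ha : a ∈ D) (hb : b ∈ D) : (Ecl D a).ncard = (Ecl D b).ncard := by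
  obtain ⟨g, rfl⟩ := isConj_iff.1 (h.isConj a ha b hb)
  rw [h.ot.Ecl_conj, Set.ncard_image_of_injective]
  exact fun x y e => mul_left_cancel (mul_right_cancel e)

theorem exists_separating {a b : G} (ha : a ∈ D) (hb : b ∈ D) (hne : b ∉ Ecl D a) :
    ∃ y ∈ D, Commute y a ∧ ¬ Commute y b := by
  by_contra hall
  push Not at hall
  exact hne ⟨hb, h.sameC_of_subset ha hb hall⟩

/-- The key consequence of a member `a` commuting with `d` outside `E_d`. -/
theorem exists_B {d x a : G} (hd : d ∈ D) (hx : x ∈ D) (ha : a ∈ D) (hdx : ¬ Commute d x)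
    (had : Commute a d) (hna : a ∉ Ecl D d) :
    ∃ e ∈ Ecl D d, ∃ k ∈ D, k ≠ a ∧ Commute k e ∧ Commute k a ∧ k * (a * e) ≠ 1 ∧
      k * (a * e) * (k * (a * e)) = 1 ∧ (∀ b ∈ Ecl D d, Commute (k * (a * e)) b) ∧
      Commute (k * (a * e)) x ∧ Commute (k * (a * e)) a := by
  have hot := h.ot
  have hae : ∀ e ∈ Ecl D d, a ≠ e := fun e he e' => hna (e' ▸ he)
  by_contra hnone
  -- every pair is of commuting type
  have hA : ∀ e ∈ Ecl D d, Commute x (a * e * x * (a * e)) := by
    intro e he
    by_contra hB
    have hc : Commute a e := commute_Ecl ha he had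
    have hu := mul_self_of_commute (hot.mul_self ha) (hot.mul_self he.1) hc
    obtain ⟨k, hk, hek, hkx, hkv, -⟩ := hot.exists_middle hx hu hB
    have hka : Commute k a := hot.commute_of_commute_mul ha he.1 hk hc (hae e he) hkv
    have hke : Commute k e := hot.commute_of_commute_mul_right ha he.1 hk hc (hae e he) hkv
    have hne : k * (a * e) ≠ 1 := by
      intro hw
      rw [mul_eq_one_iff_eq_inv, inv_of_mul_self hu] at hw
      refine hna ⟨ha, he.2.trans (hot.sameC_of_line ha he.1 hc (hw ▸ hk)).symm⟩
    refine hnone ⟨e, he, k, hk, fun e' => ?_, hke, hka, hne,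
      mul_self_of_commute (hot.mul_self hk) hu hkv, fun b hb => ?_, ?_,
      hka.mul_left ((Commute.refl a).mul_left hc.symm)⟩
    · subst e'
      have e1 : k * (k * e) = e := by rw [← mul_assoc, hot.mul_self hk, one_mul]
      have hxe : Commute (k * (k * e)) x := by
        show k * (k * e) * x = x * (k * (k * e))
        calc k * (k * e) * x = k * (k * e * x * (k * e)) * (k * e) := by
              rw [show k * (k * e * x * (k * e)) * (k * e) = k * (k * e) * x * (k * e * (k * e)) by group,
                hu, mul_one]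
          _ = k * (k * x * k) * (k * e) := by rw [hek]
          _ = x * (k * (k * e)) := by
              rw [show k * (k * x * k) * (k * e) = k * k * x * (k * (k * e)) by group, hot.mul_self hk,
                one_mul]
      rw [e1] at hxe
      exact hdx ((he.2 x hx).2 hxe.symm).symm
    · exact (commute_Ecl hk hb ((he.2 k hk).2 hke)).mul_left
        ((commute_Ecl ha hb had).mul_left (commute_of_mem_Ecl he hb))
    · show k * (a * e) * x = x * (k * (a * e))
      calc k * (a * e) * x = k * (a * e * x * (a * e)) * (a * e) := by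
            rw [show k * (a * e * x * (a * e)) * (a * e) = k * (a * e) * x * (a * e * (a * e)) by group,
              hu, mul_one]
        _ = k * (k * x * k) * (a * e) := by rw [hek]
        _ = x * (k * (a * e)) := by
            rw [show k * (k * x * k) * (a * e) = k * k * x * (k * (a * e)) by group, hot.mul_self hk,
              one_mul]
  obtain ⟨e, he, hne⟩ := h.two hd
  have hde : Commute d e := commute_of_mem_Ecl (self_mem_Ecl hd) he
  have hl : d * e ∈ Ecl D d := h.mul_mem (self_mem_Ecl hd) he hne.symm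
  set l := d * e with hldef
  have hll := hot.mul_self hl.1
  have hconj : ∀ b ∈ Ecl D d, Commute (a * x * a) (b * x * b) := by
    intro b hb
    have hc : Commute a b := commute_Ecl ha hb had
    have h1 := (conj_commute_iff (v := a)).2 (hA b hb)
    rw [hot.inv_eq ha] at h1
    have e1 : a * (a * b * x * (a * b)) * a = b * x * b := by
      rw [show a * (a * b * x * (a * b)) * a = a * a * b * x * (a * b * a) by group, hot.mul_self ha,
        one_mul, hc.eq, mul_assoc b a a, hot.mul_self ha, mul_one]
    rwa [e1] at h1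
  have hxl : ¬ Commute x l := fun hc => hdx ((hl.2 x hx).2 hc).symm
  have hzD : e * x * e ∈ D := hot.conj' (hot.mul_self he.1) hx
  have hlz : ¬ Commute l (e * x * e) := by
    intro hc
    have h1 := (conj_commute_iff (v := e)).2 hc
    have hel : Commute e l := hde.symm.mul_right (Commute.refl e)
    rw [conj_eq_of_commute hel, hot.inv_eq he.1,
      show e * (e * x * e) * e = e * e * x * (e * e) by group, hot.mul_self he.1, one_mul, mul_one] at h1
    exact hxl h1.symm
  obtain ⟨k, hk, hek, hkz, hkl, hmid⟩ := hot.exists_middle hzD hll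
    (fun hc => hlz ((hot.commute_of_conj hzD hl.1 hc).symm))
  have hkl' : k = l := hot.middle_unique hzD hk hl.1 hkz hkl hek
  have hlex : l * (e * x * e) * l = d * x * d := by
    rw [hldef, show d * e * (e * x * e) * (d * e) = d * (e * e) * x * (e * d) * e by group,
      hot.mul_self he.1, mul_one, ← hde.eq,
      show d * x * (d * e) * e = d * x * d * (e * e) by group, hot.mul_self he.1, mul_one]
  have hc1 : Commute (a * x * a) l :=
    hkl' ▸ hmid _ (hconj e he) (hlex.symm ▸ hconj d (self_mem_Ecl hd))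
  have h2 := (conj_commute_iff (v := a)).2 hc1
  rw [conj_eq_of_commute (commute_Ecl ha hl had), hot.inv_eq ha,
    show a * (a * x * a) * a = a * a * x * (a * a) by group, hot.mul_self ha, one_mul, mul_one] at h2
  exact hxl h2

end Std

section rootGen

variable {D : Set G}

theorem subset_rootGen {d x e : G} (he : e ∈ Ecl D d) : e ∈ rootGen D d x :=
  Subgroup.subset_closure (Or.inl he)

theorem mem_rootGen {d x : G} : x ∈ rootGen D d x := Subgroup.subset_closure (Or.inr rfl)

theorem self_rootGen {d x : G} (hd : d ∈ D) : d ∈ rootGen D d x := subset_rootGen (self_mem_Ecl hd)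

theorem rootGen_congr {d e x : G} (h : SameC D d e) : rootGen D e x = rootGen D d x := by
  rw [rootGen, rootGen, Ecl_eq h]

theorem commute_rootGen {d x w : G} (hE : ∀ e ∈ Ecl D d, Commute w e) (hx : Commute w x) {g : G}
    (hg : g ∈ rootGen D d x) : Commute w g := by
  have hle : rootGen D d x ≤ Subgroup.centralizer ({w} : Set G) := by
    rw [rootGen, Subgroup.closure_le]
    rintro e (he | rfl)
    · exact Subgroup.mem_centralizer_singleton_iff.2 (hE e he).symm.eq
    · exact Subgroup.mem_centralizer_singleton_iff.2 hx.symm.eq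
  exact (Subgroup.mem_centralizer_singleton_iff.1 (hle hg)).symm

/-- A member commuting with `d` and `x` centralises `⟨E_d, x⟩`. -/
theorem member_commute_rootGen {d x c : G} (hc : c ∈ D) (hcd : Commute c d) (hcx : Commute c x) {g : G}
    (hg : g ∈ rootGen D d x) : Commute c g :=
  commute_rootGen (fun _ he => commute_Ecl hc he hcd) hcx hg

theorem OT.exists_conj_mem (hD : OT D) {a b : G} (ha : a ∈ D) (hb : b ∈ D) (hab : ¬ Commute a b) :
    ∃ g ∈ Subgroup.closure ({a, b} : Set G), g * a * g⁻¹ = b :=
  Involution.exists_conj_of_odd (hD.inv a ha) (hD.inv b hb) (hD.odd_of ha hb hab)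

theorem OT.rootGen_le (hD : OT D) {d x : G} (hd : d ∈ D) (hx : x ∈ D) (hdx : ¬ Commute d x) :
    rootGen D x d ≤ rootGen D d x := by
  obtain ⟨g, hg, hgd⟩ := hD.exists_conj_mem hd hx hdx
  have hgX : g ∈ rootGen D d x := (Subgroup.closure_le _).2 (by
    rintro _ (rfl | rfl)
    · exact self_rootGen hd
    · exact mem_rootGen) hg
  rw [rootGen, Subgroup.closure_le]
  rintro e (he | rfl)
  · rw [← hgd, hD.Ecl_conj] at he
    obtain ⟨e', he', rfl⟩ := he
    exact mul_mem (mul_mem hgX (subset_rootGen he')) (inv_mem hgX)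
  · exact self_rootGen hd

theorem OT.rootGen_symm (hD : OT D) {d x : G} (hd : d ∈ D) (hx : x ∈ D) (hdx : ¬ Commute d x) :
    rootGen D x d = rootGen D d x :=
  le_antisymm (hD.rootGen_le hd hx hdx) (hD.rootGen_le hx hd fun e => hdx e.symm)

theorem OT.Ecl_le_rootGen (hD : OT D) {d x e : G} (hd : d ∈ D) (hx : x ∈ D) (hdx : ¬ Commute d x)
    (he : e ∈ Ecl D x) : e ∈ rootGen D d x :=
  hD.rootGen_le hd hx hdx (subset_rootGen he)

end rootGen

end Cfsg.Agent.OddTrans
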